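import Cfsg.Agent.Lib.FourFree.Basics
import Mathlib.GroupTheory.Index
import Mathlib.Data.ZMod.Basic
import Mathlib.SetTheory.Cardinal.Finite
import Mathlib.Tactic.LinearCombination
import Mathlib.Tactic.Ring

/-!
# Warning's bound for functions of bounded degree on a finite group

`Deg d g` says that all `(d + 1)`-fold derivatives of `g : X → 𝔽₂` vanish.  A non-zero such
function has at least `|X| / 2 ^ d` points in its support.  Hence a map `f` to an elementary
abelian `2`-group `Y`, multiplicative up to a bilinear deviation in `R`, has at least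
`|X| / (|Y| |R|)` zeros.
-/

set_option autoImplicit false

open Subgroup

namespace CfsgLib.FourFree

universe u v

variable {X : Type u} [Group X]

/-- All `(d + 1)`-fold derivatives vanish. -/
def Deg : ℕ → (X → ZMod 2) → Prop
  | 0, g => ∀ x y, g x = g y
  | d + 1, g => ∀ t, Deg d fun x => g (x * t) + g x

theorem Deg.succ {d : ℕ} : ∀ {g : X → ZMod 2}, Deg d g → Deg (d + 1) g := by
  induction d with
  | zero => intro g h t x y; show g _ + g _ = g _ + g _; rw [h (x * t) (y * t), h x y]
  | succ d ih => intro g h t; exact ih (h t)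

theorem Deg.mono {d e : ℕ} (hde : d ≤ e) {g : X → ZMod 2} (h : Deg d g) : Deg e g := by
  induction hde with
  | refl => exact h
  | step _ ih => exact ih.succ

theorem Deg.add {d : ℕ} : ∀ {g k : X → ZMod 2}, Deg d g → Deg d k → Deg d fun x => g x + k x := by
  induction d with
  | zero => intro g k hg hk x y; show g x + k x = g y + k y; rw [hg x y, hk x y]
  | succ d ih =>
    intro g k hg hk t
    convert ih (hg t) (hk t) using 1
    funext x
    ring

theorem Deg.shift {d : ℕ} : ∀ {g : X → ZMod 2}, Deg d g → ∀ s, Deg d fun x => g (x * s) := by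
  induction d with
  | zero => intro g hg s x y; exact hg _ _
  | succ d ih =>
    intro g hg s t
    convert ih (hg (s⁻¹ * t * s)) s using 1
    funext x
    simp only [mul_assoc, mul_inv_cancel_left]

theorem Deg.mul : ∀ {a b : ℕ} {g k : X → ZMod 2}, Deg a g → Deg b k →
    Deg (a + b) fun x => g x * k x := by
  intro a b
  induction hn : a + b using Nat.strong_induction_on generalizing a b with
  | _ n ih =>
  intro g k hg hk
  subst hn
  rcases Nat.eq_zero_or_pos (a + b) with h0 | hpos
  · obtain ⟨rfl, rfl⟩ : a = 0 ∧ b = 0 := ⟨by omega, by omega⟩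
    intro x y
    show g x * k x = g y * k y
    rw [hg x y, hk x y]
  obtain ⟨m, hm⟩ : ∃ m, a + b = m + 1 := ⟨a + b - 1, by omega⟩
  rw [hm]
  intro t
  have h1 : Deg m fun x => (g (x * t) + g x) * k (x * t) := by
    cases a with
    | zero =>
      have e : ∀ x, g (x * t) + g x = 0 := fun x => by
        rw [hg (x * t) x, ← two_mul, show (2 : ZMod 2) = 0 from rfl, zero_mul]
      simp only [e, zero_mul]
      exact Deg.mono (Nat.zero_le _) fun _ _ => rfl
    | succ a => exact Deg.mono (by omega) (ih (a + b) (by omega) rfl (hg t) (hk.shift t))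
  have h2 : Deg m fun x => g x * (k (x * t) + k x) := by
    cases b with
    | zero =>
      have e : ∀ x, k (x * t) + k x = 0 := fun x => by
        rw [hk (x * t) x, ← two_mul, show (2 : ZMod 2) = 0 from rfl, zero_mul]
      simp only [e, mul_zero]
      exact Deg.mono (Nat.zero_le _) fun _ _ => rfl
    | succ b => exact Deg.mono (by omega) (ih (a + b) (by omega) rfl hg (hk t))
  convert h1.add h2 using 1
  funext x
  have e := two_mul (g x * k (x * t))
  rw [show (2 : ZMod 2) = 0 from rfl, zero_mul] at e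
  linear_combination e

/-- A non-zero function of degree at most `d` has support of size at least `|X| / 2 ^ d`. -/
theorem Deg.card_le [Finite X] {d : ℕ} : ∀ {g : X → ZMod 2}, Deg d g → (∃ x, g x ≠ 0) →
    Nat.card X ≤ 2 ^ d * Nat.card {x // g x ≠ 0} := by
  induction d with
  | zero =>
    intro g hg ⟨x, hx⟩
    rw [pow_zero, one_mul]
    exact Nat.card_le_card_of_injective (fun y => ⟨y, by rw [hg y x]; exact hx⟩)
      fun y z e => congrArg Subtype.val e
  | succ d ih =>
    intro g hg hne
    by_cases hd : ∃ t x, g (x * t) + g x ≠ 0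
    · obtain ⟨t, x, hx⟩ := hd
      refine (ih (hg t) ⟨x, hx⟩).trans ?_
      have h1 : Nat.card {x // g (x * t) + g x ≠ 0} ≤
          Nat.card ({x // g x ≠ 0} ⊕ {x // g x ≠ 0}) := by
        classical
        refine Nat.card_le_card_of_injective (fun y => if h : g y ≠ 0 then Sum.inl ⟨y, h⟩ else
          Sum.inr ⟨y * t, fun e => y.2 (by rw [e, not_not.1 h, add_zero])⟩) fun y z e => ?_
        apply Subtype.ext
        by_cases hy : g y ≠ 0 <;> by_cases hz : g z ≠ 0 <;> simp [hy, hz] at e <;> exact e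
      rw [Nat.card_sum] at h1
      calc 2 ^ d * Nat.card {x // g (x * t) + g x ≠ 0}
          ≤ 2 ^ d * (Nat.card {x // g x ≠ 0} + Nat.card {x // g x ≠ 0}) := Nat.mul_le_mul le_rfl h1
        _ = _ := by ring
    · push Not at hd
      obtain ⟨x, hx⟩ := hne
      have hc : ∀ y, g y ≠ 0 := fun y e => hx (by
        have := hd (x⁻¹ * y) x
        rwa [mul_inv_cancel_left, e, zero_add] at this)
      refine le_trans ?_ (Nat.le_mul_of_pos_left _ (pow_pos two_pos _))
      exact Nat.card_le_card_of_injective (fun y => ⟨y, hc y⟩) fun y z e => congrArg Subtype.val e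

variable {Y : Type v} [CommGroup Y]

/-- A subgroup avoiding `y` lies in a subgroup of index two avoiding `y`, for exponent two. -/
theorem exists_index_two [Finite Y] (h2 : ∀ y : Y, y * y = 1) {K : Subgroup Y} {y : Y}
    (hy : y ∉ K) : ∃ M : Subgroup Y, K ≤ M ∧ y ∉ M ∧ M.index = 2 := by
  obtain ⟨M, ⟨hKM, hyM⟩, hmax⟩ :=
    (Set.toFinite {M : Subgroup Y | K ≤ M ∧ y ∉ M}).exists_maximal ⟨K, le_rfl, hy⟩
  refine ⟨M, hKM, hyM, index_eq_two_iff.2 ⟨y, fun w => ?_⟩⟩
  by_cases hw : w ∈ M
  · exact Or.inr ⟨hw, fun h => hyM ((mul_mem_cancel_left hw).1 h)⟩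
  · refine Or.inl ⟨?_, hw⟩
    have hlt : ¬ M ⊔ zpowers w ≤ M := fun h => hw (h (mem_sup_right (mem_zpowers w)))
    have hyw : y ∈ M ⊔ zpowers w := by
      by_contra hn
      exact hlt (hmax ⟨hKM.trans le_sup_left, hn⟩ le_sup_left)
    obtain ⟨m, hm, s, hs, hms⟩ := Subgroup.mem_sup.1 hyw
    obtain ⟨i, rfl⟩ := mem_zpowers_iff.1 hs
    rcases Int.even_or_odd i with ⟨j, rfl⟩ | ⟨j, rfl⟩
    · rw [zpow_add, ← mul_zpow, h2, one_zpow, mul_one] at hms
      exact absurd (hms ▸ hm) hyM
    · rw [zpow_add, two_mul, zpow_add, ← mul_zpow, h2, one_zpow, one_mul, zpow_one] at hms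
      rw [← hms, mul_left_comm, h2, mul_one]
      exact hm

/-- A subgroup not inside a subgroup of index two meets it in a subgroup of index two. -/
theorem card_eq_two_mul [Finite Y] {M : Subgroup Y} (hM : M.index = 2) {K : Subgroup Y} {y : Y}
    (hyK : y ∈ K) (hyM : y ∉ M) : Nat.card K = 2 * Nat.card (K ⊓ M : Subgroup Y) := by
  have h1 : M.relIndex K ∣ 2 := hM ▸ relIndex_dvd_index_of_normal M K
  have h2 : M.relIndex K ≠ 1 := fun e => hyM (relIndex_eq_one.1 e hyK)
  have h3 : M.relIndex K = 2 := ((Nat.dvd_prime Nat.prime_two).1 h1).resolve_left h2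
  rw [← h3, ← inf_relIndex_left K M, mul_comm,
    CfsgLib.CFun.card_mul_relIndex' (inf_le_left : K ⊓ M ≤ K)]

/-- At least `|X| / (|Y| |R|)` zeros for a map multiplicative up to a bilinear deviation in `R`. -/
theorem card_le_card_zeros [Finite X] [Finite Y] (h2 : ∀ y : Y, y * y = 1) (f : X → Y)
    (R : Subgroup Y) (hR : ∀ x t, f (x * t) / (f x * f t) ∈ R)
    (hbil : ∀ x s t, f (x * s * t) / (f (x * s) * f t) =
      f (x * t) / (f x * f t) * (f (s * t) / (f s * f t))) :
    Nat.card X ≤ Nat.card Y * Nat.card R * Nat.card {x // f x = 1} := by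
  classical
  set β : X → X → Y := fun x t => f (x * t) / (f x * f t) with hβ
  have hf : ∀ x t, f (x * t) = β x t * (f x * f t) := fun x t => (div_mul_cancel _ _).symm
  have hf1 : f 1 = 1 := by
    have h := hbil 1 1 1
    rw [mul_one, mul_one] at h
    have h' : f 1 / (f 1 * f 1) = 1 := mul_left_cancel (h.symm.trans (mul_one _).symm)
    rw [h2, div_one] at h'
    exact h'
  have main : ∀ (n : ℕ) (K : Subgroup Y), Nat.card Y - Nat.card K = n →
      ∃ d, Deg d (fun x => if f x ∈ K then (1 : ZMod 2) else 0) ∧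
        2 ^ d * Nat.card K * Nat.card (K ⊓ R : Subgroup Y) ≤ Nat.card Y * Nat.card R := by
    intro n
    induction n using Nat.strong_induction_on with
    | _ n ih =>
    intro K hK
    by_cases htop : K = ⊤
    · subst htop
      exact ⟨0, fun x y => by simp, by rw [pow_zero, one_mul, top_inf_eq, card_top]⟩
    obtain ⟨y, hy, hyR⟩ : ∃ y, y ∉ K ∧ (y ∈ R ∨ R ≤ K) := by
      by_cases hle : R ≤ K
      · obtain ⟨y, hy⟩ := not_forall.1 fun h => htop ((Subgroup.eq_top_iff' K).2 h)
        exact ⟨y, hy, Or.inr hle⟩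
      · obtain ⟨y, hyR, hy⟩ := SetLike.not_le_iff_exists.1 hle
        exact ⟨y, hy, Or.inl hyR⟩
    obtain ⟨M, hKM, hyM, hM⟩ := exists_index_two h2 hy
    set K' := K ⊔ zpowers y with hK'
    have hKK' : K' ⊓ M = K := by
      refine le_antisymm (fun w hw => ?_) (le_inf le_sup_left hKM)
      obtain ⟨k, hk, s, hs, rfl⟩ := Subgroup.mem_sup.1 hw.1
      obtain ⟨i, rfl⟩ := mem_zpowers_iff.1 hs
      rcases Int.even_or_odd i with ⟨j, rfl⟩ | ⟨j, rfl⟩
      · rwa [zpow_add, ← mul_zpow, h2, one_zpow, mul_one]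
      · have e : y ^ (2 * j + 1) = y := by
          rw [zpow_add, two_mul, zpow_add, ← mul_zpow, h2, one_zpow, one_mul, zpow_one]
        rw [e] at hw
        exact absurd ((mul_mem_cancel_left (hKM hk)).1 hw.2) hyM
    have hlt : K < K' := lt_of_le_of_ne le_sup_left fun e =>
      hy (e.ge (mem_sup_right (mem_zpowers y)))
    have hlt' : Nat.card K < Nat.card K' := lt_of_le_of_ne (card_le_of_le hlt.le) fun e =>
      hlt.ne (eq_of_le_of_card_ge hlt.le e.ge)
    have hle' : Nat.card K' ≤ Nat.card Y := card_le_card_group K'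
    obtain ⟨d, hd, hcard⟩ := ih _ (by omega) K' rfl
    -- the new factor
    set l : Y → ZMod 2 := fun w => if w ∈ M then 0 else 1 with hl
    have hladd : ∀ v w, l (v * w) = l v + l w := fun v w => by
      have := mul_mem_iff_of_index_two hM (a := v) (b := w)
      by_cases h1 : v ∈ M <;> by_cases h3 : w ∈ M <;> simp [hl, this, h1, h3] <;> rfl
    have hstep : ∀ t x, l (f (x * t)) + l (f x) = l (f t) + l (β x t) := fun t x => by
      rw [hf, hladd, hladd]
      have e := two_mul (l (f x))
      rw [show (2 : ZMod 2) = 0 from rfl, zero_mul] at e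
      linear_combination -e
    have hq2 : Deg 2 fun x => l (f x) + 1 := by
      intro t s x x'
      show l (f (x * s * t)) + 1 + (l (f (x * s)) + 1) + (l (f (x * t)) + 1 + (l (f x) + 1)) =
        l (f (x' * s * t)) + 1 + (l (f (x' * s)) + 1) + (l (f (x' * t)) + 1 + (l (f x') + 1))
      have a1 := hstep t (x * s)
      have a2 := hstep t x
      have a3 := hstep t (x' * s)
      have a4 := hstep t x'
      have b1 : l (β (x * s) t) = l (β x t) + l (β s t) := (congrArg l (hbil _ _ _)).trans (hladd _ _)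
      have b2 : l (β (x' * s) t) = l (β x' t) + l (β s t) := (congrArg l (hbil _ _ _)).trans (hladd _ _)
      have e1 := two_mul (l (β x t))
      have e2 := two_mul (l (β x' t))
      rw [show (2 : ZMod 2) = 0 from rfl, zero_mul] at e1 e2
      linear_combination a1 + a2 - a3 - a4 + b1 - b2 - e1 + e2
    have hq1 : R ≤ M → Deg 1 fun x => l (f x) + 1 := by
      intro hRM t x x'
      show l (f (x * t)) + 1 + (l (f x) + 1) = l (f (x' * t)) + 1 + (l (f x') + 1)
      have a1 := hstep t x
      have a2 := hstep t x'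
      have b : ∀ z, l (β z t) = 0 := fun z => by simp [hl, hRM (hR z t), hβ]
      linear_combination a1 - a2 + b x - b x'
    have hind : (fun x => if f x ∈ K then (1 : ZMod 2) else 0) =
        fun x => (if f x ∈ K' then (1 : ZMod 2) else 0) * (l (f x) + 1) := by
      funext x
      rw [← hKK']
      by_cases h1 : f x ∈ K' <;> by_cases h3 : f x ∈ M <;> simp [hl, h1, h3] <;> rfl
    rw [hind]
    have hmul : Nat.card K' = 2 * Nat.card K := by
      rw [card_eq_two_mul hM (show y ∈ K' from mem_sup_right (mem_zpowers y)) hyM, hKK']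
    rcases hyR with hyR | hRK
    · refine ⟨d + 2, hd.mul hq2, le_trans ?_ hcard⟩
      have : Nat.card (K' ⊓ R : Subgroup Y) = 2 * Nat.card (K ⊓ R : Subgroup Y) := by
        rw [card_eq_two_mul hM (show y ∈ K' ⊓ R from ⟨mem_sup_right (mem_zpowers y), hyR⟩) hyM,
          inf_right_comm, hKK']
      calc 2 ^ (d + 2) * Nat.card K * Nat.card (K ⊓ R : Subgroup Y)
          = 2 ^ d * (2 * Nat.card K) * (2 * Nat.card (K ⊓ R : Subgroup Y)) := by ring
        _ = 2 ^ d * Nat.card K' * Nat.card (K' ⊓ R : Subgroup Y) := by rw [this, hmul]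
        _ ≤ _ := le_refl _
    · refine ⟨d + 1, hd.mul (hq1 (hRK.trans hKM)), le_trans ?_ hcard⟩
      rw [hmul, inf_eq_right.2 hRK, inf_eq_right.2 (hRK.trans le_sup_left)]
      exact le_of_eq (by ring)
  obtain ⟨d, hd, hcard⟩ := main _ ⊥ rfl
  rw [bot_inf_eq, card_bot, mul_one, mul_one] at hcard
  refine (hd.card_le ⟨1, by simp [hf1]⟩).trans (Nat.mul_le_mul hcard ?_)
  refine Nat.card_le_card_of_injective (fun x => ⟨x, by_contra fun h => x.2 (by simp [h])⟩) ?_
  exact fun a b e => Subtype.ext (congrArg Subtype.val e :)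

end CfsgLib.FourFree
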