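import Cfsg.Agent.Lib.FourFree.Config.Module
import Cfsg.Agent.Lib.FourFree.Config.Degree

/-!
# The case of a cubic form with values in the core

`J` is the largest invariant subgroup inside `P`.  If `[P, X] ≤ J` then a subgroup of small index of
`X` is isotropic modulo the fixed points of `H`, so `[P, X]` is fixed by `H`; the conjugates of `X`
then centralize `J` modulo fixed points, and an element of `X` fixed by `B` leads to a contradiction.
-/

set_option autoImplicit false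
set_option linter.style.haveILetI false
set_option linter.unusedSectionVars false

open Subgroup
open CfsgLib.Fusion (conjBy mem_conjBy conj_mem_conjBy conjBy_le_iff conjBy_eq_iff conjBy_mono)
open CfsgLib.CFun (delt fixOf mem_fixOf delt_apply delt_mul delt_mul_left delt_comm IsOff
  card_mul_relIndex')

namespace CfsgLib.FourFree

universe u v

variable {H : Type u} {W : Type v} [Group H] [CommGroup W] {ρ : H →* MulAut W}
  {S B M Q X : Subgroup H} {U Z P : Subgroup W} [Finite H] [Finite W]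
  (hm : Mod ρ S B M Q X U Z P)

include hm

/-- No subgroup of index less than `|W : P|` in `X` is isotropic modulo a subgroup of `Z` which
does not contain `[P, X]`. -/
theorem Mod.isotropic_false {K : Subgroup W} (hK : K ≤ Z) {a : W} (ha : a ∉ P)
    {X₀ : Subgroup H} (hX₀ : X₀ ≤ X) (hidx : X₀.relIndex X < P.index)
    (hiso : ∀ x ∈ X₀, ∀ y ∈ X₀, delt ρ y (delt ρ x a) ∈ K)
    (hne : ∃ x ∈ X, ∃ p ∈ P, delt ρ x p ∉ K) : False := by
  obtain ⟨x₁, hx₁, p₁, hp₁, hne⟩ := hne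
  obtain ⟨M₂, hKM, hzM, hM2⟩ := exists_index_two hm.flag.two hne
  let mk := QuotientGroup.mk' M₂
  have hmk : ∀ w, mk w = 1 ↔ w ∈ M₂ := fun w => QuotientGroup.eq_one_iff w
  have hC : Nat.card (W ⧸ M₂) = 2 := hM2
  let f : X₀ →* X →* W ⧸ M₂ :=
    { toFun := fun y =>
        { toFun := fun x => mk (delt ρ (y : H) (delt ρ (x : H) a))
          map_one' := by simp [delt]
          map_mul' := fun x x' => by
            rw [← map_mul mk, Subgroup.coe_mul, hm.flag.delt_mul_W, delt_mul_left ρ,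
              delt_mul_left ρ]
            refine congrArg mk ?_
            rw [show delt ρ (y : H) (delt ρ (x : H) (delt ρ (x' : H) a)) = 1 from
              div_eq_one.2 (hm.flag.fix _ (hX₀ y.2) _
                (hm.flag.step₂ _ x.2 _ (hm.flag.step₁ _ x'.2 a))), mul_one] }
      map_one' := MonoidHom.ext fun x => by simp [delt]
      map_mul' := fun y y' => MonoidHom.ext fun x => by
        show mk (delt ρ ((y : H) * y') _) = mk _ * mk _
        rw [hm.flag.delt_mul_P (hX₀ y.2) (hX₀ y'.2) (hm.flag.step₁ _ x.2 a), map_mul] }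
  have h1 := card_range_le hC f
  have h2 : f.flip.ker.index ≤ X₀.relIndex X :=
    Nat.le_of_dvd (Nat.pos_of_ne_zero index_ne_zero_of_finite)
      (index_dvd_of_le fun x hx => MonoidHom.mem_ker.2 (MonoidHom.ext fun y =>
        (hmk _).2 (hKM (hiso _ hx _ y.2))))
  set Y := (X ⊓ relFix ρ (M₂ ⊓ Z) P : Subgroup H) with hY
  have h3 : f.ker.map X₀.subtype ≤ Y := by
    rintro _ ⟨y, hy, rfl⟩
    refine ⟨hX₀ y.2, fun z hz => hm.flag.fix _ (hX₀ y.2) z hz.2, fun p hp =>
      ⟨?_, hm.flag.step₂ _ (hX₀ y.2) p hp⟩⟩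
    obtain ⟨x, hx, he⟩ := hm.exists_delt_eq ha (hX₀ y.2) hp
    show delt ρ (y : H) p ∈ M₂
    rw [← he]
    exact (hmk _).1 (DFunLike.congr_fun (MonoidHom.mem_ker.1 hy) ⟨x, hx⟩)
  have h4 : Nat.card X₀ = Nat.card f.ker * Nat.card f.range := by
    rw [← index_ker, card_mul_index]
  have h5 : Nat.card f.ker ≤ Nat.card Y := by
    rw [← Subgroup.card_map_of_injective (K := f.ker) X₀.subtype_injective]
    exact card_le_of_le h3
  have hbd := hm.bound (M₂ ⊓ Z) inf_le_right p₁ hp₁ ⟨x₁, hx₁, fun h => hzM h.1⟩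
  have h6 : Nat.card (X ⊓ relFix ρ (M₂ ⊓ Z) (zpowers p₁) : Subgroup H) ≤ Nat.card X :=
    card_le_of_le inf_le_left
  have h7 : Nat.card X₀ * X₀.relIndex X = Nat.card X := card_mul_relIndex' hX₀
  have hYpos : 0 < Nat.card Y := Nat.card_pos
  have h8 : Nat.card X ≤ Nat.card Y * (X₀.relIndex X * X₀.relIndex X) := by
    rw [← h7, h4, ← mul_assoc]
    exact Nat.mul_le_mul (Nat.mul_le_mul h5 (h1.trans h2)) le_rfl
  have h9 := hbd.trans (h6.trans h8)
  rw [mul_comm (Nat.card Y) _] at h9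
  have h10 := Nat.le_of_mul_le_mul_right h9 hYpos
  rw [pow_two] at h10
  exact absurd h10 (Nat.not_le.2 (Nat.mul_self_lt_mul_self hidx))

/-- An element of `X` commuting with `B`. -/
theorem Mod.exists_central : ∃ x ∈ X, x ≠ 1 ∧ ∀ b ∈ B, b * x * b⁻¹ = x := by
  haveI : Fact (Nat.Prime 2) := ⟨Nat.prime_two⟩
  obtain ⟨x₀, hx₀, p₀, hp₀, hne⟩ := hm.ne
  have hconj : ∀ b ∈ B, ∀ x ∈ X, b * x * b⁻¹ ∈ X := fun b hb x hx =>
    (Subgroup.mem_normalizer_iff.1 (hm.B_norm hb) x).1 hx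
  let act : MulAction B X :=
    { smul := fun b x => ⟨(b : H) * x * (b : H)⁻¹, hconj _ b.2 _ x.2⟩
      one_smul := fun x => Subtype.ext (by show (1 : H) * x * (1 : H)⁻¹ = x; group)
      mul_smul := fun b c x => Subtype.ext (by
        show (b : H) * c * x * ((b : H) * c)⁻¹ = (b : H) * (c * x * (c : H)⁻¹) * (b : H)⁻¹
        group) }
  have hX2 : IsPGroup 2 X := hm.S_two.to_le (hm.X_le.trans hm.B_le)
  have hdvd : 2 ∣ Nat.card X := by
    obtain ⟨n, hn⟩ := hX2.exists_card_eq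
    rcases n with _ | n
    · exfalso
      have : X = ⊥ := Subgroup.card_eq_one.1 (by simpa using hn)
      rw [this, mem_bot] at hx₀
      exact hne (by rw [hx₀]; simp [delt])
    · exact hn ▸ dvd_pow_self 2 n.succ_ne_zero
  obtain ⟨y, hy, hy1⟩ := (hm.S_two.to_le hm.B_le).exists_fixed_point_of_prime_dvd_card_of_fixed_point
    X hdvd (a := (1 : X)) (fun b => Subtype.ext (by
      show (b : H) * ((1 : X) : H) * (b : H)⁻¹ = ((1 : X) : H); simp))
  exact ⟨y, y.2, fun e => hy1 (Subtype.ext e.symm), fun b hb =>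
    congrArg Subtype.val (hy ⟨b, hb⟩)⟩

/-- An element outside `P` fixed by `B` modulo `P`. -/
theorem Mod.exists_fixed_top : ∃ a, a ∉ P ∧ ∀ b ∈ B, delt ρ b a ∈ P := by
  obtain ⟨W', _, _, q, G', _, _, π, ρ', hq, hker, hπ, -, hc⟩ :=
    exists_section (ρ := ρ.comp B.subtype) (P := ⊤) (N := P)
      (fun _ u _ => mem_top _) (fun g z hz => (hm.B_inv g.2).1 z hz)
  have h2 : ∀ x : W', x * x = 1 := fun x => by
    obtain ⟨u, rfl⟩ := hq x
    rw [← map_mul, show u * u = 1 from Subtype.ext (hm.flag.two u), map_one]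
  have hne : (⊤ : Subgroup W') ≠ ⊥ := fun e => hm.P_ne ((Subgroup.eq_top_iff' P).2 fun w =>
    (hker ⟨w, mem_top w⟩).1 (mem_bot.1 (e ▸ mem_top (q ⟨w, mem_top w⟩))))
  obtain ⟨x, -, hx1, hx⟩ := exists_fixed (ρ := ρ') h2 (X := (⊤ : Subgroup ↥B).map π)
    (((hm.S_two.to_le hm.B_le).of_equiv Subgroup.topEquiv.symm).map π) hne
    (le_setFix fun g _ u _ => mem_top _)
  obtain ⟨u, rfl⟩ := hq x
  refine ⟨u, fun h => hx1 ((hker u).2 h), fun b hb => ?_⟩
  have h := mem_fixOf.1 hx _ (mem_map_of_mem π (mem_top (⟨b, hb⟩ : B)))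
  rw [hc] at h
  exact (hker (⟨_, mem_top (ρ b u)⟩ / u)).1 (by rw [map_div]; exact div_eq_one.2 h)

/-- The case `[P, X] ≤ J`. -/
theorem Mod.bottom_false {J : Subgroup W} (hJinv : ∀ g, ∀ z ∈ J, ρ g z ∈ J) (hJP : J ≤ P)
    (hJmax : ∀ N : Subgroup W, (∀ g, ∀ z ∈ N, ρ g z ∈ N) → N ≤ P → N ≤ J)
    (hF : ∀ x ∈ X, ∀ p ∈ P, delt ρ x p ∈ J) : False := by
  classical
  haveI : Fact (Nat.Prime 2) := ⟨Nat.prime_two⟩
  obtain ⟨u, hu, huJ, huS⟩ := hm.exists_fixed_mod hJinv hJP
  have hzp : ∀ (g : H) (D : Subgroup W), ρ g u ∈ D → ∀ w ∈ zpowers u, ρ g w ∈ D := by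
    intro g D h w hw
    obtain ⟨n, rfl⟩ := mem_zpowers_iff.1 hw
    rw [map_zpow]
    exact zpow_mem h n
  set W₁ := transl ρ ⊤ (zpowers u) ⊔ J with hW₁
  have hW₁inv : ∀ g, ∀ w ∈ W₁, ρ g w ∈ W₁ := fun g w hw => by
    obtain ⟨v, hv, j, hj, rfl⟩ := Subgroup.mem_sup.1 hw
    rw [map_mul]
    exact mul_mem (mem_sup_left ((le_setFix_transl ⊤ _ (mem_top g)).1 v hv))
      (mem_sup_right (hJinv g j hj))
  obtain ⟨h, hh⟩ : ∃ h, ρ h u ∉ P := by
    by_contra hall
    push Not at hall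
    exact huJ (hJmax _ (fun g z hz => (le_setFix_transl ⊤ _ (mem_top g)).1 z hz)
      (transl_le fun g _ w hw => hzp g P (hall g) w hw) (le_transl _ _ (mem_zpowers u)))
  set a := ρ h u with ha
  have haW₁ : a ∈ W₁ := mem_sup_left (mem_transl (mem_top h) (mem_zpowers u))
  have hhM : h ∉ M := hm.not_mem_of_apply hu hh
  -- the section `W₁ / J`
  obtain ⟨Wb, _, _, q, G', _, _, π, ρ', hq, hker, hπ, hρ', hc⟩ :=
    exists_section (ρ := ρ) (P := W₁) (N := J) hW₁inv hJinv
  have hkerπ : ∀ n ∈ π.ker, ∀ w ∈ W₁, delt ρ n w ∈ J := by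
    intro n hn w hw
    refine (hker (⟨_, hW₁inv n w hw⟩ / ⟨w, hw⟩)).1 ?_
    rw [map_div, ← hc n ⟨w, hw⟩, MonoidHom.mem_ker.1 hn, map_one, MulAut.one_apply, div_self']
  have h2b : ∀ x : Wb, x * x = 1 := fun x => by
    obtain ⟨w, rfl⟩ := hq x
    rw [← map_mul, show w * w = 1 from Subtype.ext (hm.flag.two w), map_one]
  obtain ⟨T, hT⟩ := hm.sylow
  let T' := T.mapSurjective hπ
  have hT' : (T' : Subgroup G') = S.map π := by rw [Sylow.coe_mapSurjective, hT]
  have hgen : transl ρ' ⊤ (fixOf ρ' (T' : Subgroup G')) = ⊤ := by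
    set D := transl ρ' ⊤ (fixOf ρ' (T' : Subgroup G')) with hD
    have hW₁D : W₁ ≤ (D.comap q).map W₁.subtype := by
      refine sup_le (transl_le fun g _ w hw => ?_) fun j hj =>
        ⟨⟨j, mem_sup_right hj⟩, mem_comap.2 ((hker ⟨j, _⟩).2 hj ▸ one_mem D), rfl⟩
      have hwW : w ∈ W₁ := mem_sup_left (le_transl _ _ hw)
      refine ⟨⟨ρ g w, hW₁inv g w hwW⟩, mem_comap.2 ?_, rfl⟩
      rw [← hc g ⟨w, hwW⟩]
      refine mem_transl (mem_top _) (mem_fixOf.2 ?_)
      rw [hT']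
      rintro _ ⟨s, hs, rfl⟩
      rw [hc]
      refine div_eq_one.1 ?_
      rw [← map_div, hker]
      obtain ⟨n, rfl⟩ := mem_zpowers_iff.1 hw
      show ρ s (u ^ n) / u ^ n ∈ J
      rw [map_zpow, ← div_zpow]
      exact zpow_mem (huS s hs) n
    refine (Subgroup.eq_top_iff' _).2 fun x => ?_
    obtain ⟨w, rfl⟩ := hq x
    obtain ⟨y, hy, hyw⟩ := hW₁D w.2
    rwa [← Subtype.ext hyw]
  set X₀ := π.ker ⊓ X with hX₀
  have hidx : X₀.relIndex X < P.index := by
    rw [hX₀, inf_relIndex_right, relIndex_ker]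
    by_contra hge
    have hbot := offender_eq_bot hρ' (hm.hg.quotient π hπ) h2b T' hgen (B := X.map π)
      (hT' ▸ map_mono (hm.X_le.trans hm.B_le)) (by
        rintro _ ⟨x, hx, rfl⟩
        rw [← map_mul, hm.flag.sq hm.P_ne hx, map_one]) (by
        set E := (P.subgroupOf W₁).map q with hE
        have hfix : E ≤ fixOf ρ' (X.map π) := by
          rintro _ ⟨p, hp, rfl⟩
          refine mem_fixOf.2 ?_
          rintro _ ⟨x, hx, rfl⟩
          rw [hc]
          refine div_eq_one.1 ?_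
          rw [← map_div, hker]
          exact hF x hx _ hp
        have hEi : E.index ≤ P.index := by
          refine (Nat.le_of_dvd (Nat.pos_of_ne_zero index_ne_zero_of_finite)
            (index_map_dvd _ hq)).trans ?_
          show P.relIndex W₁ ≤ P.index
          rw [← relIndex_top_right P]
          exact relIndex_le_of_le_right le_top index_ne_zero_of_finite
        unfold IsOff
        rw [← card_mul_index E]
        calc Nat.card E * E.index ≤ Nat.card (fixOf ρ' (X.map π)) * Nat.card (X.map π) :=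
              Nat.mul_le_mul (card_le_of_le hfix) (hEi.trans (not_lt.1 hge))
          _ = _ := mul_comm _ _)
    rw [hbot, Subgroup.card_bot, not_lt] at hge
    have : P.index ≠ 1 := fun e => hm.P_ne (index_eq_one.1 e)
    have : P.index ≠ 0 := index_ne_zero_of_finite
    omega
  have hkerM : π.ker ≤ M := by
    have hne : π.ker ⊔ S ≠ ⊤ := by
      intro e
      refine hh ?_
      obtain ⟨n, hn, s, hs, rfl⟩ := Subgroup.mem_sup_of_normal_left.1 (e.ge (mem_top h))
      have hsu : ρ s u ∈ U := (hm.U_inv hs).1 u hu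
      have hsW : ρ s u ∈ W₁ := hW₁inv s u (mem_sup_left (le_transl _ _ (mem_zpowers u)))
      have h1 := mul_mem (hJP (hkerπ n hn _ hsW)) (hm.Z_le (hm.U_le (le_transl _ _ hsu)))
      rw [← delt_apply ρ n (ρ s u), ← MulAut.mul_apply, ← map_mul] at h1
      exact h1
    have hne' : π.ker ⊔ (B ⊔ Q) ≠ ⊤ := fun e => hne (top_le_iff.1 (e.ge.trans
      (sup_le_sup_left (sup_le hm.B_le hm.Q_le) _)))
    exact le_sup_left.trans (hm.overB _ hne' le_sup_right)
  -- commutators with `a`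
  have hVM : ∀ m ∈ M, ∀ v ∈ transl ρ M U, ρ m v ∈ transl ρ M U :=
    fun m hm' => (le_setFix_transl M U hm').1
  have hback : ∀ x : H, h⁻¹ * x * h ∈ M → ∀ r : W, ρ h⁻¹ r ∈ transl ρ M U →
      ρ h⁻¹ (delt ρ x r) ∈ transl ρ M U := by
    intro x hx r hr
    have e : ρ h⁻¹ (delt ρ x r) = ρ (h⁻¹ * x * h) (ρ h⁻¹ r) / ρ h⁻¹ r := by
      rw [delt, map_div, map_mul, map_mul, MulAut.mul_apply, MulAut.mul_apply, apply_apply_inv]
    rw [e]
    exact div_mem (hVM _ hx _ hr) hr
  have hha : ρ h⁻¹ a ∈ transl ρ M U := by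
    rw [ha, apply_inv_apply]
    exact le_transl _ _ hu
  have hconjker : ∀ x ∈ π.ker, h⁻¹ * x * h ∈ M := fun x hx => hkerM (by
    simpa using (MonoidHom.normal_ker π).conj_mem x hx h⁻¹)
  set J₀ := fixOf ρ (⊤ : Subgroup H) with hJ₀def
  have hJ₀mem : ∀ z, z ∈ J₀ ↔ ∀ g, ρ g z = z := fun z =>
    ⟨fun hz g => mem_fixOf.1 hz g (mem_top g), fun hz => mem_fixOf.2 fun g _ => hz g⟩
  have hJ₀Z : J₀ ≤ Z := fun z hz =>
    hm.fixZ (mem_fixOf.2 fun b _ => (hJ₀mem z).1 hz b)
  have hisoJ₀ : ∀ x ∈ X₀, ∀ y ∈ X₀, delt ρ y (delt ρ x a) ∈ J₀ := by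
    intro x hx y hy
    set z := delt ρ y (delt ρ x a) with hz
    have hzZ : z ∈ Z := hm.flag.step₂ _ hy.2 _ (hm.flag.step₁ _ hx.2 a)
    have hw : ρ h⁻¹ z ∈ transl ρ M U := hback _ (hconjker _ hy.1) _ (hback _ (hconjker _ hx.1) _ hha)
    have hall := hm.fix_of_transl hw (k := h⁻¹) (fun e => hhM (by simpa using inv_mem e))
      fun b hb => by
        rw [inv_inv, map_mul, map_mul, MulAut.mul_apply, MulAut.mul_apply, apply_apply_inv,
          hm.fixB b hb z hzZ]
    refine (hJ₀mem z).2 fun g => ?_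
    rw [show z = ρ h⁻¹ z by rw [← hall h, apply_apply_inv]]
    exact hall g
  have hF₀ : ∀ x ∈ X, ∀ p ∈ P, delt ρ x p ∈ J₀ := by
    by_contra hne
    push Not at hne
    exact hm.isotropic_false hJ₀Z hh inf_le_right hidx hisoJ₀ hne
  -- the kernel of the action on `J`
  set N := relFix ρ J₀ J with hN
  have hNn : N.Normal := relFix_normal (fun g z hz => by rwa [(hJ₀mem z).1 hz g]) hJinv
  have hXN : X ≤ N := fun x hx =>
    ⟨fun z hz => (hJ₀mem z).1 hz x, fun p hp => hF₀ x hx p (hJP hp)⟩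
  haveI := hNn
  by_cases htop : N ⊔ (B ⊔ Q) = ⊤
  · -- `O²(H)` fixes `J`
    have hS : N ⊔ S = ⊤ :=
      top_le_iff.1 (htop.ge.trans (sup_le_sup_left (sup_le hm.B_le hm.Q_le) _))
    have hres := residual_le_of_sup hm.S_two hS
    have hfix : Cfsg.pResidual 2 H ≤ ptFix ρ J := by
      refine (closure_le _).2 fun d hd j hj => ?_
      obtain ⟨hd0, hdJ⟩ := mem_relFix.1 (hres (CfsgLib.Fusion.mem_pResidual hd))
      set z := delt ρ d j with hz
      have hdz : ρ d z = z := hd0 z (hdJ j hj)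
      have hi : ∀ i : ℕ, ρ (d ^ i) j = z ^ i * j := by
        intro i
        induction i with
        | zero => simp
        | succ i ih =>
          rw [pow_succ', map_mul, MulAut.mul_apply, ih, map_mul, map_pow, hdz,
            delt_apply ρ d j, ← hz, pow_succ, mul_assoc]
      have h1 := hi (orderOf d)
      rw [pow_orderOf_eq_one, map_one, MulAut.one_apply, right_eq_mul] at h1
      have hz1 : z = 1 := by
        rcases Nat.even_or_odd (orderOf d) with he | ⟨k, hk⟩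
        · exact absurd he.two_dvd fun h => by
            have := Nat.Coprime.eq_one_of_dvd (show Nat.Coprime (orderOf d) 2 from hd).symm h
            omega
        · rw [hk, pow_succ, pow_mul, pow_two, hm.flag.two, one_pow, one_mul] at h1
          exact h1
      exact div_eq_one.1 hz1
    haveI : (Cfsg.pResidual 2 H).Normal := CfsgLib.Fusion.pResidual_normal
    obtain ⟨o, ho, b, hb, hob⟩ := Subgroup.mem_sup_of_normal_left.1 (hm.gen.ge (mem_top h))
    have hao : a = ρ o u := by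
      rw [ha, ← hob, map_mul, MulAut.mul_apply, hm.fixB b hb u (hm.U_le (le_transl _ _ hu))]
    refine hm.isotropic_false (K := ⊥) bot_le hh inf_le_right hidx (fun x hx y hy => ?_) ?_
    · have hrJ : delt ρ x a ∈ J := hkerπ _ hx.1 a haW₁
      have hro : ρ o⁻¹ (delt ρ x a) = delt ρ x a := inv_mem (hfix ho) _ hrJ
      have hrV : delt ρ x a ∈ transl ρ M U := by
        rw [← hro, delt, map_div, hao, apply_inv_apply, ← MulAut.mul_apply, ← MulAut.mul_apply,
          ← map_mul, ← map_mul]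
        exact div_mem (hVM _ (hkerM (by simpa using (MonoidHom.normal_ker π).conj_mem x hx.1 o⁻¹)) _
          (le_transl _ _ hu)) (le_transl _ _ hu)
      exact mem_bot.2 (div_eq_one.2 (hm.flag.fix y hy.2 _ (hm.U_le hrV)))
    · obtain ⟨x, hx, p, hp, hxp⟩ := hm.ne
      exact ⟨x, hx, p, hp, fun e => hxp (mem_bot.1 e)⟩
  · -- all conjugates of `X` are in `M`
    have hNM : N ≤ M := le_sup_left.trans (hm.overB _ htop le_sup_right)
    obtain ⟨x, hx, hx1, hxB⟩ := hm.exists_central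
    obtain ⟨a₀, ha₀, ha₀B⟩ := hm.exists_fixed_top
    obtain ⟨t, ht, htM⟩ : ∃ t ∈ B, h⁻¹ * t * h ∉ M := by
      by_contra hall
      push Not at hall
      refine hhM ?_
      have := hm.closed h⁻¹ (conjBy_le_iff.2 fun b hb => by simpa using hall b hb)
      simpa using inv_mem this
    set s₀ := delt ρ x a₀ with hs₀
    have hs₀P : s₀ ∈ P := hm.flag.step₁ _ hx a₀
    obtain ⟨y, hy, hyZ⟩ := hm.surj a hh s₀ hs₀P
    set s := delt ρ y a with hs
    have hw : ρ h⁻¹ s ∈ transl ρ M U :=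
      hback _ (hNM (by simpa using hNn.conj_mem y (hXN hy) h⁻¹)) _ hha
    set j := delt ρ x (delt ρ t a₀) with hj
    have hjJ : j ∈ J₀ := hF₀ x hx _ (ha₀B t ht)
    have hts₀ : ρ t s₀ = s₀ * j := by
      have hx' : t * x = x * t := by
        conv_rhs => rw [← hxB t ht]
        group
      rw [hs₀, hj, ← delt_mul_left ρ]
      show ρ t (ρ x a₀ / a₀) = ρ x (a₀ * (ρ t a₀ / a₀)) / (a₀ * (ρ t a₀ / a₀))
      rw [mul_div_cancel, map_div, ← MulAut.mul_apply, ← map_mul, hx', map_mul, MulAut.mul_apply]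
    have hts : ρ t s = s * j := by
      rw [show s = s₀ * (s / s₀) by rw [mul_div_cancel], map_mul, hts₀, hm.fixB t ht _ hyZ,
        mul_right_comm]
    have hk : h⁻¹ * t * h ∉ M := htM
    have hjfix := (hJ₀mem j).1 hjJ
    have hall := hm.fix_of_transl hw hk fun b hb => by
      have e1 : ρ t⁻¹ s = s / j := by
        rw [eq_div_iff_mul_eq', ← apply_inv_apply (ρ := ρ) t (ρ t⁻¹ s * j), map_mul,
          apply_apply_inv, hjfix, ← hts, apply_inv_apply]
      rw [show h⁻¹ * t * h * b * (h⁻¹ * t * h)⁻¹ = h⁻¹ * (t * (h * (b * (h⁻¹ * (t⁻¹ * h))))) by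
        group]
      simp only [map_mul, MulAut.mul_apply, apply_apply_inv, e1, map_div, hjfix]
      rw [hm.fixB b hb _ (hm.U_le hw), apply_apply_inv, hts, map_mul, hjfix,
        mul_div_cancel_right]
    have hsw : s = ρ h⁻¹ s := by rw [← hall h, apply_apply_inv]
    have hsZ : s ∈ Z := hm.fixZ (mem_fixOf.2 fun b _ => by rw [hsw, hall b])
    refine hx1 (hm.flag.inj a₀ ha₀ x hx ?_)
    rw [← hs₀, show s₀ = s / (s / s₀) by rw [div_div_cancel]]
    exact div_mem hsZ hyZ

end CfsgLib.FourFree
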