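import Cfsg.Agent.Lib.FourFree.Config.Triangle
import Cfsg.Agent.Lib.FourFree.Sections

/-!
# The square of a quadratic subgroup is bounded by one coset of singular vectors

`B` acts quadratically, every non-trivial element of `B` fixes exactly the half `C` of `V`, and
translates of `C` by elements outside `M` meet `C` trivially, `M` fixing a non-trivial subgroup
of `C`.  Then `|B| ^ 2` is at most the number of singular vectors in any coset `C v₀`.
-/

set_option autoImplicit false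
set_option linter.style.haveILetI false

open Subgroup
open CfsgLib.CFun (delt fixOf mem_fixOf delt_apply delt_mul_left)

namespace CfsgLib.FourFree

universe u v

variable {G : Type u} {V : Type v} [Group G] [CommGroup V]

/-- A quadratic subgroup `B` with half `C = fixOf ρ B` and trivially intersecting translates. -/
structure Halves (ρ : G →* MulAut V) (B M : Subgroup G) (C₁ : Subgroup V) : Prop where
  two : ∀ x : V, x * x = 1
  hg : HG G
  sq : ∀ b ∈ B, b * b = 1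
  quad : ∀ b ∈ B, ∀ x : V, delt ρ b x ∈ fixOf ρ B
  fix : ∀ b ∈ B, b ≠ 1 → ∀ x : V, ρ b x = x → x ∈ fixOf ρ B
  le : B ≤ M
  disj : ∀ g, g ∉ M → ∀ x ∈ fixOf ρ B, ρ g x ∈ fixOf ρ B → x = 1
  card : Nat.card V = Nat.card (fixOf ρ B) * Nat.card (fixOf ρ B)
  le_fix : C₁ ≤ fixOf ρ B
  ne_bot : C₁ ≠ ⊥
  inv : ∀ m ∈ M, ∀ x ∈ C₁, ρ m x ∈ C₁

variable [Finite G] [Finite V] {ρ : G →* MulAut V} {B M : Subgroup G} {C₁ : Subgroup V}

/-- A non-trivial element of `B` fixes no point `g M` other than `M`. -/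
theorem Halves.not_mem (hs : Halves ρ B M C₁) {a g : G} (ha : a ∈ B) (ha1 : a ≠ 1)
    (hgM : g ∉ M) : g⁻¹ * a * g ∉ M := by
  intro hm
  obtain ⟨x, hx, hx1⟩ := (Subgroup.bot_or_exists_ne_one C₁).resolve_left hs.ne_bot
  have hmm : ρ (g⁻¹ * a * g) (ρ (g⁻¹ * a * g) x) = x := by
    rw [← MulAut.mul_apply, ← map_mul,
      show g⁻¹ * a * g * (g⁻¹ * a * g) = g⁻¹ * (a * a) * g by group, hs.sq a ha]
    simp
  obtain ⟨y, hy, hy1, hym⟩ : ∃ y ∈ C₁, y ≠ 1 ∧ ρ (g⁻¹ * a * g) y = y := by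
    by_cases h : ρ (g⁻¹ * a * g) x = x
    · exact ⟨x, hx, hx1, h⟩
    · refine ⟨x * ρ (g⁻¹ * a * g) x, mul_mem hx (hs.inv _ hm x hx), fun e => h ?_, ?_⟩
      · rw [← inv_eq_of_mul_eq_one_right e, inv_eq_of_mul_eq_one_right (hs.two x)]
      · rw [map_mul, hmm, mul_comm]
  refine hy1 (hs.disj g hgM y (hs.le_fix hy) (hs.fix a ha ha1 _ ?_))
  have h := congrArg (ρ g) hym
  rwa [← MulAut.mul_apply, ← map_mul, show g * (g⁻¹ * a * g) = a * g by group, map_mul,
    MulAut.mul_apply] at h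

theorem Halves.conj_not_mem (hs : Halves ρ B M C₁) {g₀ : G} (hg₀ : g₀ ∉ M) {b : G}
    (hb : g₀⁻¹ * b * g₀ ∈ B) (hb1 : b ≠ 1) : b ∉ M := by
  intro hbM
  refine hs.not_mem hb (fun e => hb1 ?_) (g := g₀⁻¹) (fun h => hg₀ (by simpa using inv_mem h)) ?_
  · rw [show b = g₀ * (g₀⁻¹ * b * g₀) * g₀⁻¹ by group, e]
    group
  · rw [show g₀⁻¹⁻¹ * (g₀⁻¹ * b * g₀) * g₀⁻¹ = b by group]
    exact hbM

theorem Halves.conj_sq (hs : Halves ρ B M C₁) {g₀ b : G} (hb : g₀⁻¹ * b * g₀ ∈ B) :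
    b * b = 1 := by
  have h := hs.sq _ hb
  calc b * b = g₀ * (g₀⁻¹ * b * g₀ * (g₀⁻¹ * b * g₀)) * g₀⁻¹ := by group
    _ = 1 := by rw [h]; group

/-- `a g₀ M ≠ b M`: otherwise `a`, `b` give a triangle on `M`, `g₀ M`, `b M`. -/
theorem Halves.point_ne (hs : Halves ρ B M C₁) {g₀ : G} (hg₀ : g₀ ∉ M) {a b : G} (ha : a ∈ B)
    (hb : g₀⁻¹ * b * g₀ ∈ B) (hb1 : b ≠ 1) : (a * g₀)⁻¹ * b ∉ M := by
  intro hm
  have hba : b⁻¹ = b := inv_eq_of_mul_eq_one_right (hs.conj_sq hb)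
  have haa : a⁻¹ = a := inv_eq_of_mul_eq_one_right (hs.sq a ha)
  have e1 : a • (g₀ : G ⧸ M) = (b : G ⧸ M) := QuotientGroup.eq.2 hm
  refine hs.hg.no_triangle (α := G ⧸ M) (b := a) (c := b) (u := ((1 : G) : G ⧸ M))
    (z := (g₀ : G ⧸ M)) (x := (b : G ⧸ M)) ?_ ?_ ?_ ?_ e1 ?_ ?_ ?_ ?_
  · exact fun e => hg₀ (by simpa using QuotientGroup.eq.1 e)
  · exact fun e => hs.conj_not_mem hg₀ hb hb1 (by simpa using QuotientGroup.eq.1 e)
  · intro e
    have h1 := QuotientGroup.eq.1 e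
    have h2 := mul_mem (inv_mem h1) (hs.le hb)
    rw [show (g₀⁻¹ * b)⁻¹ * (g₀⁻¹ * b * g₀) = g₀ by group] at h2
    exact hg₀ h2
  · show ((a * 1 : G) : G ⧸ M) = ((1 : G) : G ⧸ M)
    exact QuotientGroup.eq.2 (by simpa using hs.le ha)
  · rw [← e1, ← mul_smul, hs.sq a ha, one_smul]
  · show ((b * g₀ : G) : G ⧸ M) = (g₀ : G ⧸ M)
    exact QuotientGroup.eq.2 (by
      rw [show (b * g₀)⁻¹ * g₀ = (g₀⁻¹ * b * g₀)⁻¹ by group]; exact inv_mem (hs.le hb))
  · show ((b * 1 : G) : G ⧸ M) = (b : G ⧸ M)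
    rw [mul_one]
  · show ((b * b : G) : G ⧸ M) = ((1 : G) : G ⧸ M)
    rw [hs.conj_sq hb]

set_option maxHeartbeats 400000 in
/-- `a b M ≠ b' M`: otherwise the odd part of `[[-, b], a]` on `C₁` gives a triangle. -/
theorem Halves.point_ne' (hs : Halves ρ B M C₁) {g₀ : G} (hg₀ : g₀ ∉ M) {a b b' : G} (ha : a ∈ B)
    (ha1 : a ≠ 1) (hb : g₀⁻¹ * b * g₀ ∈ B) (hb1 : b ≠ 1) (hb' : g₀⁻¹ * b' * g₀ ∈ B) :
    b' * a * b ∉ M := by
  intro hu
  set u := b' * a * b with hudef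
  set C := fixOf ρ B
  have hi : ∀ x : V, x⁻¹ = x := fun x => inv_eq_of_mul_eq_one_right (hs.two x)
  have hK : ∀ d : G, g₀⁻¹ * d * g₀ ∈ B → ∀ x : V, ρ g₀⁻¹ x ∈ C → ρ d x = x := by
    intro d hd x hx
    have := mem_fixOf.1 hx _ hd
    have h := congrArg (ρ g₀) this
    rwa [apply_apply_inv, ← MulAut.mul_apply, ← MulAut.mul_apply, ← map_mul, ← map_mul,
      show g₀ * (g₀⁻¹ * d * g₀) * g₀⁻¹ = d by group] at h
  have hdK : ∀ d : G, g₀⁻¹ * d * g₀ ∈ B → ∀ x : V, ρ g₀⁻¹ (delt ρ d x) ∈ C := by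
    intro d hd x
    have := hs.quad _ hd (ρ g₀⁻¹ x)
    convert this using 1
    simp only [delt, map_div, map_mul, MulAut.mul_apply, apply_apply_inv]
  have hinter : ∀ x : V, x ∈ C → ρ g₀⁻¹ x ∈ C → x = 1 := fun x hx hx' =>
    hs.disj g₀⁻¹ (fun h => hg₀ (by simpa using inv_mem h)) x hx hx'
  set γ : V → V := fun x => delt ρ b x with hγ
  set σ : V → V := fun x => delt ρ a (γ x) with hσ
  have hσC : ∀ x, σ x ∈ C := fun x => hs.quad a ha _
  have haC : ∀ x ∈ C, ρ a x = x := fun x hx => mem_fixOf.1 hx a ha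
  have hγmul : ∀ x y, γ (x * y) = γ x * γ y := fun x y => delt_mul_left ρ b x y
  have hσmul : ∀ x y, σ (x * y) = σ x * σ y := fun x y => by
    simp only [hσ, hγmul, delt_mul_left]
  -- the action of `u` on `C₁`
  have hu1 : ∀ c ∈ C₁, ρ u c = σ c * c ∧ delt ρ b' (σ c * c) = γ c := by
    intro c hc
    have e1 : ρ u c = delt ρ b' (σ c * c) * γ c * (σ c * c) := by
      rw [hudef, map_mul, map_mul, MulAut.mul_apply, MulAut.mul_apply, delt_apply ρ b c, map_mul,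
        haC c (hs.le_fix hc), delt_apply ρ a (delt ρ b c),
        show delt ρ a (delt ρ b c) * delt ρ b c * c = σ c * c * γ c from mul_right_comm _ _ _,
        map_mul, hK b' hb' (γ c) (hdK b hb c), delt_apply ρ b' (σ c * c)]
      exact mul_right_comm _ _ _
    have e2 : delt ρ b' (σ c * c) * γ c = 1 := by
      refine hinter _ ?_ ?_
      · have h1 := hs.le_fix (hs.inv u hu c hc)
        rw [e1] at h1
        exact (mul_mem_cancel_right (mul_mem (hσC c) (hs.le_fix hc))).1 h1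
      · rw [map_mul]; exact mul_mem (hdK b' hb' _) (hdK b hb c)
    exact ⟨by rw [e1, e2, one_mul], by rw [← hi (delt ρ b' (σ c * c))]; exact (eq_inv_of_mul_eq_one_right e2).symm⟩
  have hσ1 : ∀ c ∈ C₁, σ c ∈ C₁ := fun c hc => by
    have := hs.inv u hu c hc
    rw [(hu1 c hc).1] at this
    exact (mul_mem_cancel_right hc).1 this
  have hσinj : ∀ c ∈ C₁, σ c = 1 → c = 1 := by
    intro c hc h
    have h1 : γ c ∈ C := hs.fix a ha ha1 _ (div_eq_one.1 h)
    have h2 : γ c = 1 := hinter _ h1 (hdK b hb c)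
    have hbc : ρ b c = c := div_eq_one.1 h2
    have h3 : ρ g₀⁻¹ c ∈ C := by
      refine hs.fix _ hb (fun e => hb1 ?_) _ ?_
      · rw [show b = g₀ * (g₀⁻¹ * b * g₀) * g₀⁻¹ by group, e]
        group
      · rw [map_mul, map_mul, MulAut.mul_apply, MulAut.mul_apply, apply_apply_inv, hbc]
    exact hinter c (hs.le_fix hc) h3
  -- iterates
  have hit1 : ∀ n, ∀ c ∈ C₁, σ^[n] c ∈ C₁ := by
    intro n
    induction n with
    | zero => exact fun c hc => hc
    | succ n ih => intro c hc; rw [Function.iterate_succ_apply']; exact hσ1 _ (ih c hc)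
  have hitmul : ∀ n x y, σ^[n] (x * y) = σ^[n] x * σ^[n] y := by
    intro n
    induction n with
    | zero => exact fun _ _ => rfl
    | succ n ih => intro x y; simp only [Function.iterate_succ_apply', ih, hσmul]
  have good : ∀ i, ∃ g : G, (∀ c ∈ C₁, ρ g c = c) ∧
      ∀ c ∈ C₁, delt ρ g (γ c) = σ^[2 * i + 1] c := by
    intro i
    induction i with
    | zero => exact ⟨a, fun c hc => haC c (hs.le_fix hc), fun c _ => rfl⟩
    | succ i ih =>
      obtain ⟨g, hgfix, hgd⟩ := ih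
      have hfix' : ∀ c ∈ C₁, ρ (u * g * u⁻¹) c = c := fun c hc => by
        rw [map_mul, map_mul, MulAut.mul_apply, MulAut.mul_apply,
          hgfix _ (hs.inv _ (inv_mem hu) c hc), apply_apply_inv]
      refine ⟨g * (u * g * u⁻¹), fun c hc => by
        rw [map_mul, MulAut.mul_apply, hfix' c hc, hgfix c hc], fun e he => ?_⟩
      set d := ρ u e with hd
      have hd1 : d ∈ C₁ := hs.inv u hu e he
      have hde : d = σ e * e := (hu1 e he).1
      have e1 : ρ u (γ d) = σ d * γ e := by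
        have h1 : ρ u (γ d) = delt ρ b' (σ d) * γ d * σ d := by
          rw [hudef, map_mul, map_mul, MulAut.mul_apply, MulAut.mul_apply,
            hK b hb (γ d) (hdK b hb d), delt_apply ρ a (γ d), map_mul,
            hK b' hb' (γ d) (hdK b hb d), delt_apply ρ b' (delt ρ a (γ d))]
          exact mul_right_comm _ _ _
        rw [h1, show delt ρ b' (σ d) = γ (σ e) by
          rw [hde, hσmul]; exact (hu1 _ (hσ1 e he)).2]
        conv_lhs => rw [show γ d = γ (σ e) * γ e by rw [hde, hγmul]]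
        rw [← mul_assoc, hs.two, one_mul, mul_comm]
      have e2 : γ e = σ d * ρ u (γ d) := by rw [e1, ← mul_assoc, hs.two, one_mul]
      have e3 : delt ρ (u * g * u⁻¹) (γ e) = σ^[2 * i + 1] (σ (σ e) * e) := by
        rw [e2, delt_mul_left, show delt ρ (u * g * u⁻¹) (σ d) = 1 by
            rw [delt, hfix' _ (hσ1 d hd1), div_self'], one_mul,
          show delt ρ (u * g * u⁻¹) (ρ u (γ d)) = ρ u (delt ρ g (γ d)) by
            simp only [delt, map_div, map_mul, MulAut.mul_apply, apply_inv_apply],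
          hgd d hd1, (hu1 _ (hit1 _ d hd1)).1, hde,
          ← Function.iterate_succ_apply' (f := σ), Function.iterate_succ_apply, ← hitmul]
        congr 1
        rw [hσmul, mul_assoc, ← mul_assoc (σ e), hs.two, one_mul]
      rw [CfsgLib.CFun.delt_mul ρ, e3, hgd e he, hgfix _ (hit1 _ _
        (mul_mem (hσ1 _ (hσ1 e he)) he)), hitmul, mul_left_comm, hs.two, mul_one,
        ← Function.iterate_succ_apply, ← Function.iterate_succ_apply,
        show (2 * i + 1).succ.succ = 2 * (i + 1) + 1 from by omega]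
  -- a fixed point of an odd power of `σ`
  let f : C₁ → C₁ := fun c => ⟨σ c, hσ1 c c.2⟩
  have hfinj : Function.Injective f := fun x y e => by
    have e' : σ (x : V) = σ (y : V) := congrArg Subtype.val e
    apply Subtype.ext
    have := hσinj _ (mul_mem x.2 y.2) (by rw [hσmul, e', hs.two])
    rw [← hi (y : V)]
    exact eq_inv_of_mul_eq_one_left this
  let p : Equiv.Perm C₁ := Equiv.ofBijective f (Finite.injective_iff_bijective.1 hfinj)
  have hp : ∀ n (c : C₁), (((p ^ n) c : C₁) : V) = σ^[n] c := by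
    intro n
    induction n with
    | zero => exact fun c => rfl
    | succ n ih =>
      intro c
      rw [pow_succ', Function.iterate_succ_apply']
      show σ (((p ^ n) c : C₁) : V) = _
      rw [ih]
  obtain ⟨e, m, hm, hem⟩ := Nat.exists_eq_two_pow_mul_odd (orderOf_pos p).ne'
  obtain ⟨i, rfl⟩ := hm
  set τ := p ^ (2 * i + 1) with hτ
  haveI : Fact (Nat.Prime 2) := ⟨Nat.prime_two⟩
  have hτp : IsPGroup 2 (zpowers τ) := by
    rintro ⟨x, hx⟩
    obtain ⟨j, rfl⟩ := mem_zpowers_iff.1 hx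
    refine ⟨e, Subtype.ext ?_⟩
    show (τ ^ j) ^ (2 ^ e) = 1
    rw [← zpow_natCast, zpow_comm, zpow_natCast, hτ, ← pow_mul, mul_comm, ← hem, pow_orderOf_eq_one,
      one_zpow]
  have h2dvd : 2 ∣ Nat.card C₁ := by
    obtain ⟨x, hx, hx1⟩ := (Subgroup.bot_or_exists_ne_one C₁).resolve_left hs.ne_bot
    rw [← orderOf_eq_prime (x := x) (p := 2) (by rw [pow_two, hs.two]) hx1, ← Nat.card_zpowers]
    exact card_dvd_of_le (zpowers_le.2 hx)
  obtain ⟨z, hz, hz1⟩ := hτp.exists_fixed_point_of_prime_dvd_card_of_fixed_point C₁ h2dvd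
    (a := (1 : C₁)) (fun q => by
      have h1 : τ (1 : C₁) = 1 := Subtype.ext (by
        rw [hτ, hp]
        refine (Function.iterate_fixed ?_ _)
        show σ 1 = 1
        simp [hσ, hγ, CfsgLib.CFun.delt_one_right])
      obtain ⟨j, hj⟩ := mem_zpowers_iff.1 q.2
      show (q : Equiv.Perm C₁) (1 : C₁) = 1
      rw [← hj]
      exact Equiv.Perm.zpow_apply_eq_self_of_apply_eq_self h1 j)
  have hz' : σ^[2 * i + 1] (z : V) = z := by
    rw [← hp]
    exact congrArg Subtype.val (hz ⟨τ, mem_zpowers τ⟩)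
  obtain ⟨g, hgfix, hgd⟩ := good i
  exact hs.hg.no_linear_triangle ρ hs.two (b := b) (c := g) (z := (z : V)) (w := γ z)
    (fun h => hz1 (Subtype.ext h.symm)) (hgfix _ z.2) (hK b hb _ (hdK b hb _)) rfl
    (by rw [hgd _ z.2, hz'])

/-- The main bound. -/
theorem Halves.sq_card_le (hs : Halves ρ B M C₁) {g₀ : G} (hg₀ : g₀ ∉ M) {x₀ : V}
    (hx₀ : x₀ ∈ fixOf ρ B) (hx₁ : x₀ ≠ 1) (Sing : Set V)
    (hS : ∀ g, ∀ x ∈ fixOf ρ B, ρ g x ∈ Sing) :
    Nat.card B * Nat.card B ≤ Nat.card {c // c ∈ fixOf ρ B ∧ c * ρ g₀ x₀ ∈ Sing} := by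
  classical
  set C := fixOf ρ B
  set v₀ := ρ g₀ x₀
  have hv₀ : v₀ ∉ C := fun h => hx₁ (hs.disj g₀ hg₀ x₀ hx₀ h)
  have hex : ∀ g, g ∉ M → ∃ c ∈ C, ∃ x ∈ C, c * v₀ = ρ g x := by
    intro g hgM
    have hinj : Function.Injective fun q : C × C => (q.1 : V) * ρ g q.2 := by
      rintro ⟨c, x⟩ ⟨c', x'⟩ e
      simp only at e
      have h1 : ρ g ((x : V) / x') = (c' : V) / c := by
        rw [map_div, div_eq_div_iff_mul_eq_mul, mul_comm, e]
      have h2 : (x : V) / x' = 1 := hs.disj g hgM _ (div_mem x.2 x'.2) (h1 ▸ div_mem c'.2 c.2)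
      rw [h2, map_one, eq_comm, div_eq_one] at h1
      exact Prod.ext (Subtype.ext h1.symm) (Subtype.ext (div_eq_one.1 h2))
    obtain ⟨⟨c, x⟩, hcx⟩ := ((Nat.bijective_iff_injective_and_card _).2
      ⟨hinj, by rw [Nat.card_prod, hs.card]⟩).2 v₀
    refine ⟨c, c.2, x, x.2, ?_⟩
    simp only at hcx
    rw [← hcx, ← mul_assoc, hs.two, one_mul]
  let pt : B × B → G := fun q =>
    if (q.2 : G) = 1 then (q.1 : G) * g₀ else (q.1 : G) * (g₀ * q.2 * g₀⁻¹)
  have hconj : ∀ q : B, g₀⁻¹ * (g₀ * (q : G) * g₀⁻¹) * g₀ ∈ B := fun q => by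
    rw [show g₀⁻¹ * (g₀ * (q : G) * g₀⁻¹) * g₀ = q by group]; exact q.2
  have hconj1 : ∀ q : B, (q : G) ≠ 1 → g₀ * (q : G) * g₀⁻¹ ≠ 1 := fun q h e => h (by
    rw [show (q : G) = g₀⁻¹ * (g₀ * q * g₀⁻¹) * g₀ by group, e]; group)
  have hptM : ∀ q, pt q ∉ M := fun q hq => by
    simp only [pt] at hq
    split_ifs at hq with h
    · exact hg₀ ((mul_mem_cancel_left (hs.le q.1.2)).1 hq)
    · exact hs.conj_not_mem hg₀ (hconj q.2) (hconj1 _ h) ((mul_mem_cancel_left (hs.le q.1.2)).1 hq)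
  have hptinj : ∀ q q', (pt q)⁻¹ * pt q' ∈ M → q = q' := by
    rintro ⟨a, x⟩ ⟨a', x'⟩ h
    simp only [pt] at h
    have haa : (a : G)⁻¹ * a' ∈ B := mul_mem (inv_mem a.2) a'.2
    have ea : (a : G)⁻¹ * a' = 1 → a = a' := fun e => Subtype.ext (inv_mul_eq_one.1 e)
    have eai : ((a' : G)⁻¹ * a)⁻¹ = (a : G)⁻¹ * a' := by group
    split_ifs at h with hx hx' hx'
    · refine Prod.ext (ea ?_) (Subtype.ext (hx.trans hx'.symm))
      by_contra hne
      refine hs.not_mem haa hne hg₀ ?_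
      rwa [show ((a : G) * g₀)⁻¹ * (a' * g₀) = g₀⁻¹ * ((a : G)⁻¹ * a') * g₀ by group] at h
    · exfalso
      refine hs.point_ne hg₀ (inv_mem haa) (hconj x') (hconj1 _ hx') ?_
      rwa [show (((a : G)⁻¹ * a')⁻¹ * g₀)⁻¹ * (g₀ * x' * g₀⁻¹) =
        ((a : G) * g₀)⁻¹ * (a' * (g₀ * x' * g₀⁻¹)) by group]
    · exfalso
      refine hs.point_ne hg₀ haa (hconj x) (hconj1 _ hx) ?_
      have h' := inv_mem h
      rwa [show (((a : G)⁻¹ * a') * g₀)⁻¹ * (g₀ * x * g₀⁻¹) =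
        (((a : G) * (g₀ * x * g₀⁻¹))⁻¹ * (a' * g₀))⁻¹ by group]
    · by_cases hne : (a : G)⁻¹ * a' = 1
      · refine Prod.ext (ea hne) ?_
        by_contra hxx
        refine hs.not_mem (mul_mem (inv_mem x.2) x'.2)
          (fun e => hxx (Subtype.ext (inv_mul_eq_one.1 e))) (g := g₀⁻¹)
          (fun hh => hg₀ (by simpa using inv_mem hh)) ?_
        rw [← ea hne] at h
        rwa [show g₀⁻¹⁻¹ * ((x : G)⁻¹ * x') * g₀⁻¹ =
          ((a : G) * (g₀ * x * g₀⁻¹))⁻¹ * (a * (g₀ * x' * g₀⁻¹)) by group]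
      · exfalso
        refine hs.point_ne' hg₀ haa hne (hconj x') (hconj1 _ hx') (b' := g₀ * (x : G) * g₀⁻¹)
          (hconj x) ?_
        have hxi : g₀ * (x : G) * g₀⁻¹ = g₀ * (x : G)⁻¹ * g₀⁻¹ := by
          rw [inv_eq_of_mul_eq_one_right (hs.sq _ x.2)]
        rwa [hxi, show g₀ * (x : G)⁻¹ * g₀⁻¹ * ((a : G)⁻¹ * a') * (g₀ * x' * g₀⁻¹) =
          ((a : G) * (g₀ * x * g₀⁻¹))⁻¹ * (a' * (g₀ * x' * g₀⁻¹)) by group]
  choose c hc y hy hcy using fun q => hex (pt q) (hptM q)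
  rw [← Nat.card_prod]
  refine Nat.card_le_card_of_injective (fun q => ⟨c q, hc q, hcy q ▸ hS _ _ (hy q)⟩) fun q q' e => ?_
  have e' : c q = c q' := congrArg Subtype.val e
  have h1 : ρ (pt q) (y q) = ρ (pt q') (y q') := by rw [← hcy, ← hcy, e']
  have h2 : y q = ρ ((pt q)⁻¹ * pt q') (y q') := by
    rw [map_mul, MulAut.mul_apply, ← h1, apply_inv_apply]
  refine hptinj q q' (by_contra fun hn => ?_)
  have h3 := hs.disj _ hn (y q') (hy q') (h2 ▸ hy q)
  refine hv₀ ((mul_mem_cancel_left (hc q')).1 ?_)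
  rw [hcy q', h3, map_one]
  exact one_mem C

end CfsgLib.FourFree
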