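import Cfsg.Agent.Lib.FourFree.Config.Member
import Cfsg.Agent.Lib.FourFree.Config.Points

/-!
# The pair inequality

In a configuration `Z = C_D(O²(G))` is central in `G`.  For `K₀ ≤ Z` and `s ∈ P` not central in
`D` modulo `K₀`, the square of `|F : P|` is at most the index of the radical modulo `K₀` in the
centralizer of `s` modulo `K₀` in `P'`.
-/

set_option autoImplicit false
set_option linter.style.haveILetI false
set_option linter.unusedSectionVars false

open Subgroup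
open scoped commutatorElement
open CfsgLib.Fusion (conjBy mem_conjBy conj_mem_conjBy conjBy_le_iff conjBy_eq_iff conjBy_mono
  conjBy_conjBy conjBy_inv_conjBy conjBy_conjBy_inv card_conjBy)
open CfsgLib.CFun (delt fixOf mem_fixOf)

namespace CfsgLib.FourFree.Stellmacher

universe u

variable {S T G G' : Type u} [Group S] [Group T] [Group G] [Group G'] [Finite T] [Finite G]
  {f : T →* S} {τ : T →* G} {τ' : S →* G'} {U : Subgroup S}

/-- The image of `W` in `G`. -/
abbrev frameW (f : T →* S) (τ : T →* G) (τ' : S →* G') (U : Subgroup S) : Subgroup G :=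
  ((spanOf τ' U).comap f).map τ

/-- The radical of `D` modulo `K₀`. -/
def pairRad (τ : T →* G) (g : G) (K₀ : Subgroup G) : Subgroup G where
  carrier := {d | d ∈ pairD τ g ∧ ∀ e ∈ pairD τ g, ∀ h : G, h * ⁅d, e⁆ * h⁻¹ ∈ K₀}
  one_mem' := ⟨one_mem _, fun e _ h => by simp⟩
  mul_mem' := fun {a b} ha hb => ⟨mul_mem ha.1 hb.1, fun e he h => by
    have e1 : h * ⁅a * b, e⁆ * h⁻¹ =
        (h * a) * ⁅b, e⁆ * (h * a)⁻¹ * (h * ⁅a, e⁆ * h⁻¹) := by
      simp only [commutatorElement_def]; group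
    rw [e1]; exact mul_mem (hb.2 e he _) (ha.2 e he h)⟩
  inv_mem' := fun {a} ha => ⟨inv_mem ha.1, fun e he h => by
    have e1 : h * ⁅a⁻¹, e⁆ * h⁻¹ = ((h * a⁻¹) * ⁅a, e⁆ * (h * a⁻¹)⁻¹)⁻¹ := by
      simp only [commutatorElement_def]; group
    rw [e1]; exact inv_mem (ha.2 e he _)⟩

variable (hc : HConfig S T G G' f τ τ' U)

include hc

theorem HConfig.frameW_le : frameW f τ τ' U ≤ frameF τ := map_mono hc.span_le_closure

variable {g : G} (hg : IsPair τ g)

include hg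

theorem HConfig.pairL_inv : pairL τ g⁻¹ = pairL τ g := by
  haveI := hc.pairL_normal hg
  conv_rhs => rw [← conjBy_eq_iff.2
    (show g⁻¹ ∈ normalizer (pairL τ g : Set G) by rw [normalizer_eq_top]; exact mem_top _)]
  rw [pairL, pairL]
  conv_rhs => rw [conjBy, Subgroup.map_sup]
  rw [show (conjBy g (frameF τ)).map (MulAut.conj g⁻¹).toMonoidHom =
    conjBy g⁻¹ (conjBy g (frameF τ)) from rfl, conjBy_inv_conjBy, sup_comm]

theorem HConfig.isPair_inv : IsPair τ g⁻¹ :=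
  ⟨fun h => hg.not_mem (by simpa using inv_mem h), by rw [hc.pairL_inv hg]; exact inv_mem hg.mem,
    fun h hh hM => by rw [hc.pairL_inv hg] at hh ⊢; exact hg.least h hh hM⟩

theorem HConfig.pairD_inv : pairD τ g⁻¹ = pairD τ g := by
  haveI := hc.pairD_normal hg
  conv_rhs => rw [← conjBy_eq_iff.2
    (show g⁻¹ ∈ normalizer (pairD τ g : Set G) by rw [normalizer_eq_top]; exact mem_top _)]
  rw [pairD, pairD]
  conv_rhs => rw [conjBy, Subgroup.map_sup]
  rw [show (conjBy g (pairP τ)).map (MulAut.conj g⁻¹).toMonoidHom =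
    conjBy g⁻¹ (conjBy g (pairP τ)) from rfl, conjBy_inv_conjBy, sup_comm]

theorem HConfig.pairZ_inv : pairZ τ g⁻¹ = pairZ τ g := by
  rw [pairZ, pairZ, hc.pairD_inv hg]

/-- `C_D(O²(G))` is central. -/
theorem HConfig.pairZ_le_center : pairZ τ g ≤ center G := by
  intro z hz
  haveI hQn : (Cfsg.pCore 2 G).Normal := Subgroup.sSup_normal _ fun N hN => hN.1
  haveI hRn : (Cfsg.pResidual 2 G).Normal := CfsgLib.Fusion.pResidual_normal
  obtain ⟨-, -, -, hinf, -, -⟩ := hc.pair_main hg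
  have hn : pairP τ ≤ normalizer (conjBy g (pairP τ) : Set G) := by
    intro p hp
    refine conjBy_eq_iff.1 (CfsgLib.Fusion.conjBy_eq_of_le (conjBy_le_iff.2 fun x hx => ?_))
    have h := mul_mem (hc.pairP_le_conj_normalizer hg hp hx).2 hx
    rwa [commutatorElement_def, inv_mul_cancel_right] at h
  obtain ⟨p, hp, x, hx, hpx⟩ := Set.mem_mul.1
    ((Subgroup.coe_mul_of_left_le_normalizer_right _ _ hn).le (SetLike.mem_coe.2 hz.1))
  have hxe : x = p⁻¹ * z := by rw [← hpx]; group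
  have hxZ : x ∈ pairZ τ g := hinf x
    (hxe ▸ mul_mem (mem_sup_left (inv_mem hp)) (mem_sup_right hz)) (mem_sup_left hx)
  have hpZ : p ∈ pairZ τ g := by
    rw [show p = z * x⁻¹ by rw [← hpx]; group]
    exact mul_mem hz (inv_mem hxZ)
  rw [← hpx]
  refine mul_mem (hc.mem_center_of hpZ.2 (mem_centralizer_iff.2 fun w hw =>
    (commute_of_sq' hc.frameF_sq (hc.frameW_le hw) hp.1).eq)) ?_
  -- the conjugate of `W`
  refine Subgroup.mem_center_iff.2 fun k => ?_
  have hconj : Cfsg.pResidual 2 G ⊔ conjBy g (frameW f τ τ' U) = ⊤ := by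
    have h := congrArg (fun K : Subgroup G => conjBy g K) hc.residual_sup_span
    simp only [conjBy, Subgroup.map_sup] at h
    rwa [show (Cfsg.pResidual 2 G).map (MulAut.conj g).toMonoidHom = Cfsg.pResidual 2 G from
      conjBy_eq_iff.2 (by rw [normalizer_eq_top]; exact mem_top g),
      map_top_of_surjective _ (MulAut.conj g).surjective] at h
  have hle : Cfsg.pResidual 2 G ⊔ conjBy g (frameW f τ τ' U) ≤ centralizer ({x} : Set G) :=
    sup_le (fun d hd => mem_centralizer_singleton_iff.2 (mem_centralizer_iff.1 hxZ.2 d hd))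
      fun w hw => mem_centralizer_singleton_iff.2 (commute_of_sq' (sq_conjBy hc.frameF_sq g)
        (conjBy_mono hc.frameW_le hw) (conjBy_mono inf_le_left hx)).eq
  exact mem_centralizer_singleton_iff.1 (hle (hconj.ge (mem_top k)))

theorem HConfig.commutator_mem_pairZ {p : G} (hp : p ∈ pairP τ) {x : G}
    (hx : x ∈ conjBy g (pairP τ)) : ⁅p, x⁆ ∈ pairZ τ g :=
  hc.inf_le_pairZ hg (hc.pairP_le_conj_normalizer hg hp hx)

/-- The commutators with an involution `a` of `F` form a symmetric pairing. -/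
theorem HConfig.commutator_symm {a : G} (ha : a ∈ frameF τ) {x y : G}
    (hx : x ∈ conjBy g (pairP τ)) (hy : y ∈ conjBy g (pairP τ)) :
    ⁅⁅a, x⁆, y⁆ = ⁅⁅a, y⁆, x⁆ := by
  have hD := hc.pairD_le_core hg
  have hs := (hc.commutator_mem_pairP hg (hD (mem_sup_right hx)) ha).2
  have ht := (hc.commutator_mem_pairP hg (hD (mem_sup_right hy)) ha).2
  have hP2 : ∀ p ∈ pairP τ, p * p = 1 := fun p hp => hc.frameF_sq p hp.1
  have hP'2 := sq_conjBy hP2 g
  set s := ⁅a, x⁆ with hsdef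
  set t := ⁅a, y⁆ with htdef
  have hz := fun {p : G} (hp : p ∈ pairP τ) {q : G} (hq : q ∈ conjBy g (pairP τ)) =>
    hc.pairZ_le_center hg (hc.commutator_mem_pairZ hg hp hq)
  have hxy : Commute x y := commute_of_sq' hP'2 hx hy
  have hst : Commute s t := commute_of_sq' hP2 hs ht
  have h1 : Commute (s * x) (t * y) := by
    have e1 : s * x = a * x * a⁻¹ := by rw [hsdef, commutatorElement_def]; group
    have e2 : t * y = a * y * a⁻¹ := by rw [htdef, commutatorElement_def]; group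
    rw [e1, e2]
    exact hxy.map (MulAut.conj a).toMonoidHom
  have h2 : ⁅s * x, t * y⁆ = 1 := commutatorElement_eq_one_iff_mul_comm.2 h1.eq
  have e : ⁅s * x, t * y⁆ =
      s * (⁅x, t⁆ * (t * ⁅x, y⁆ * t⁻¹)) * s⁻¹ * (⁅s, t⁆ * (t * ⁅s, y⁆ * t⁻¹)) := by
    simp only [commutatorElement_def]; group
  rw [e, commutatorElement_eq_one_iff_mul_comm.2 hxy.eq, commutatorElement_eq_one_iff_mul_comm.2
    hst.eq, mul_one, mul_inv_cancel, mul_one, one_mul,
    ← commutatorElement_inv t x] at h2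
  rw [Subgroup.mem_center_iff.1 (inv_mem (hz ht hx)) s, mul_inv_cancel_right,
    Subgroup.mem_center_iff.1 (hz hs hy) t, mul_inv_cancel_right, inv_mul_eq_one] at h2
  exact h2.symm

variable {K₀ : Subgroup G} (hK₀ : K₀ ≤ pairZ τ g)

theorem HConfig.pairRad_normal : (pairRad τ g K₀).Normal := by
  haveI hDn := hc.pairD_normal hg
  refine ⟨fun d hd k => ⟨hDn.conj_mem d hd.1 k, fun e he h => ?_⟩⟩
  have := hd.2 (k⁻¹ * e * k) (by simpa using hDn.conj_mem e he k⁻¹) (h * k)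
  convert this using 1
  simp only [commutatorElement_def]; group

include hK₀

theorem HConfig.mem_of_conj_mem {x h : G} (hh : h * x * h⁻¹ ∈ K₀) : x ∈ K₀ := by
  have hc' := Subgroup.mem_center_iff.1 (hc.pairZ_le_center hg (hK₀ hh)) h
  have : h * x * h⁻¹ = x := mul_left_cancel (a := h) (by rw [hc']; group)
  exact this ▸ hh

theorem HConfig.conj_mem_of_mem {x : G} (hx : x ∈ K₀) (h : G) : h * x * h⁻¹ ∈ K₀ := by
  rw [Subgroup.mem_center_iff.1 (hc.pairZ_le_center hg (hK₀ hx)) h, mul_inv_cancel_right]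
  exact hx

theorem HConfig.pairZ_le_pairRad : pairZ τ g ≤ pairRad τ g K₀ := fun z hz => ⟨hz.1, fun e _ h => by
  rw [commutatorElement_eq_one_iff_mul_comm.2
    (Subgroup.mem_center_iff.1 (hc.pairZ_le_center hg hz) e).symm, mul_one, mul_inv_cancel]
  exact one_mem _⟩

/-- The commutator criterion for the radical on `P'`. -/
theorem HConfig.mem_pairRad_iff {x : G} (hx : x ∈ conjBy g (pairP τ)) :
    x ∈ pairRad τ g K₀ ↔ ∀ p ∈ pairP τ, ⁅x, p⁆ ∈ K₀ := by
  refine ⟨fun h p hp => by simpa using h.2 p (mem_sup_left hp) 1, fun h =>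
    ⟨mem_sup_right hx, fun e he h' => hc.conj_mem_of_mem hg hK₀ ?_ h'⟩⟩
  have hP'2 : ∀ p ∈ conjBy g (pairP τ), p * p = 1 :=
    sq_conjBy (fun p (hp : p ∈ pairP τ) => hc.frameF_sq p hp.1) g
  unfold pairD at he
  rw [sup_eq_closure] at he
  induction he using closure_induction with
  | mem e he =>
    rcases he with he | he
    · exact h e he
    · rw [commutatorElement_eq_one_iff_mul_comm.2 (commute_of_sq' hP'2 hx he).eq]; exact one_mem _
  | one => simp
  | mul u v _ _ hu hv =>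
    rw [show ⁅x, u * v⁆ = ⁅x, u⁆ * (u * ⁅x, v⁆ * u⁻¹) by simp only [commutatorElement_def]; group]
    exact mul_mem hu (hc.conj_mem_of_mem hg hK₀ hv u)
  | inv u _ hu =>
    rw [show ⁅x, u⁻¹⁆ = u⁻¹ * ⁅x, u⁆⁻¹ * u⁻¹⁻¹ by simp only [commutatorElement_def]; group]
    exact hc.conj_mem_of_mem hg hK₀ (inv_mem hu) _

/-- An element of `F - P` fixing an element of `P'` modulo the radical forces it into the radical. -/
theorem HConfig.pairRad_inj {a : G} (ha : a ∈ frameF τ) (haQ : a ∉ Cfsg.pCore 2 G) {x : G}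
    (hx : x ∈ conjBy g (pairP τ)) (h : ⁅a, x⁆ ∈ pairRad τ g K₀) : x ∈ pairRad τ g K₀ := by
  refine (hc.mem_pairRad_iff hg hK₀ hx).2 fun p hp => ?_
  obtain ⟨y, hy, hyp⟩ := (hc.pair_main hg).2.1 a ha haQ p hp
  have h1 : ⁅⁅a, y⁆, x⁆ ∈ K₀ := by
    rw [← hc.commutator_symm hg ha hx hy]
    simpa using h.2 y (mem_sup_right hy) 1
  have hz := Subgroup.mem_center_iff.1 (hc.pairZ_le_center hg hyp)
  have e : ⁅x, p⁆ = ⁅x, ⁅a, y⁆⁆ := by
    set z := ⁅a, y⁆⁻¹ * p with hzdef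
    rw [show p = ⁅a, y⁆ * z by rw [hzdef]; group]
    simp only [commutatorElement_def]
    rw [mul_inv_rev]
    have := hz x⁻¹
    calc x * (a * y * a⁻¹ * y⁻¹ * z) * x⁻¹ * (z⁻¹ * (a * y * a⁻¹ * y⁻¹)⁻¹)
        = x * (a * y * a⁻¹ * y⁻¹) * (z * x⁻¹) * z⁻¹ * (a * y * a⁻¹ * y⁻¹)⁻¹ := by group
      _ = _ := by rw [← this]; group
  rw [e, ← commutatorElement_inv]
  exact inv_mem h1

set_option maxHeartbeats 1600000 in
/-- **The pair inequality.** -/
theorem HConfig.pair_bound {s : G} (hs : s ∈ pairP τ)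
    (hsR : ∃ x ∈ conjBy g (pairP τ), ⁅x, s⁆ ∉ K₀) :
    ∃ C : Subgroup G, C ≤ conjBy g (pairP τ) ∧ (∀ x ∈ C, ⁅x, s⁆ ∈ K₀) ∧
      (Cfsg.pCore 2 G).relIndex (frameF τ) * (Cfsg.pCore 2 G).relIndex (frameF τ) ≤
        (pairRad τ g K₀).relIndex C := by
  classical
  haveI hQn : (Cfsg.pCore 2 G).Normal := Subgroup.sSup_normal _ fun N hN => hN.1
  haveI hDn := hc.pairD_normal hg
  haveI hRn : (pairRad τ g K₀).Normal := hc.pairRad_normal hg
  haveI hLn := hc.pairL_normal hg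
  have hPF : pairP τ ≤ frameF τ := inf_le_left
  have hP'F : conjBy g (pairP τ) ≤ conjBy g (frameF τ) := conjBy_mono hPF
  have hP2 : ∀ p ∈ pairP τ, p * p = 1 := fun p hp => hc.frameF_sq p hp.1
  have hP'2 := sq_conjBy hP2 g
  have hZR := hc.pairZ_le_pairRad hg hK₀
  haveI hK₀n : K₀.Normal := ⟨fun x hx h => hc.conj_mem_of_mem hg hK₀ hx h⟩
  -- the centralizer of `s` modulo `K₀` in `P'`
  set qK := QuotientGroup.mk' K₀ with hqK
  have hqK1 : ∀ x, qK x = 1 ↔ x ∈ K₀ := fun x => QuotientGroup.eq_one_iff x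
  set C := conjBy g (pairP τ) ⊓ (centralizer ({qK s} : Set (G ⧸ K₀))).comap qK with hC
  have hCs : ∀ x, qK x ∈ centralizer ({qK s} : Set (G ⧸ K₀)) ↔ ⁅x, s⁆ ∈ K₀ := fun x => by
    rw [mem_centralizer_singleton_iff, ← hqK1, map_commutatorElement,
      commutatorElement_eq_one_iff_mul_comm]
  refine ⟨C, inf_le_left, fun x hx => (hCs x).1 hx.2, ?_⟩
  -- the quotient by the radical
  set qR := QuotientGroup.mk' (pairRad τ g K₀) with hqR
  have hq1 : ∀ x, qR x = 1 ↔ x ∈ pairRad τ g K₀ := fun x => QuotientGroup.eq_one_iff x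
  have hqc : ∀ x y, qR x * qR y = qR y * qR x ↔ ⁅x, y⁆ ∈ pairRad τ g K₀ := fun x y => by
    rw [← hq1, map_commutatorElement, commutatorElement_eq_one_iff_mul_comm]
  set E := (pairD τ g).map qR with hE
  haveI hEn : E.Normal := hDn.map _ (QuotientGroup.mk'_surjective _)
  have hE2 : ∀ e ∈ E, e * e = 1 := by
    rw [hE, pairD, Subgroup.map_sup]
    refine sq_sup' (sq_map hP2) (sq_map hP'2) ?_
    rintro _ ⟨a, ha, rfl⟩ _ ⟨b, hb, rfl⟩
    exact (hqc a b).2 (hZR (hc.commutator_mem_pairZ hg ha hb))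
  letI : CommGroup E := { mul_comm := fun a b => Subtype.ext (commute_of_sq' hE2 a.2 b.2).eq }
  have h2E : ∀ e : E, e * e = 1 := fun e => Subtype.ext (hE2 e e.2)
  let φ : G ⧸ pairRad τ g K₀ →* MulAut E := MulAut.conjNormal
  let σ := QuotientGroup.mk' φ.ker
  let Φ := QuotientGroup.kerLift φ
  have hΦ : Function.Injective Φ := QuotientGroup.kerLift_injective _
  have hact : ∀ (y : G ⧸ pairRad τ g K₀) (e : E),
      ((Φ (σ y) e : E) : G ⧸ pairRad τ g K₀) = y * e * y⁻¹ := fun y e => rfl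
  have hHG : HG ((G ⧸ pairRad τ g K₀) ⧸ φ.ker) := hg_of_not_involves
    (fun h => hc.member.free (CfsgLib.Fusion.involves_of_surjective qR
      (QuotientGroup.mk'_surjective _) h)) σ
    (QuotientGroup.mk'_surjective _) (MonoidHom.id E) Function.surjective_id hΦ hEn
    (fun y e => Subtype.ext (hact y e)) (fun a ha b hb => commute_of_sq' hE2 ha hb) h2E
  let ψ : ↥(pairL τ g) →* (G ⧸ pairRad τ g K₀) ⧸ φ.ker :=
    σ.comp (qR.comp (pairL τ g).subtype)
  let Lb := ψ.range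
  let π : ↥(pairL τ g) →* Lb := ψ.rangeRestrict
  have hπ : Function.Surjective π := ψ.rangeRestrict_surjective
  let ρ : Lb →* MulAut E := Φ.comp Lb.subtype
  let q : ↥(pairD τ g) →* E := (qR.comp (pairD τ g).subtype).codRestrict E
    fun x => mem_map_of_mem qR x.2
  have hqs : Function.Surjective q := by
    rintro ⟨_, x, hx, rfl⟩
    exact ⟨⟨x, hx⟩, rfl⟩
  have hq : ∀ x, q x = 1 ↔ (x : G) ∈ pairRad τ g K₀ := fun x =>
    ⟨fun h => (hq1 _).1 (congrArg Subtype.val h), fun h => Subtype.ext ((hq1 _).2 h)⟩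
  have hfix : ∀ (l : ↥(pairL τ g)) (x : ↥(pairD τ g)),
      ρ (π l) (q x) = q x ↔ ⁅(l : G), (x : G)⁆ ∈ pairRad τ g K₀ := by
    intro l x
    rw [← hqc, Subtype.ext_iff]
    show qR (l : G) * qR (x : G) * (qR (l : G))⁻¹ = qR (x : G) ↔ _
    exact mul_inv_eq_iff_eq_mul
  have hρq : ∀ (l : ↥(pairL τ g)) (x : ↥(pairD τ g)),
      ρ (π l) (q x) = q ⟨l * x * (l : G)⁻¹, hDn.conj_mem x x.2 l⟩ := fun l x => Subtype.ext (by
    show qR (l : G) * qR (x : G) * (qR (l : G))⁻¹ = qR ((l : G) * x * (l : G)⁻¹)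
    rw [map_mul, map_mul, map_inv])
  set B := ((frameF τ).subgroupOf (pairL τ g)).map π with hB
  set Mb := ((frameM τ).subgroupOf (pairL τ g)).map π with hMb
  set PE := ((pairP τ).subgroupOf (pairD τ g)).map q with hPE
  set PE' := ((conjBy g (pairP τ)).subgroupOf (pairD τ g)).map q with hPE'
  obtain ⟨x₁, hx₁, hx₁K⟩ := hsR
  have hx₁R : x₁ ∉ pairRad τ g K₀ := fun h => hx₁K ((hc.mem_pairRad_iff hg hK₀ hx₁).1 h s hs)
  have hsR : s ∉ pairRad τ g K₀ := fun h => hx₁K (by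
    have := inv_mem (h.2 x₁ (mem_sup_right hx₁) 1)
    simpa using this)
  -- elements of `P` act trivially, the others fix only the half
  have hout : ∀ a : ↥(pairL τ g), π a ≠ 1 → (a : G) ∈ frameF τ → (a : G) ∉ Cfsg.pCore 2 G := by
    intro a ha haF haQ
    refine ha (Subtype.ext ?_)
    show σ (qR (a : G)) = 1
    refine (QuotientGroup.eq_one_iff _).2 (MulEquiv.ext fun e => Subtype.ext ?_)
    show qR (a : G) * e * (qR (a : G))⁻¹ = e
    have := commute_of_sq' hE2 (mem_map_of_mem qR (mem_sup_left ⟨haF, haQ⟩ :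
      (a : G) ∈ pairD τ g)) e.2
    rw [this.eq, mul_inv_cancel_right]
  have hPEB : PE ≤ fixOf ρ B := by
    rintro _ ⟨p, hp, rfl⟩
    refine mem_fixOf.2 ?_
    rintro _ ⟨a, ha, rfl⟩
    refine (hfix a p).2 ?_
    have h : ⁅(a : G), (p : G)⁆ = 1 := commutatorElement_eq_one_iff_mul_comm.2
      (commute_of_sq' hc.frameF_sq (show (a : G) ∈ frameF τ from ha) (hPF hp)).eq
    rw [h]
    exact one_mem _
  have hsup : PE ⊔ PE' = ⊤ := by
    have h1 : pairP τ ≤ pairD τ g := le_sup_left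
    have h2 : conjBy g (pairP τ) ≤ pairD τ g := le_sup_right
    rw [hPE, hPE', ← Subgroup.map_sup, ← subgroupOf_sup h1 h2,
      show pairP τ ⊔ conjBy g (pairP τ) = pairD τ g from rfl, subgroupOf_self,
      map_top_of_surjective q hqs]
  have hsingle : ∀ b ∈ B, b ≠ 1 → ∀ e, ρ b e = e → e ∈ PE := by
    rintro _ ⟨a, ha, rfl⟩ hb e he
    obtain ⟨u, hu, v, hv, rfl⟩ := Subgroup.mem_sup.1 (hsup.ge (mem_top e))
    have hav : ρ (π a) v = v := by
      rw [map_mul, mem_fixOf.1 (hPEB hu) _ (mem_map_of_mem π ha)] at he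
      exact mul_left_cancel he
    obtain ⟨x, hx, rfl⟩ := hv
    have hxR := hc.pairRad_inj hg hK₀ (show (a : G) ∈ frameF τ from ha) (hout a hb ha) hx
      ((hfix a x).1 hav)
    rw [(hq x).2 hxR, mul_one]; exact hu
  obtain ⟨a₀, ha₀F, ha₀Q⟩ := SetLike.not_le_iff_exists.1 hc.frameF_not_le
  have hπa₀ : ∀ (a : ↥(pairL τ g)), (a : G) ∈ frameF τ → (a : G) ∉ Cfsg.pCore 2 G → π a ≠ 1 := by
    intro a ha haQ e
    refine hx₁R (hc.pairRad_inj hg hK₀ ha haQ hx₁ ((hfix a ⟨x₁, mem_sup_right hx₁⟩).1 ?_))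
    rw [e, map_one, MulAut.one_apply]
  have hfixB : fixOf ρ B = PE := le_antisymm (fun e he =>
    hsingle _ (mem_map_of_mem π (show (⟨a₀, mem_sup_left ha₀F⟩ : ↥(pairL τ g)) ∈
      (frameF τ).subgroupOf (pairL τ g) from ha₀F)) (hπa₀ _ ha₀F ha₀Q) e
      (mem_fixOf.1 he _ (mem_map_of_mem π ha₀F))) hPEB
  have hinf : PE ⊓ PE' = ⊥ := by
    refine (Subgroup.eq_bot_iff_forall _).2 ?_
    rintro _ ⟨he, x, hx, rfl⟩
    exact (hq x).2 (hc.pairRad_inj hg hK₀ ha₀F ha₀Q hx
      ((hfix ⟨a₀, mem_sup_left ha₀F⟩ x).1 (mem_fixOf.1 (hfixB.ge he) _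
        (mem_map_of_mem π (show (⟨a₀, mem_sup_left ha₀F⟩ : ↥(pairL τ g)) ∈
          (frameF τ).subgroupOf (pairL τ g) from ha₀F)))))
  have hmapg : PE.map (ρ (π ⟨g, hg.mem⟩) : E ≃* E).toMonoidHom = PE' := by
    ext e
    constructor
    · rintro ⟨_, ⟨p, hp, rfl⟩, rfl⟩
      exact ⟨_, conj_mem_conjBy (g := g) hp, (hρq ⟨g, hg.mem⟩ p).symm⟩
    · rintro ⟨x, hx, rfl⟩
      have hx' : g⁻¹ * (x : G) * g ∈ pairP τ := mem_conjBy.1 hx
      refine ⟨q ⟨g⁻¹ * x * g, mem_sup_left hx'⟩,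
        ⟨⟨g⁻¹ * x * g, mem_sup_left hx'⟩, hx', rfl⟩,
        (hρq ⟨g, hg.mem⟩ _).trans (congrArg q (Subtype.ext ?_))⟩
      show g * (g⁻¹ * (x : G) * g) * g⁻¹ = x
      group
  have hcardPE : Nat.card PE' = Nat.card PE := by
    rw [← hmapg]
    exact Subgroup.card_map_of_injective (ρ (π ⟨g, hg.mem⟩)).injective
  have hcard : Nat.card E = Nat.card (fixOf ρ B) * Nat.card (fixOf ρ B) := by
    have := card_sup_mul_inf PE PE'
    rw [hsup, hinf, Subgroup.card_bot, mul_one, Subgroup.card_top, hcardPE] at this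
    rw [hfixB]; exact this
  have hconjB : ∀ h : ↥(pairL τ g), conjBy (π h) B =
      ((conjBy (h : G) (frameF τ)).subgroupOf (pairL τ g)).map π := by
    intro h
    rw [hB, ← map_conjBy]
    congr 1
    ext x
    rw [mem_conjBy, mem_subgroupOf, mem_subgroupOf, mem_conjBy]
    rfl
  have hgenπ : ∀ h : ↥(pairL τ g), (h : G) ∉ frameM τ → B ⊔ conjBy (π h) B = ⊤ := by
    intro h hh
    have h1 : frameF τ ≤ pairL τ g := le_sup_left
    have h2 : conjBy (h : G) (frameF τ) ≤ pairL τ g :=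
      le_trans le_sup_right (hg.least h h.2 hh).le
    rw [hconjB, hB, ← Subgroup.map_sup, ← subgroupOf_sup h1 h2,
      show frameF τ ⊔ conjBy (h : G) (frameF τ) = pairL τ g from hg.least h h.2 hh, subgroupOf_self,
      map_top_of_surjective π hπ]
  have hinv : ∀ m ∈ Mb, ∀ e ∈ PE, ρ m e ∈ PE := by
    rintro _ ⟨m, hm, rfl⟩ _ ⟨p, hp, rfl⟩
    refine ⟨_, ?_, (hρq m p).symm⟩
    exact ⟨((Subgroup.mem_normalizer_iff.1 hm) _).1 hp.1, hQn.conj_mem _ hp.2 _⟩
  have hne : PE ≠ ⊥ := fun e => hsR ((hq ⟨s, mem_sup_left hs⟩).1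
    (mem_bot.1 (e ▸ mem_map_of_mem q (show (⟨s, mem_sup_left hs⟩ : ↥(pairD τ g)) ∈
      (pairP τ).subgroupOf (pairD τ g) from hs))))
  have hhalf : Halves ρ B Mb PE := by
    refine ⟨h2E, hHG.subgroup _, ?_, ?_, fun b hb hb1 e he => hfixB.symm ▸ hsingle b hb hb1 e he,
      map_mono fun x hx => le_normalizer hx, ?_, hcard, hfixB.ge, hne, hinv⟩
    · rintro _ ⟨a, ha, rfl⟩
      rw [← map_mul, show a * a = 1 from Subtype.ext (hc.frameF_sq a ha), map_one]
    · rintro _ ⟨a, ha, rfl⟩ e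
      obtain ⟨x, rfl⟩ := hqs e
      refine hfixB.ge ?_
      have hc1 := (hc.commutator_mem_pairP hg (hc.pairD_le_core hg x.2) ha).2
      refine ⟨⟨⁅(a : G), (x : G)⁆, mem_sup_left hc1⟩, hc1, ?_⟩
      show q _ = ρ (π a) (q x) / q x
      rw [hρq, ← map_div]
      refine congrArg q (Subtype.ext ?_)
      show ⁅(a : G), (x : G)⁆ = (a : G) * x * (a : G)⁻¹ / x
      rw [commutatorElement_def, div_eq_mul_inv]
    · intro y hy e he hye
      obtain ⟨h, rfl⟩ := hπ y
      have hhM : (h : G) ∉ frameM τ := fun hm => hy (mem_map_of_mem π hm)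
      have hall : (⊤ : Subgroup Lb) ≤ ptFix ρ (zpowers (ρ (π h) e)) := (hgenπ h hhM).ge.trans
        (sup_le (le_ptFix_iff.2 (zpowers_le.2 hye)) (le_ptFix_iff.2 (zpowers_le.2 (by
          rw [fixOf_conjBy]; exact ⟨e, he, rfl⟩))))
      rw [hfixB] at hye
      obtain ⟨p, hp, hpe⟩ := hye
      -- `p` is fixed by `F^g`
      have hp' : (p : G) ∈ pairRad τ g K₀ := by
        haveI := hc.pairRad_normal (hg := hg) (K₀ := K₀)
        have hK₀' : K₀ ≤ pairZ τ g⁻¹ := by rwa [hc.pairZ_inv hg]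
        have hrad : pairRad τ g⁻¹ K₀ = pairRad τ g K₀ := by
          ext d
          show _ ∧ _ ↔ _ ∧ _
          rw [hc.pairD_inv hg]
        have ha'L : g * a₀ * g⁻¹ ∈ pairL τ g := mem_sup_right (conj_mem_conjBy ha₀F)
        have h1 : ⁅g * a₀ * g⁻¹, (p : G)⁆ ∈ pairRad τ g K₀ := by
          refine (hfix ⟨_, ha'L⟩ p).1 ?_
          rw [hpe]
          exact hall (mem_top _) _ (mem_zpowers _)
        have h2 : ⁅a₀, g⁻¹ * (p : G) * g⁆ ∈ pairRad τ g⁻¹ K₀ := by
          rw [hrad]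
          convert hRn.conj_mem _ h1 g⁻¹ using 1
          simp only [commutatorElement_def]; group
        have h3 := hc.pairRad_inj (hc.isPair_inv hg) hK₀' ha₀F ha₀Q
          (by simpa using conj_mem_conjBy (g := g⁻¹) hp) h2
        rw [hrad] at h3
        have := hRn.conj_mem _ h3 g
        simpa [mul_assoc] using this
      have h1 : ρ (π h) e = 1 := by rw [← hpe]; exact (hq p).2 hp'
      simpa using congrArg (ρ (π h)⁻¹) h1
  -- the point
  have hg₀ : π ⟨g⁻¹, inv_mem hg.mem⟩ ∉ Mb := by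
    intro hm
    have hm' : π ⟨g, hg.mem⟩ ∈ Mb := by
      have := inv_mem hm
      rwa [← map_inv, show (⟨g⁻¹, inv_mem hg.mem⟩ : ↥(pairL τ g))⁻¹ = ⟨g, hg.mem⟩ from
        Subtype.ext (inv_inv g)] at this
    refine hne ((Subgroup.eq_bot_iff_card _).2 ?_)
    rw [← hcardPE]
    refine (Subgroup.eq_bot_iff_card _).1 (le_bot_iff.1 (hinf ▸ le_inf ?_ le_rfl))
    rw [← hmapg]
    rintro _ ⟨e, he, rfl⟩
    exact hinv _ hm' e he
  set x₀ := q ⟨s, mem_sup_left hs⟩ with hx₀def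
  have hx₀ : x₀ ∈ fixOf ρ B := hfixB.ge (mem_map_of_mem q
    (show (⟨s, mem_sup_left hs⟩ : ↥(pairD τ g)) ∈ (pairP τ).subgroupOf (pairD τ g) from hs))
  have hx₀1 : x₀ ≠ 1 := fun e => hsR ((hq _).1 e)
  let Sing : Set E := {e | ∃ d : ↥(pairD τ g), q d = e ∧ qK ((d : G) * d) = 1}
  have hbound := hhalf.sq_card_le hg₀ hx₀ hx₀1 Sing (by
    intro y e he
    rw [hfixB] at he
    obtain ⟨p, hp, rfl⟩ := he
    obtain ⟨l, rfl⟩ := hπ y
    refine ⟨_, (hρq l p).symm, ?_⟩
    show qK ((l : G) * p * (l : G)⁻¹ * ((l : G) * p * (l : G)⁻¹)) = 1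
    rw [show (l : G) * p * (l : G)⁻¹ * ((l : G) * p * (l : G)⁻¹) =
      (l : G) * ((p : G) * p) * (l : G)⁻¹ by group, hP2 p hp]
    simp)
  -- translate
  have hcount : Nat.card {c // c ∈ fixOf ρ B ∧ c * ρ (π ⟨g⁻¹, inv_mem hg.mem⟩) x₀ ∈ Sing} ≤
      Nat.card (C.map qR) := by
    have key : ∀ c : E, c ∈ fixOf ρ B → c * ρ (π ⟨g⁻¹, inv_mem hg.mem⟩) x₀ ∈ Sing →
        qR g * (c : G ⧸ pairRad τ g K₀) * (qR g)⁻¹ ∈ C.map qR := by
      intro c hc' hsing
      rw [hfixB] at hc'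
      obtain ⟨p, hp, rfl⟩ := hc'
      obtain ⟨d, hd, hdd⟩ := hsing
      rw [hx₀def, hρq] at hd
      set s' : ↥(pairD τ g) :=
        ⟨g⁻¹ * s * (g⁻¹)⁻¹, hDn.conj_mem s (mem_sup_left hs) g⁻¹⟩ with hs'
      set r := (p * s')⁻¹ * d with hr
      have hrR : (r : G) ∈ pairRad τ g K₀ := (hq r).1 (by
        rw [hr, map_mul, map_inv, map_mul, hd]; exact inv_mul_cancel _)
      -- the square of a radical element is trivial modulo `K₀`
      have hr2 : qK ((r : G) * r) = 1 := by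
        have hn : pairP τ ≤ normalizer (conjBy g (pairP τ) : Set G) := by
          intro p hp
          refine conjBy_eq_iff.1 (CfsgLib.Fusion.conjBy_eq_of_le (conjBy_le_iff.2 fun x hx => ?_))
          have h := mul_mem (hc.pairP_le_conj_normalizer hg hp hx).2 hx
          rwa [commutatorElement_def, inv_mul_cancel_right] at h
        obtain ⟨u, hu, v, hv, huv⟩ := Set.mem_mul.1
          ((Subgroup.coe_mul_of_left_le_normalizer_right _ _ hn).le (SetLike.mem_coe.2 r.2))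
        have huR : u ∈ pairRad τ g K₀ := by
          refine (hq ⟨u, mem_sup_left hu⟩).1 (mem_bot.1 (hinf ▸ ⟨⟨_, hu, rfl⟩, ?_⟩))
          refine ⟨⟨v⁻¹, inv_mem (mem_sup_right hv)⟩, inv_mem hv, ?_⟩
          refine Subtype.ext ?_
          show qR v⁻¹ = qR u
          have h0 : qR u * qR v = 1 := by rw [← map_mul, huv]; exact (hq1 _).2 hrR
          rw [map_inv, ← eq_inv_of_mul_eq_one_left h0]
        have hvu : qK v * qK u = qK u * qK v := by
          rw [← commutatorElement_eq_one_iff_mul_comm, ← map_commutatorElement, hqK1,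
            ← commutatorElement_inv]
          exact inv_mem (by simpa using huR.2 v (mem_sup_right hv) 1)
        rw [← huv, map_mul, map_mul, mul_assoc, ← mul_assoc (qK v), hvu, mul_assoc,
          ← mul_assoc, ← map_mul, hP2 u hu, ← map_mul, hP'2 v hv, map_one, one_mul]
      have hrc : ∀ e ∈ pairD τ g, qK (r : G) * qK e = qK e * qK (r : G) := fun e he => by
        rw [← commutatorElement_eq_one_iff_mul_comm, ← map_commutatorElement, hqK1]
        simpa using hrR.2 e he 1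
      have hps : qK ((p : G) * s' * ((p : G) * s')) = 1 := by
        have e : (d : G) = p * s' * r := by rw [hr]; push_cast; group
        rw [e, map_mul, map_mul] at hdd
        have hcomm := hrc _ (mul_mem p.2 s'.2)
        rw [mul_assoc, ← mul_assoc (qK (r : G)), hcomm, mul_assoc, ← map_mul qK (r : G), hr2,
          mul_one, ← map_mul] at hdd
        exact hdd
      refine ⟨g * p * g⁻¹, ⟨conj_mem_conjBy hp, (hCs _).2 ?_⟩, by rw [map_mul, map_mul, map_inv]; rfl⟩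
      have hs'2 : (s' : G) * s' = 1 := by
        show g⁻¹ * s * (g⁻¹)⁻¹ * (g⁻¹ * s * (g⁻¹)⁻¹) = 1
        rw [show g⁻¹ * s * (g⁻¹)⁻¹ * (g⁻¹ * s * (g⁻¹)⁻¹) = g⁻¹ * (s * s) * g by group, hP2 s hs]
        group
      have h1 : ⁅(p : G), (s' : G)⁆ ∈ K₀ := by
        rw [← hqK1]
        convert hps using 2
        rw [commutatorElement_def, inv_eq_of_mul_eq_one_right (hP2 p hp),
          inv_eq_of_mul_eq_one_right hs'2]
        group
      convert hc.conj_mem_of_mem hg hK₀ h1 g using 1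
      simp only [hs', commutatorElement_def]; group
    refine Nat.card_le_card_of_injective
      (fun c => ⟨qR g * (c.1 : G ⧸ pairRad τ g K₀) * (qR g)⁻¹, key c.1 c.2.1 c.2.2⟩) ?_
    intro a b e
    have e' := congrArg Subtype.val e
    simp only [mul_left_inj, mul_right_inj] at e'
    exact Subtype.ext (Subtype.ext e')
  have hBcard : (Cfsg.pCore 2 G).relIndex (frameF τ) ≤ Nat.card B := by
    rw [hB, ← relIndex_ker]
    have e : (Cfsg.pCore 2 G).relIndex (frameF τ) =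
        ((Cfsg.pCore 2 G).subgroupOf (pairL τ g)).relIndex ((frameF τ).subgroupOf (pairL τ g)) := by
      rw [subgroupOf, subgroupOf, relIndex_comap,
        map_comap_eq_self (by rw [Subgroup.range_subtype]; exact le_sup_left)]
    rw [e, ← inf_relIndex_right π.ker]
    refine Nat.le_of_dvd (Nat.pos_of_ne_zero index_ne_zero_of_finite)
      (relIndex_dvd_of_le_left _ ?_)
    rintro a ⟨hak, haF⟩
    by_contra haQ
    exact hπa₀ a haF haQ hak
  have hCcard : Nat.card (C.map qR) = (pairRad τ g K₀).relIndex C := by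
    rw [← relIndex_ker, hqR, QuotientGroup.ker_mk']
  rw [← hCcard]
  exact (Nat.mul_le_mul hBcard hBcard).trans (hbound.trans hcount)

end CfsgLib.FourFree.Stellmacher
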