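import Cfsg.Agent.Lib.FourFree.Config.Member

/-!
# The frame of the outer member of a configuration

For a normal subgroup `N` of `G'` let `closureIn m N R` be the largest `HSafe m` subgroup of the
`2`-subgroup `R` inside `N`.  In a configuration, with `N` the normal closure of `U` and `B₀` the
image of `T`, its normalizer `M` for the Sylow subgroup contains every proper subgroup containing
`O₂(G') B₀`, and `B₀` has no conjugate in `M` by an element outside `M`.
-/

set_option autoImplicit false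
set_option linter.style.haveILetI false
set_option linter.unusedSectionVars false

open Subgroup
open CfsgLib.Fusion (conjBy mem_conjBy conj_mem_conjBy conjBy_le_iff conjBy_eq_iff conjBy_mono
  conjBy_conjBy conjBy_inv_conjBy conjBy_conjBy_inv card_conjBy)

namespace CfsgLib.FourFree.Stellmacher

universe u

/-- The trivial subgroup is `HSafe`. -/
theorem hsafe_bot {S : Type u} [Group S] (k : ℕ) : HSafe k (⊥ : Subgroup S) := by
  refine ⟨goodIn_bot, fun R _ f hf _ G _ _ τ _ _ => ?_⟩
  rintro _ ⟨r, hr, rfl⟩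
  rw [show r = 1 from hf (by rw [map_one]; exact mem_bot.1 hr), map_one]
  exact one_mem _

section general

variable {G : Type u} [Group G] [Finite G] {m : ℕ} {N : Subgroup G}

/-- The subgroups taken in `closureIn`. -/
def safeIn (m : ℕ) (N R : Subgroup G) : Set (Subgroup R) :=
  {V | HSafe m V ∧ V.map R.subtype ≤ N}

/-- The largest `HSafe m` subgroup of `R` inside `N`, inside the ambient group. -/
def closureIn (m : ℕ) (N R : Subgroup G) : Subgroup G := (sSup (safeIn m N R)).map R.subtype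

theorem sSup_safeIn (R : Subgroup G) : sSup (safeIn m N R) ∈ safeIn m N R := by
  obtain ⟨V, hV, hmax⟩ := (Set.toFinite (safeIn m N R)).exists_maximal
    ⟨⊥, hsafe_bot m, by rw [Subgroup.map_bot]; exact bot_le⟩
  have e : sSup (safeIn m N R) = V := le_antisymm
    (sSup_le fun W hW => le_sup_right.trans (hmax
      ⟨hV.1.sup hW.1, by rw [Subgroup.map_sup]; exact sup_le hV.2 hW.2⟩ le_sup_left))
    (le_sSup hV)
  exact e ▸ hV

theorem closureIn_le (R : Subgroup G) : closureIn m N R ≤ R := map_subtype_le _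

theorem closureIn_le_right (R : Subgroup G) : closureIn m N R ≤ N := (sSup_safeIn R).2

theorem le_closureIn {T : Type u} [Group T] {σ : T →* G} (hσ : Function.Injective σ)
    {V : Subgroup T} (hV : HSafe m V) (hVN : V.map σ ≤ N) {R : Subgroup G} (hR : R ≤ σ.range)
    (hVR : V.map σ ≤ R) : V.map σ ≤ closureIn m N R := by
  let e : T ≃* σ.range := MonoidHom.ofInjective hσ
  let g : R →* T := e.symm.toMonoidHom.comp (Subgroup.inclusion hR)
  have hg : ∀ r : R, σ (g r) = r := fun r =>
    congrArg Subtype.val (e.apply_symm_apply (Subgroup.inclusion hR r))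
  have hginj : Function.Injective g := fun a b h => Subtype.ext (by rw [← hg a, ← hg b, h])
  have hVg : V ≤ g.range := fun x hx =>
    ⟨⟨σ x, hVR (mem_map_of_mem _ hx)⟩, hσ (hg _)⟩
  have hin : V.comap g ∈ safeIn m N R := by
    refine ⟨hV.comap hginj hVg, ?_⟩
    rintro _ ⟨r, hr, rfl⟩
    exact hVN ⟨g r, hr, hg r⟩
  rintro _ ⟨x, hx, rfl⟩
  refine ⟨⟨σ x, hVR (mem_map_of_mem _ hx)⟩, le_sSup hin ?_, rfl⟩
  show g _ ∈ V
  rwa [show g ⟨σ x, hVR (mem_map_of_mem _ hx)⟩ = x from hσ (hg _)]

theorem conjBy_closureIn_le (hN : N.Normal) (g : G) (R : Subgroup G) :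
    conjBy g (closureIn m N R) ≤ closureIn m N (conjBy g R) := by
  let e : ↥(conjBy g R) →* R :=
    { toFun := fun y => ⟨g⁻¹ * y * g, mem_conjBy.1 y.2⟩
      map_one' := Subtype.ext (by simp)
      map_mul' := fun a b => Subtype.ext (by
        show g⁻¹ * ((a : G) * b) * g = g⁻¹ * a * g * (g⁻¹ * b * g)
        group) }
  have he : Function.Injective e := fun a b h => Subtype.ext
    (mul_left_cancel (mul_right_cancel
      (show g⁻¹ * (a : G) * g = g⁻¹ * b * g from congrArg Subtype.val h)))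
  have hes : Function.Surjective e := fun r =>
    ⟨⟨g * r * g⁻¹, conj_mem_conjBy r.2⟩, Subtype.ext (by
      show g⁻¹ * (g * (r : G) * g⁻¹) * g = r
      group)⟩
  have hin : (sSup (safeIn m N R)).comap e ∈ safeIn m N (conjBy g R) := by
    refine ⟨(sSup_safeIn R).1.comap he (by rw [MonoidHom.range_eq_top.2 hes]; exact le_top), ?_⟩
    rintro _ ⟨y, hy, rfl⟩
    have h : g⁻¹ * (y : G) * g ∈ N := (sSup_safeIn R).2 ⟨_, hy, rfl⟩
    have := hN.conj_mem _ h g
    rwa [show g * (g⁻¹ * (y : G) * g) * g⁻¹ = y by group] at this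
  refine conjBy_le_iff.2 ?_
  rintro _ ⟨r, hr, rfl⟩
  refine ⟨⟨g * r * g⁻¹, conj_mem_conjBy r.2⟩, le_sSup hin ?_, rfl⟩
  show e _ ∈ sSup (safeIn m N R)
  rwa [show e ⟨g * r * g⁻¹, conj_mem_conjBy r.2⟩ = r from Subtype.ext (by
    show g⁻¹ * (g * (r : G) * g⁻¹) * g = r
    group)]

theorem normalizer_le_normalizer_closureIn (hN : N.Normal) (R : Subgroup G) :
    normalizer (R : Set G) ≤ normalizer (closureIn m N R : Set G) := by
  intro g hg
  refine conjBy_eq_iff.1 (CfsgLib.Fusion.conjBy_eq_of_le ?_)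
  refine (conjBy_closureIn_le hN g R).trans (le_of_eq ?_)
  rw [conjBy_eq_iff.2 hg]

end general

/-- The data of the frame of the outer member. -/
structure Outer {S G : Type u} [Group S] [Group G] [Finite G] (σ : S →* G) (m : ℕ)
    (N B₀ : Subgroup G) : Prop where
  member : IsMember G σ
  normal : N.Normal
  le_range : B₀ ≤ σ.range
  card_lt : Nat.card G < m
  span : ∀ (R : Type u) [Group R] [Finite R] (Y : Type u) [Group Y] [Finite Y] (σ' : R →* Y),
    IsMember Y σ' → Nat.card Y < Nat.card G → ∀ V : Subgroup R, HSafe m V → HSafe m (spanOf σ' V)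
  not_normal : ∀ R : Subgroup G, IsPGroup 2 R → B₀ ≤ R → ¬ (closureIn m N R).Normal

section outer

variable {S G : Type u} [Group S] [Group G] [Finite G] {σ : S →* G} {m : ℕ}
  {N B₀ : Subgroup G}

/-- A subgroup containing `O₂` and a conjugate of `B₀`. -/
def IsBig (B₀ R : Subgroup G) : Prop := Cfsg.pCore 2 G ≤ R ∧ ∃ g, conjBy g B₀ ≤ R

theorem IsBig.mono {R R' : Subgroup G} (h : IsBig B₀ R) (hle : R ≤ R') : IsBig B₀ R' :=
  ⟨h.1.trans hle, h.2.choose, h.2.choose_spec.trans hle⟩

theorem IsBig.conj {R : Subgroup G} (h : IsBig B₀ R) (y : G) : IsBig B₀ (conjBy y R) := by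
  haveI hQn : (Cfsg.pCore 2 G).Normal := Subgroup.sSup_normal _ fun N hN => hN.1
  obtain ⟨hQ, g, hg⟩ := h
  refine ⟨le_trans (le_of_eq ?_) (conjBy_mono (g := y) hQ), y * g, ?_⟩
  · exact (conjBy_eq_iff.2 (by rw [normalizer_eq_top]; exact mem_top y)).symm
  · rw [← conjBy_conjBy]
    exact conjBy_mono hg

variable (ho : Outer σ m N B₀)

include ho

theorem Outer.range_isPGroup : IsPGroup 2 σ.range := by
  obtain ⟨P, hP⟩ := ho.member.sylow
  exact hP ▸ P.2

theorem Outer.closureIn_ne_top {R : Subgroup G} (hR : IsPGroup 2 R) (hbig : IsBig B₀ R) :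
    normalizer (closureIn m N R : Set G) ≠ ⊤ := by
  intro e
  haveI hn : (closureIn m N R).Normal := Subgroup.normalizer_eq_top_iff.1 e
  obtain ⟨-, g, hg⟩ := hbig
  have hB : B₀ ≤ conjBy g⁻¹ R := le_trans (by rw [conjBy_inv_conjBy]) (conjBy_mono (g := g⁻¹) hg)
  refine ho.not_normal _ (hR.map _) hB ?_
  have e1 : ∀ y : G, conjBy y (closureIn m N R) = closureIn m N R := fun y =>
    conjBy_eq_iff.2 (e ▸ mem_top y)
  have h1 := conjBy_closureIn_le (m := m) ho.normal g⁻¹ R
  have h2 := conjBy_closureIn_le (m := m) ho.normal g (conjBy g⁻¹ R)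
  rw [conjBy_conjBy_inv] at h2
  rw [e1] at h1
  have h3 : closureIn m N (conjBy g⁻¹ R) ≤ closureIn m N R := by
    have := conjBy_mono (g := g⁻¹) h2
    rwa [conjBy_inv_conjBy, e1] at this
  rw [le_antisymm h3 h1]
  exact hn

/-- A proper subgroup normalizes the closure of its Sylow subgroup. -/
theorem Outer.le_normalizer_closureIn {K R : Subgroup G} (hK : K ≠ ⊤) (hRK : R ≤ K)
    (hQR : Cfsg.pCore 2 G ≤ R) (hR : IsPGroup 2 R) (hi : ¬ 2 ∣ R.relIndex K) :
    K ≤ normalizer (closureIn m N R : Set G) := by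
  haveI : Fact (Nat.Prime 2) := ⟨Nat.prime_two⟩
  have hm : IsMember ↥K (Subgroup.inclusion hRK) := by
    refine ⟨Subgroup.inclusion_injective hRK,
      ⟨(hR.of_equiv (Subgroup.subgroupOfEquivOfLe hRK).symm).toSylow hi, ?_⟩,
      fun h => ho.member.free (CfsgLib.Fusion.involves_of_injective K.subtype K.subtype_injective h),
      CfsgLib.CFun.constrained_of_le ho.member.constrained (hQR.trans hRK)⟩
    show R.subgroupOf K = _
    rw [Subgroup.inclusion_range]
  have hlt : Nat.card K < Nat.card G :=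
    (CfsgLib.Fusion.card_lt_card_of_lt (lt_top_iff_ne_top.2 hK)).trans_eq Subgroup.card_top
  obtain ⟨hsafe, hVN⟩ := sSup_safeIn (m := m) (N := N) R
  set V := sSup (safeIn m N R)
  haveI := ho.normal
  have hle : spanOf (Subgroup.inclusion hRK) V ≤ V := by
    refine le_sSup ⟨ho.span R K _ hm hlt V hsafe, ?_⟩
    rintro _ ⟨r, hr, rfl⟩
    have h1 : normalClosure ((V.map (Subgroup.inclusion hRK) : Subgroup K) : Set K) ≤
        N.subgroupOf K := normalClosure_le_normal fun x hx => by
      obtain ⟨v, hv, rfl⟩ := hx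
      exact hVN ⟨v, hv, rfl⟩
    exact h1 hr
  have hn := normal_of_span_le hm (hsafe.le_core_self hm (hlt.trans ho.card_lt)) hle
  intro x hx
  have h1 := le_normalizer_map (H := V.map (Subgroup.inclusion hRK))
    K.subtype (mem_map_of_mem _ ((Subgroup.normalizer_eq_top_iff.2 hn).ge (mem_top ⟨x, hx⟩)))
  rw [map_map] at h1
  exact h1

theorem Outer.frame_aux (n : ℕ) : ∀ R : Subgroup G, IsBig B₀ R → R ≤ σ.range →
    Nat.card σ.range - Nat.card R = n →
    normalizer (closureIn m N R : Set G) ≤ normalizer (closureIn m N σ.range : Set G) ∧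
      ∀ y, conjBy y R ≤ σ.range → y ∈ normalizer (closureIn m N σ.range : Set G) := by
  haveI : Fact (Nat.Prime 2) := ⟨Nat.prime_two⟩
  induction n using Nat.strong_induction_on with
  | _ n ih =>
  intro R hbig hR hn
  set P := σ.range with hP
  set M := normalizer (closureIn m N P : Set G) with hM
  have hPp := ho.range_isPGroup
  rcases eq_or_lt_of_le hR with e | hlt
  · subst e
    exact ⟨le_rfl, fun y hy => normalizer_le_normalizer_closureIn ho.normal _
      (conjBy_eq_iff.1 (CfsgLib.Fusion.conjBy_eq_of_le hy))⟩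
  have hcard : Nat.card R < Nat.card P := CfsgLib.Fusion.card_lt_card_of_lt hlt
  have larger : ∀ R' : Subgroup G, IsBig B₀ R' → R' ≤ P →
      Nat.card R < Nat.card R' → normalizer (closureIn m N R' : Set G) ≤ M ∧
        ∀ y, conjBy y R' ≤ P → y ∈ M := fun R' h1 h2 h3 =>
    ih _ (by have := card_le_of_le h2; omega) R' h1 h2 rfl
  set K := normalizer (closureIn m N R : Set G) with hK
  have hKtop : K ≠ ⊤ := ho.closureIn_ne_top (hPp.to_le hR) hbig
  set R1 := P ⊓ normalizer (R : Set G) with hR1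
  have hR1lt : R < R1 := CfsgLib.Subnormalizer.lt_inf_normalizer hPp hlt
  have hR1c : Nat.card R < Nat.card R1 := CfsgLib.Fusion.card_lt_card_of_lt hR1lt
  have hR1K : R1 ≤ K := inf_le_right.trans (normalizer_le_normalizer_closureIn ho.normal R)
  obtain ⟨T3, h13, h3K, h3p, h3i⟩ :=
    CfsgLib.Fusion.exists_le_not_dvd_relIndex (hPp.to_le (inf_le_left : R1 ≤ P)) hR1K
  obtain ⟨P₀, hP₀⟩ := ho.member.sylow
  have hPi : ¬ 2 ∣ P.relIndex ⊤ := by rw [relIndex_top_right, hP, ← hP₀]; exact P₀.not_dvd_index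
  obtain ⟨x, -, hx⟩ := CfsgLib.Fusion.exists_conj_le_of_not_dvd_relIndex hPp le_top hPi h3p le_top
  have hle1 : IsBig B₀ R1 := hbig.mono hR1lt.le
  have hxM : x ∈ M := (larger R1 hle1 inf_le_left hR1c).2 x ((conjBy_mono h13).trans hx)
  have hKM : K ≤ M := by
    have hK'top : conjBy x K ≠ ⊤ := fun e => hKtop (eq_top_of_card_eq K (by
      rw [← card_conjBy x K, e, Subgroup.card_top]))
    have hbig3 : IsBig B₀ (conjBy x T3) := (hle1.mono h13).conj x
    have h1 := ho.le_normalizer_closureIn (K := conjBy x K) (R := conjBy x T3) hK'top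
      (conjBy_mono h3K) hbig3.1 (h3p.map _) (CfsgLib.Fusion.not_dvd_relIndex_conjBy x h3i)
    have h2 := h1.trans (larger (conjBy x T3) hbig3 hx
      (by rw [card_conjBy]; exact hR1c.trans_le (card_le_of_le h13))).1
    intro k hk
    have := mul_mem (mul_mem (inv_mem hxM) (h2 (conj_mem_conjBy (g := x) hk))) hxM
    simpa [mul_assoc] using this
  refine ⟨hKM, fun y hy => ?_⟩
  set R1' := P ⊓ normalizer (conjBy y R : Set G) with hR1'
  have hylt : conjBy y R < P := lt_of_le_of_ne hy fun e => by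
    have := card_conjBy y R
    rw [e] at this
    omega
  have hR1'lt : conjBy y R < R1' := CfsgLib.Subnormalizer.lt_inf_normalizer hPp hylt
  have hback : conjBy y⁻¹ R1' ≤ K := by
    refine le_trans (conjBy_mono inf_le_right) ?_
    rw [CfsgLib.Fusion.conjBy_normalizer, conjBy_inv_conjBy]
    exact normalizer_le_normalizer_closureIn ho.normal R
  obtain ⟨z, hz, hzle⟩ := CfsgLib.Fusion.exists_conj_le_of_not_dvd_relIndex h3p h3K h3i
    ((hPp.to_le (inf_le_left : R1' ≤ P)).map _) hback
  set w := x * (z * y⁻¹) with hw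
  have hwle : conjBy w R1' ≤ P := by
    rw [hw, ← conjBy_conjBy, ← conjBy_conjBy]
    exact (conjBy_mono hzle).trans hx
  have hwR : IsBig B₀ (conjBy w R1') := (((hbig.conj y).mono hR1'lt.le).conj w)
  have hwM := (larger (conjBy w R1') hwR hwle (by
    rw [card_conjBy]
    exact (card_conjBy y R).symm.trans_lt (CfsgLib.Fusion.card_lt_card_of_lt hR1'lt))).2 w⁻¹
    (by rw [conjBy_inv_conjBy]; exact inf_le_left)
  have h3 := mul_mem hwM (mul_mem hxM (hKM hz))
  rw [hw] at h3
  simpa [mul_assoc] using h3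

theorem Outer.isBig_sup : IsBig B₀ (Cfsg.pCore 2 G ⊔ B₀) :=
  ⟨le_sup_left, 1, conjBy_le_iff.2 fun x hx => by simpa using mem_sup_right (S := Cfsg.pCore 2 G) hx⟩

theorem Outer.range_le : σ.range ≤ normalizer (closureIn m N σ.range : Set G) :=
  le_normalizer.trans (normalizer_le_normalizer_closureIn ho.normal _)

theorem Outer.ne_top : normalizer (closureIn m N σ.range : Set G) ≠ ⊤ :=
  ho.closureIn_ne_top ho.range_isPGroup ((ho.isBig_sup).mono (sup_le
    ho.member.pCore_le_range ho.le_range))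

theorem Outer.mem_of_conj_le {y : G} (hy : conjBy y B₀ ≤ σ.range) :
    y ∈ normalizer (closureIn m N σ.range : Set G) := by
  haveI hQn : (Cfsg.pCore 2 G).Normal := Subgroup.sSup_normal _ fun N hN => hN.1
  refine (ho.frame_aux _ _ ho.isBig_sup (sup_le ho.member.pCore_le_range ho.le_range) rfl).2 y ?_
  rw [conjBy, Subgroup.map_sup]
  exact sup_le ((conjBy_le_iff.2 fun q hq => hQn.conj_mem q hq y).trans ho.member.pCore_le_range) hy

/-- Every proper subgroup containing `O₂ B₀` lies in `M`. -/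
theorem Outer.le_of_ne_top {K : Subgroup G} (hK : K ≠ ⊤) (hle : Cfsg.pCore 2 G ⊔ B₀ ≤ K) :
    K ≤ normalizer (closureIn m N σ.range : Set G) := by
  haveI : Fact (Nat.Prime 2) := ⟨Nat.prime_two⟩
  obtain ⟨T3, hR3, h3K, h3p, h3i⟩ := CfsgLib.Fusion.exists_le_not_dvd_relIndex
    (ho.range_isPGroup.to_le (sup_le ho.member.pCore_le_range ho.le_range)) hle
  obtain ⟨P₀, hP₀⟩ := ho.member.sylow
  obtain ⟨x, -, hx⟩ := CfsgLib.Fusion.exists_conj_le_of_not_dvd_relIndex ho.range_isPGroup le_top
    (by rw [relIndex_top_right, ← hP₀]; exact P₀.not_dvd_index) h3p le_top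
  have hxM := ho.mem_of_conj_le ((conjBy_mono (le_sup_right.trans hR3)).trans hx)
  have hbig : IsBig B₀ (conjBy x T3) := ((ho.isBig_sup).mono hR3).conj x
  have h1 := (ho.le_normalizer_closureIn (K := conjBy x K) (R := conjBy x T3)
    (fun e => hK (eq_top_of_card_eq K (by rw [← card_conjBy x K, e, Subgroup.card_top])))
    (conjBy_mono h3K) hbig.1 (h3p.map _)
    (CfsgLib.Fusion.not_dvd_relIndex_conjBy x h3i)).trans (ho.frame_aux _ _ hbig hx rfl).1
  intro k hk
  have := mul_mem (mul_mem (inv_mem hxM) (h1 (conj_mem_conjBy (g := x) hk))) hxM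
  simpa [mul_assoc] using this

/-- `B₀` has no conjugate in `M` by an element outside `M`. -/
theorem Outer.closed {g : G} (hg : conjBy g B₀ ≤ normalizer (closureIn m N σ.range : Set G)) :
    g ∈ normalizer (closureIn m N σ.range : Set G) := by
  haveI : Fact (Nat.Prime 2) := ⟨Nat.prime_two⟩
  obtain ⟨P₀, hP₀⟩ := ho.member.sylow
  obtain ⟨x, hx, hxle⟩ := CfsgLib.Fusion.exists_conj_le_of_not_dvd_relIndex ho.range_isPGroup
    ho.range_le
    (fun hd => P₀.not_dvd_index (by
      rw [hP₀]; exact hd.trans (relIndex_dvd_index_of_le ho.range_le)))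
    ((ho.range_isPGroup.to_le ho.le_range).map _) hg
  rw [conjBy_conjBy] at hxle
  simpa using mul_mem (inv_mem hx) (ho.mem_of_conj_le hxle)

end outer

section config

variable {S T G G' : Type u} [Group S] [Group T] [Group G] [Group G'] [Finite S] [Finite T]
  [Finite G] [Finite G'] {f : T →* S} {τ : T →* G} {τ' : S →* G'} {U : Subgroup S}
  (hc : HConfig S T G G' f τ τ' U)

include hc

/-- The normal closure of `U` lies in the image of `T`. -/
theorem HConfig.normalClosure_le : normalClosure (U.map τ' : Set G') ≤ f.range.map τ' := by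
  have hr : normalClosure (U.map τ' : Set G') ≤ τ'.range :=
    (hc.member'.normalClosure_le_pCore ((map_mono (le_spanOf τ' U)).trans hc.span_le)).trans
      hc.member'.pCore_le_range
  exact (map_comap_eq_self hr).ge.trans (map_mono hc.span_range)

theorem HConfig.exists_outer : ∃ M C : Subgroup G', τ'.range ≤ M ∧ M ≠ ⊤ ∧
    (∀ K : Subgroup G', K ≠ ⊤ → Cfsg.pCore 2 G' ⊔ f.range.map τ' ≤ K → K ≤ M) ∧
    (∀ g, conjBy g (f.range.map τ') ≤ M → g ∈ M) ∧
    M ≤ normalizer (C : Set G') ∧ U.map τ' ≤ C ∧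
    ∀ x ∈ C, ∃ t ∈ (spanOf τ' U).comap f, τ' (f t) = x ∧ τ t ∈ center G := by
  haveI : Fact (Nat.Prime 2) := ⟨Nat.prime_two⟩
  obtain ⟨m, hGm, hG'm, hUm, hspan⟩ := hc.least'
  set N := normalClosure (U.map τ' : Set G') with hN
  haveI hNn : N.Normal := normalClosure_normal
  have hUN : U.map τ' ≤ N := subset_normalClosure
  have hNB := hc.normalClosure_le
  have hBr : f.range.map τ' ≤ τ'.range := map_le_range τ' _
  have hUC : ∀ R : Subgroup G', R ≤ τ'.range → U.map τ' ≤ R → U.map τ' ≤ closureIn m N R :=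
    fun R h1 h2 => le_closureIn hc.member'.inj hUm hUN h1 h2
  -- the part in `T`
  have hpull : ∀ R : Subgroup G', f.range.map τ' ≤ R →
      ∃ V : Subgroup T, HSafe m V ∧ ∀ t, t ∈ V ↔ τ' (f t) ∈ closureIn m N R := by
    intro R hBR
    let j : T →* R := (τ'.comp f).codRestrict R fun t => hBR (mem_map_of_mem τ' ⟨t, rfl⟩)
    have hj : Function.Injective j := fun a b h =>
      hc.inj (hc.member'.inj (congrArg Subtype.val h))
    refine ⟨(sSup (safeIn m N R)).comap j, (sSup_safeIn R).1.comap hj ?_, fun t => ?_⟩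
    · intro r hr
      obtain ⟨_, ⟨t, rfl⟩, ht⟩ := hNB ((sSup_safeIn R).2 ⟨r, hr, rfl⟩)
      exact ⟨t, Subtype.ext ht⟩
    · constructor
      · exact fun h => ⟨j t, h, rfl⟩
      · rintro ⟨r, hr, hre⟩
        show j t ∈ sSup (safeIn m N R)
        rwa [show j t = r from Subtype.ext hre.symm]
  have ho : Outer τ' m N (f.range.map τ') := by
    refine ⟨hc.member', hNn, hBr, hG'm, hspan, fun R hR hBR hn => ?_⟩
    obtain ⟨P₀, hP₀⟩ := hc.member'.sylow
    obtain ⟨x, -, hx⟩ := CfsgLib.Fusion.exists_conj_le_of_not_dvd_relIndex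
      (hP₀ ▸ P₀.2 : IsPGroup 2 τ'.range) le_top
      (by rw [relIndex_top_right, ← hP₀]; exact P₀.not_dvd_index) hR le_top
    haveI := hn
    have h1 : U.map τ' ≤ closureIn m N R := by
      have hUx : U.map τ' ≤ conjBy x R := by
        refine hUN.trans (le_trans (le_of_eq ?_) (conjBy_mono (g := x) (hNB.trans hBR)))
        exact (conjBy_eq_iff.2 (by rw [normalizer_eq_top]; exact mem_top x)).symm
      have h2 := conjBy_closureIn_le (m := m) hNn x⁻¹ (conjBy x R)
      rw [conjBy_inv_conjBy] at h2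
      have h3 := (conjBy_mono (g := x) ((conjBy_mono (hUC _ hx hUx)).trans h2))
      rwa [conjBy_conjBy_inv, conjBy_eq_iff.2 (by rw [normalizer_eq_top]; exact mem_top x)] at h3
    obtain ⟨V, hV, hVe⟩ := hpull R hBR
    refine hc.not_le ((map_mono fun t ht => (hVe t).2 ?_).trans (hV.le_core_self hc.member hGm))
    exact (normalClosure_le_normal (N := closureIn m N R) fun y hy => h1 hy) ht
  refine ⟨_, closureIn m N τ'.range, ho.range_le, ho.ne_top, fun K hK hle => ho.le_of_ne_top hK hle,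
    fun g hg => ho.closed hg, le_rfl, hUC _ le_rfl (map_le_range τ' U), fun x hx => ?_⟩
  obtain ⟨_, ⟨t, rfl⟩, rfl⟩ := hNB (closureIn_le_right _ hx)
  obtain ⟨V, hV, hVe⟩ := hpull τ'.range hBr
  have htW : t ∈ (spanOf τ' U).comap f := closureIn_le_right (m := m) (N := N) τ'.range hx
  refine ⟨t, htW, rfl, hc.mem_center_of ?_ (mem_centralizer_iff.2 fun w hw => ?_)⟩
  · have h := (hc.member.normal_of_good hc.isMinimal (hc.span_good.comap hc.inj hc.span_range)
      hc.not_le hV.good (hV.le_core_self hc.member hGm)).2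
    exact mem_centralizer_iff.2 fun d hd =>
      (mem_centralizer_iff.1 (h hd) _ (mem_map_of_mem τ ((hVe t).2 hx))).symm
  · exact (commute_of_sq' (sq_map (hc.span_good.comap hc.inj hc.span_range).sq) hw
      (mem_map_of_mem τ htW)).eq

end config

end CfsgLib.FourFree.Stellmacher
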