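import Cfsg.Agent.Lib.FourFree.Basics

/-!
# Triangles in actions of groups in which no element of order three is inverted

If `b` fixes `u` and interchanges `z`, `x`, and `c` fixes `z` and interchanges `u`, `x`, then a
section of type `S₃` appears.  In linear form: `z` fixed by `c` is never `[[z, b], c]` when
`[z, b]` is fixed by `b`.
-/

set_option autoImplicit false
set_option linter.style.haveILetI false

open Subgroup
open CfsgLib.CFun (delt)

namespace CfsgLib.FourFree

universe u v

variable {G : Type u} [Group G] {α : Type v} [MulAction G α]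

/-- No two elements of a group with `HG` induce two different transpositions on three points. -/
theorem HG.no_triangle [Finite G] (h : HG G) {b c : G} {u z x : α} (huz : u ≠ z) (hux : u ≠ x)
    (hzx : z ≠ x) (hbu : b • u = u) (hbz : b • z = x) (hbx : b • x = z)
    (hcz : c • z = z) (hcu : c • u = x) (hcx : c • x = u) : False := by
  let P : α → Prop := fun t => t = u ∨ t = z ∨ t = x
  let S : Subgroup G :=
    { carrier := {g | ∀ t, P (g • t) ↔ P t}
      one_mem' := fun t => by rw [one_smul]
      mul_mem' := fun {g k} hg hk t => by rw [mul_smul, hg, hk]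
      inv_mem' := fun {g} hg t => by rw [← hg, smul_inv_smul] }
  have key : ∀ d : G, (∀ t, P t → P (d • t)) → d • d • u = u → d • d • z = z → d • d • x = x →
      d ∈ S := by
    intro d hd h1 h2 h3 t
    refine ⟨fun ht => ?_, hd t⟩
    have h4 : d • d • (d • t) = d • t := by
      rcases ht with e | e | e <;> rw [e] <;> assumption
    have h5 : d • d • t = t := smul_left_cancel d h4
    exact h5 ▸ hd _ ht
  have hbS : b ∈ S := key b (fun t ht => by
      rcases ht with rfl | rfl | rfl
      · exact Or.inl hbu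
      · exact Or.inr (Or.inr hbz)
      · exact Or.inr (Or.inl hbx))
    (by rw [hbu, hbu]) (by rw [hbz, hbx]) (by rw [hbx, hbz])
  have hcS : c ∈ S := key c (fun t ht => by
      rcases ht with rfl | rfl | rfl
      · exact Or.inr (Or.inr hcu)
      · exact Or.inr (Or.inl hcz)
      · exact Or.inl hcx)
    (by rw [hcu, hcx]) (by rw [hcz, hcz]) (by rw [hcx, hcu])
  let π : S →* Equiv.Perm {t // P t} :=
    { toFun := fun g => (MulAction.toPerm (g : G)).subtypePerm fun t => g.2 t
      map_one' := Equiv.ext fun t => Subtype.ext (by simp)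
      map_mul' := fun g k => Equiv.ext fun t => Subtype.ext (by
        show (((g * k : S) : G)) • (t : α) = (g : G) • (k : G) • (t : α)
        rw [Subgroup.coe_mul, mul_smul]) }
  have hker : ∀ g : S, (g : G) • u = u → (g : G) • z = z → (g : G) • x = x → g ∈ π.ker := by
    intro g h1 h2 h3
    rw [MonoidHom.mem_ker]
    refine Equiv.ext fun t => Subtype.ext ?_
    show (g : G) • (t : α) = t
    rcases t.2 with e | e | e <;> rw [e] <;> assumption
  have hq := (h.subgroup S).quotient (QuotientGroup.mk' π.ker) (QuotientGroup.mk'_surjective _)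
  set β : S := ⟨b, hbS⟩
  set γ : S := ⟨c, hcS⟩
  have biu : b⁻¹ • u = u := inv_smul_eq_iff.2 hbu.symm
  have biz : b⁻¹ • z = x := inv_smul_eq_iff.2 hbx.symm
  have bix : b⁻¹ • x = z := inv_smul_eq_iff.2 hbz.symm
  have hx3 : ((β * γ) ^ 3 : S) ∈ π.ker := by
    refine hker _ ?_ ?_ ?_ <;>
      simp only [β, γ, pow_three, Subgroup.coe_mul, mul_smul, hbu, hbz, hbx, hcz, hcu, hcx]
  have hinv : β * (β * γ) * β⁻¹ * (β * γ) ∈ π.ker := by
    refine hker _ ?_ ?_ ?_ <;>
      simp only [β, γ, Subgroup.coe_mul, Subgroup.coe_inv, mul_smul, hbu, hbz, hbx, hcz, hcu, hcx,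
        biu, biz, bix]
  have h1 := hq (QuotientGroup.mk' π.ker β) (QuotientGroup.mk' π.ker (β * γ))
    (by rw [← map_pow]; exact (QuotientGroup.eq_one_iff _).2 hx3)
    (eq_inv_of_mul_eq_one_left (by
      rw [← map_inv, ← map_mul, ← map_mul, ← map_mul]; exact (QuotientGroup.eq_one_iff _).2 hinv))
  have h2 := MonoidHom.mem_ker.1 ((QuotientGroup.eq_one_iff _).1 h1)
  have h3 := congrArg (fun σ : Equiv.Perm {t // P t} => ((σ ⟨u, Or.inl rfl⟩ : {t // P t}) : α)) h2
  have e : ((π (β * γ)) ⟨u, Or.inl rfl⟩ : α) = z := by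
    show (b * c) • u = z
    rw [mul_smul, hcu, hbx]
  rw [show ((1 : Equiv.Perm {t // P t}) ⟨u, Or.inl rfl⟩ : α) = u from rfl] at h3
  exact huz (h3.symm.trans e)

/-- Linear form: no vector `z` fixed by `c` equals `[[z, b], c]` with `[z, b]` fixed by `b`. -/
theorem HG.no_linear_triangle [Finite G] {V : Type v} [CommGroup V] (h : HG G)
    (ρ : G →* MulAut V) (h2 : ∀ w : V, w * w = 1) {b c : G} {z w : V} (hz : z ≠ 1)
    (hcz : ρ c z = z) (hbw : ρ b w = w) (hb : delt ρ b z = w) (hc : delt ρ c w = z) : False := by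
  letI : MulAction G V :=
    { smul := fun g v => ρ g v
      one_smul := fun v => by show ρ 1 v = v; simp
      mul_smul := fun g k v => by show ρ (g * k) v = ρ g (ρ k v); simp }
  have hw1 : w ≠ 1 := fun e => hz (by rw [← hc, e, CfsgLib.CFun.delt_one_right])
  have hwz : w ≠ z := fun e => hz (by rw [← hc, e, delt, hcz, div_self'])
  refine h.no_triangle (α := V) (u := w) (z := z) (x := w * z) (b := b) (c := c) hwz ?_ ?_ hbw
    ?_ ?_ hcz ?_ ?_
  · exact fun e => hz (mul_left_cancel (e.symm.trans (mul_one w).symm))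
  · exact fun e => hw1 (mul_right_cancel (e.symm.trans (one_mul z).symm))
  · show ρ b z = w * z
    rw [CfsgLib.CFun.delt_apply ρ b z, hb]
  · show ρ b (w * z) = z
    rw [map_mul, hbw, CfsgLib.CFun.delt_apply ρ b z, hb, ← mul_assoc, h2, one_mul]
  · show ρ c w = w * z
    rw [CfsgLib.CFun.delt_apply ρ c w, hc, mul_comm]
  · show ρ c (w * z) = w
    rw [map_mul, hcz, CfsgLib.CFun.delt_apply ρ c w, hc, mul_comm z w, mul_assoc, h2, mul_one]

end CfsgLib.FourFree
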