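import Cfsg.Agent.Lib.FourFree.Config.Module
import Cfsg.Agent.Lib.FourFree.Config.Degree
import Cfsg.Agent.Lib.FourFree.Config.Triangle
import Cfsg.Agent.Lib.Fusion.ZJ

/-!
# The case of a cubic form with values outside the core

`TopMod` is what a configuration leaves on a section without invariant subgroup inside `P`.  There a
translate of `Z` meets `P` trivially, so `|Z| ≤ |W : P|`; by the pair inequality and the lower bound
for the number of zeros of a quadratic map some conjugate of an element of `X` and an element of `X`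
induce two transpositions on three functionals, which is impossible.
-/

set_option autoImplicit false
set_option linter.style.haveILetI false
set_option linter.unusedSectionVars false

open Subgroup
open CfsgLib.Fusion (conjBy mem_conjBy conj_mem_conjBy conjBy_le_iff conjBy_eq_iff conjBy_mono
  conjBy_conjBy conjBy_inv_conjBy)
open CfsgLib.CFun (delt fixOf mem_fixOf delt_apply delt_mul delt_mul_left delt_comm IsOff
  card_mul_relIndex')

namespace CfsgLib.FourFree

universe u v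

variable {H : Type u} {W : Type v} [Group H] [CommGroup W] {ρ : H →* MulAut W}

/-- Homomorphisms into a group of order two are at most as many as the elements. -/
theorem card_hom_le {A C : Type*} [Group A] [Finite A] [CommGroup C] (hC : Nat.card C = 2) :
    Nat.card (A →* C) ≤ Nat.card A := by
  haveI : Finite C := Nat.finite_of_card_ne_zero (by omega)
  haveI : Finite (A →* C) := Finite.of_injective _ DFunLike.coe_injective
  have h := card_range_le hC (MonoidHom.id (A →* C))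
  rw [MonoidHom.range_eq_top.2 Function.surjective_id, Subgroup.card_top] at h
  exact h.trans (Nat.le_of_dvd Nat.card_pos (index_dvd_card _))

/-- The section of a configuration without invariant subgroup inside `P`. -/
structure TopMod (ρ : H →* MulAut W) (S B M Q X : Subgroup H) (u : W) (Z P : Subgroup W) : Prop where
  two : ∀ w : W, w * w = 1
  hg : HG H
  sylow : ∃ T : Sylow 2 H, (T : Subgroup H) = S
  S_le : S ≤ M
  Q_normal : Q.Normal
  Q_le : Q ≤ S
  X_le : X ≤ B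
  X_sq : ∀ x ∈ X, x * x = 1
  overB : ∀ K : Subgroup H, K ≠ ⊤ → B ⊔ Q ≤ K → K ≤ M
  closed : ∀ g : H, conjBy g B ≤ M → g ∈ M
  fixB : ∀ b ∈ B, ∀ z ∈ Z, ρ b z = z
  step₁ : ∀ x ∈ X, ∀ w, delt ρ x w ∈ P
  step₂ : ∀ x ∈ X, ∀ p ∈ P, delt ρ x p ∈ Z
  Z_le : Z ≤ P
  P_ne : P ≠ ⊤
  core : ∀ N : Subgroup W, (∀ g, ∀ z ∈ N, ρ g z ∈ N) → N ≤ P → N = ⊥
  inj : ∀ a, a ∉ P → ∀ x ∈ X, delt ρ x a ∈ Z → ∀ p ∈ P, delt ρ x p = 1
  surj : ∀ a, a ∉ P → ∀ p ∈ P, ∃ x ∈ X, delt ρ x a / p ∈ Z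
  bound : ∀ K : Subgroup W, K ≤ Z → ∀ s ∈ P, (∃ x ∈ X, delt ρ x s ∉ K) →
    P.index ^ 2 * Nat.card (X ⊓ relFix ρ K P : Subgroup H) ≤
      Nat.card (X ⊓ relFix ρ K (zpowers s) : Subgroup H)
  fix_u : ∀ s ∈ S, ρ s u = u
  u_le : transl ρ M (zpowers u) ≤ Z
  u_gen : transl ρ ⊤ (zpowers u) = ⊤
  ne : ∃ x ∈ X, ∃ p ∈ P, delt ρ x p ≠ 1

variable {S B M Q X : Subgroup H} {u : W} {Z P : Subgroup W} [Finite H] [Finite W]
  (ht : TopMod ρ S B M Q X u Z P)

include ht

/-- `Q` fixes the module. -/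
theorem TopMod.fix_Q {y : H} (hy : y ∈ Q) (w : W) : ρ y w = w := by
  have h : y ∈ ptFix ρ (transl ρ ⊤ (zpowers u)) := mem_ptFix_transl fun g _ z hz => by
    obtain ⟨n, rfl⟩ := mem_zpowers_iff.1 hz
    rw [map_zpow, ht.fix_u _ (ht.Q_le (by simpa using ht.Q_normal.conj_mem y hy g⁻¹))]
  exact h w (ht.u_gen.ge (mem_top w))

/-- A vector of `Z` fixed by a conjugate of `B` from outside `M` is trivial. -/
theorem TopMod.eq_one_of_fixed {w : W} (hw : w ∈ Z) {k : H} (hk : k ∉ M)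
    (hfix : ∀ b ∈ B, ρ (k * b * k⁻¹) w = w) : w = 1 := by
  set K := ptFix ρ (zpowers w) with hK
  have hmem : ∀ c, ρ c w = w → c ∈ K := fun c hc z hz => by
    obtain ⟨n, rfl⟩ := mem_zpowers_iff.1 hz
    rw [map_zpow, hc]
  have htop : K = ⊤ := by
    by_contra hne
    refine hk (ht.closed k (conjBy_le_iff.2 fun b hb => ht.overB K hne ?_ (hmem _ (hfix b hb))))
    exact sup_le (fun b hb => hmem b (ht.fixB b hb w hw)) fun y hy => hmem y (ht.fix_Q hy w)
  have h := ht.core (zpowers w) (fun g z hz => by rwa [(htop.ge (mem_top g) : g ∈ K) z hz])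
    (zpowers_le.2 (ht.Z_le hw))
  exact zpowers_eq_bot.1 h

/-- The elements of `X` mapped into `M` by `k⁻¹` are few. -/
theorem TopMod.conj_small {k : H} (hk : k ∉ M) {v : W} (hv : v ∈ transl ρ M (zpowers u))
    (hkv : ρ k v ∉ P) :
    Nat.card (X ⊓ conjBy k M : Subgroup H) <
      P.index * Nat.card (X ⊓ relFix ρ ⊥ P : Subgroup H) := by
  haveI : Fact (Nat.Prime 2) := ⟨Nat.prime_two⟩
  obtain ⟨T, hT⟩ := ht.sylow
  have hS2 : IsPGroup 2 S := hT ▸ T.2
  have hSi : ¬ 2 ∣ S.relIndex M := fun hd => T.not_dvd_index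
    (hT.symm ▸ hd.trans (relIndex_dvd_index_of_le ht.S_le))
  set R := X ⊓ conjBy k M with hR
  have hX2 : IsPGroup 2 X := fun x => ⟨1, Subtype.ext (by simpa [pow_two] using ht.X_sq x x.2)⟩
  have hRM : conjBy k⁻¹ R ≤ M := by
    refine (conjBy_mono inf_le_right).trans (le_of_eq ?_)
    rw [conjBy_inv_conjBy]
  obtain ⟨m, hm, hmle⟩ := CfsgLib.Fusion.exists_conj_le_of_not_dvd_relIndex hS2 ht.S_le hSi
    ((hX2.to_le inf_le_left).map _) hRM
  rw [conjBy_conjBy] at hmle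
  -- the new translation
  set l := k * m⁻¹ with hl
  have hlM : l ∉ M := fun h => hk (by simpa [hl] using mul_mem h hm)
  set V := transl ρ M (zpowers u) with hV
  set a := ρ k v with ha
  have hlv : ρ l (ρ m v) = a := by
    rw [← MulAut.mul_apply, ← map_mul, hl, inv_mul_cancel_right]
  have hmv : ρ m v ∈ V := (le_setFix_transl M _ hm).1 v hv
  set R' := conjBy (m * k⁻¹) R with hR'
  obtain ⟨M', _, _, π, ρ', hπ, hρ', hc⟩ := exists_image (ρ := ρ) M V (le_setFix_transl M _)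
  obtain ⟨T', hT'⟩ := exists_sylow_image hS2 ht.S_le hSi π hπ
  have hgen : transl ρ' ⊤ (fixOf ρ' (T' : Subgroup M')) = ⊤ := by
    refine transl_image_eq_top hc hV fun z hz => mem_fixOf.2 ?_
    rw [hT']
    rintro _ ⟨s, hs, rfl⟩
    refine Subtype.ext ((hc s z).trans ?_)
    obtain ⟨n, hn⟩ := mem_zpowers_iff.1 (show (z : W) ∈ zpowers u from hz)
    rw [← hn, map_zpow]
    exact congrArg (· ^ n) (ht.fix_u _ hs)
  have hR'M : R' ≤ M := hmle.trans ht.S_le
  have hlt : (ptFix ρ V).relIndex R' < P.index := by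
    by_contra hge
    have hfix : V ⊓ P.comap (ρ l : W ≃* W).toMonoidHom ≤ V ⊓ fixOf ρ R' := by
      rintro z ⟨hzV, hzP⟩
      refine ⟨hzV, mem_fixOf.2 fun r hr => ?_⟩
      obtain ⟨x, hx, hxr⟩ : ∃ x ∈ R, m * k⁻¹ * x * (m * k⁻¹)⁻¹ = r := by
        obtain ⟨x, hx, rfl⟩ := hr
        exact ⟨x, hx, rfl⟩
      have hr' : r = l⁻¹ * x * l := by rw [← hxr, hl]; group
      have hrV : ρ r z ∈ V := (le_setFix_transl M _ (hR'M hr)).1 z hzV
      have e : ρ l⁻¹ (delt ρ x (ρ l z)) = ρ r z / z := by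
        rw [delt, map_div, apply_inv_apply, ← MulAut.mul_apply, ← map_mul, ← MulAut.mul_apply,
          ← map_mul, ← hr']
      have h1 : delt ρ x (ρ l z) = 1 := by
        have hwV : ρ l⁻¹ (delt ρ x (ρ l z)) ∈ V := e ▸ div_mem hrV hzV
        refine ht.eq_one_of_fixed (ht.step₂ x hx.1 _ hzP) hlM fun b hb => ?_
        rw [map_mul, map_mul, MulAut.mul_apply, MulAut.mul_apply,
          ht.fixB b hb _ (ht.u_le hwV), apply_apply_inv]
      rw [h1, map_one] at e
      exact (div_eq_one.1 e.symm)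
    have hbot := offender_eq_bot hρ' ((ht.hg.subgroup M).quotient π hπ)
      (fun z => Subtype.ext (ht.two z)) T' hgen (B := (R'.subgroupOf M).map π)
      (hT' ▸ map_mono fun x hx => hmle hx) (by
        rintro _ ⟨⟨r, hrM⟩, hr, rfl⟩
        obtain ⟨x, hx, hxr⟩ := (show r ∈ R' from hr)
        have h := congrArg (MulAut.conj (m * k⁻¹)).toMonoidHom (ht.X_sq x hx.1)
        rw [map_mul, map_one, hxr] at h
        rw [← map_mul, show (⟨r, hrM⟩ * ⟨r, hrM⟩ : M) = 1 from Subtype.ext h, map_one]) (by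
        unfold IsOff
        rw [card_image hρ' hc hR'M, card_fixOf_image hc hR'M]
        set D := P.comap (ρ l : W ≃* W).toMonoidHom with hD
        have h1 : Nat.card (V ⊓ D : Subgroup W) * D.relIndex V = Nat.card V := by
          rw [← inf_relIndex_left V D, card_mul_relIndex' inf_le_left]
        have h2 : D.relIndex V ≤ P.index := by
          refine (relIndex_le_of_le_right le_top index_ne_zero_of_finite).trans (le_of_eq ?_)
          rw [relIndex_top_right, hD, index_comap_of_surjective _ (ρ l).surjective]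
        rw [← h1, mul_comm ((ptFix ρ V).relIndex R')]
        exact Nat.mul_le_mul (card_le_of_le hfix) (h2.trans (not_lt.1 hge)))
    have h1 := card_image hρ' hc hR'M
    rw [hbot, Subgroup.card_bot] at h1
    have : P.index ≠ 1 := fun e => ht.P_ne (index_eq_one.1 e)
    have : P.index ≠ 0 := index_ne_zero_of_finite
    omega
  set F := conjBy l (ptFix ρ V) with hF
  have hidx : F.relIndex R = (ptFix ρ V).relIndex R' := by
    have e : R = conjBy l R' := by
      rw [hR', conjBy_conjBy, hl, show k * m⁻¹ * (m * k⁻¹) = 1 by group]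
      exact (conjBy_eq_iff.2 (one_mem _)).symm
    conv_lhs => rw [e, hF]
    exact relIndex_map_map_of_injective _ _ (MulAut.conj l).injective
  have hker : F ⊓ R ≤ X ⊓ relFix ρ ⊥ P := by
    rintro x ⟨hxF, hx⟩
    refine ⟨hx.1, fun z hz => by rw [mem_bot.1 hz, map_one], fun p hp => mem_bot.2 ?_⟩
    refine ht.inj a hkv x hx.1 ?_ p hp
    have h := (mem_conjBy.1 hxF) _ hmv
    rw [map_mul, map_mul, MulAut.mul_apply, MulAut.mul_apply] at h
    have h' := congrArg (ρ l) h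
    rw [apply_apply_inv, hlv] at h'
    rw [delt, h', div_self']
    exact one_mem _
  have hcard : Nat.card R = Nat.card (F ⊓ R : Subgroup H) * F.relIndex R := by
    rw [← inf_relIndex_right F R, card_mul_relIndex' inf_le_right]
  rw [hcard, hidx, mul_comm]
  calc (ptFix ρ V).relIndex R' * Nat.card (F ⊓ R : Subgroup H)
      ≤ (ptFix ρ V).relIndex R' * Nat.card (X ⊓ relFix ρ ⊥ P : Subgroup H) :=
        Nat.mul_le_mul_left _ (card_le_of_le hker)
    _ < _ := Nat.mul_lt_mul_of_pos_right hlt Nat.card_pos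

/-- A translate of `Z` meets `P` trivially. -/
theorem TopMod.conj_inter {h : H} (hM : h ∉ M) (hh : ρ h u ∉ P) {z : W} (hz : z ∈ Z)
    (hzP : ρ h z ∈ P) : z = 1 := by
  have hsm := ht.conj_small hM (le_transl _ _ (mem_zpowers u)) hh
  by_contra hne
  set w := ρ h z with hw
  have hR : ∀ x ∈ X, ρ x w = w → x ∈ X ⊓ conjBy h M := by
    intro x hx hxw
    refine ⟨hx, mem_conjBy.2 ?_⟩
    by_contra hnot
    refine hne (ht.eq_one_of_fixed hz hnot fun b hb => ?_)
    have hkz : ρ (h⁻¹ * x * h) z = z := by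
      rw [map_mul, map_mul, MulAut.mul_apply, MulAut.mul_apply, ← hw, hxw, hw, apply_inv_apply]
    have hkz' : ρ (h⁻¹ * x * h)⁻¹ z = z := by
      conv_lhs => rw [← hkz]
      rw [apply_inv_apply]
    rw [map_mul, map_mul, MulAut.mul_apply, MulAut.mul_apply, hkz', ht.fixB b hb z hz, hkz]
  have hbot : ∀ {s : W} {x : H}, x ∈ X ⊓ relFix ρ ⊥ (zpowers s) → ρ x s = s := fun hx =>
    div_eq_one.1 (mem_bot.1 (hx.2.2 _ (mem_zpowers _)))
  obtain ⟨x₀, hx₀, p₀, hp₀, hne₀⟩ := ht.ne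
  have key : ∀ s ∈ P, (∃ x ∈ X, delt ρ x s ≠ 1) →
      Nat.card (X ⊓ relFix ρ ⊥ (zpowers s) : Subgroup H) ≤
        Nat.card (X ⊓ conjBy h M : Subgroup H) → False := by
    intro s hs hsne hle
    obtain ⟨x, hx, hxs⟩ := hsne
    have h1 := (ht.bound ⊥ bot_le s hs ⟨x, hx, fun e => hxs (mem_bot.1 e)⟩).trans hle
    have h2 : P.index ≤ P.index ^ 2 := Nat.le_self_pow (by norm_num) _
    have h3 := Nat.mul_le_mul_right (Nat.card (X ⊓ relFix ρ ⊥ P : Subgroup H)) h2
    omega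
  by_cases hX : ∀ x ∈ X, ρ x w = w
  · exact key p₀ hp₀ ⟨x₀, hx₀, hne₀⟩ (card_le_of_le fun x hx => hR x hx.1 (hX x hx.1))
  · push Not at hX
    obtain ⟨x, hx, hxw⟩ := hX
    exact key w hzP ⟨x, hx, fun e => hxw (div_eq_one.1 e)⟩
      (card_le_of_le fun y hy => hR y hy.1 (hbot hy))

/-- There is no such section. -/
theorem TopMod.false : False := by
  classical
  obtain ⟨h, hh⟩ : ∃ h, ρ h u ∉ P := by
    by_contra hall
    push Not at hall
    refine ht.P_ne (top_le_iff.1 (ht.u_gen.ge.trans (transl_le fun g _ w hw => ?_)))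
    obtain ⟨n, rfl⟩ := mem_zpowers_iff.1 hw
    rw [map_zpow]
    exact zpow_mem (hall g) n
  have hM : h ∉ M := fun e => hh (ht.Z_le (ht.u_le (mem_transl e (mem_zpowers u))))
  have hinter : ∀ z ∈ Z, ρ h z ∈ P → z = 1 := fun z hz => ht.conj_inter hM hh hz
  obtain ⟨x₀, hx₀, p₀, hp₀, hne₀⟩ := ht.ne
  set z₀ := delt ρ x₀ p₀ with hz₀
  have hz₀Z : z₀ ∈ Z := ht.step₂ x₀ hx₀ p₀ hp₀
  obtain ⟨M₂, hPM, hzM, hM2⟩ :=
    exists_index_two ht.two (fun e => hne₀ (hinter z₀ hz₀Z e) : ρ h z₀ ∉ P)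
  let φ := QuotientGroup.mk' M₂
  have hφ1 : ∀ w, φ w = 1 ↔ w ∈ M₂ := fun w => QuotientGroup.eq_one_iff w
  have hC : Nat.card (W ⧸ M₂) = 2 := hM2
  have hC2 : ∀ c : W ⧸ M₂, c * c = 1 := fun c => by
    obtain ⟨w, rfl⟩ := QuotientGroup.mk'_surjective M₂ c
    rw [← map_mul, ht.two, map_one]
  let L : W →* W ⧸ M₂ := φ.comp (ρ h : W ≃* W).toMonoidHom
  have hL : ∀ w, L w = φ (ρ h w) := fun _ => rfl
  -- the functional of a conjugate
  let D : H → W →* W := fun g => MonoidHom.mk' (fun w => delt ρ g w) (delt_mul_left ρ g)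
  let χ : X → W →* W ⧸ M₂ := fun x =>
    L.comp ((D (x : H)).comp (ρ h⁻¹ : W ≃* W).toMonoidHom)
  have hχ : ∀ (x : X) w, χ x w = φ (ρ h (delt ρ (x : H) (ρ h⁻¹ w))) := fun _ _ => rfl
  have hfixX : ∀ x ∈ X, ∀ z ∈ Z, ρ x z = z := fun x hx z hz => ht.fixB x (ht.X_le hx) z hz
  have hmulP : ∀ x ∈ X, ∀ y ∈ X, ∀ p ∈ P,
      delt ρ (x * y) p = delt ρ x p * delt ρ y p := fun x hx y hy p hp => by
    rw [delt_mul ρ, hfixX x hx _ (ht.step₂ y hy p hp)]
  have hmulW : ∀ x y : H, ∀ w,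
      delt ρ (x * y) w = delt ρ x w * delt ρ y w * delt ρ x (delt ρ y w) := fun x y w => by
    rw [delt_mul ρ, delt_apply ρ x (delt ρ y w), mul_comm (delt ρ x (delt ρ y w)), ← mul_assoc]
  haveI : Finite (Z →* W ⧸ M₂) := Finite.of_injective _ DFunLike.coe_injective
  let f : X → (Z →* W ⧸ M₂) := fun x => (χ x).comp Z.subtype
  have hdev : ∀ (x t : X) (z : Z), (f (x * t) / (f x * f t)) z =
      L (delt ρ (x : H) (delt ρ (t : H) (ρ h⁻¹ z))) := by
    intro x t z
    show χ (x * t) z / (χ x z * χ t z) = _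
    rw [hχ, hχ, hχ, ← hL, ← hL, ← hL, Subgroup.coe_mul, hmulW, map_mul, map_mul,
      mul_div_cancel_left]
  have hzero := card_le_card_zeros (fun c : Z →* W ⧸ M₂ => MonoidHom.ext fun z => hC2 (c z)) f ⊤
    (fun _ _ => mem_top _) (fun x s t => MonoidHom.ext fun z => by
      rw [MonoidHom.mul_apply, hdev, hdev, hdev, Subgroup.coe_mul,
        hmulP _ x.2 _ s.2 _ (ht.step₁ _ t.2 _), map_mul])
  -- those which kill `P` as well are few
  set K := Z ⊓ M₂.comap (ρ h : W ≃* W).toMonoidHom with hK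
  set Y := (X ⊓ relFix ρ K P : Subgroup H) with hY
  set A := P ⊓ P.comap (ρ h : W ≃* W).toMonoidHom with hA
  have hbad : ∃ x : X, f x = 1 ∧ ∃ p ∈ P, χ x p ≠ 1 := by
    by_contra hall
    push Not at hall
    let g : X →* P →* W ⧸ M₂ :=
      { toFun := fun x => L.comp ((D (x : H)).comp P.subtype)
        map_one' := MonoidHom.ext fun p => by simp [D, delt]
        map_mul' := fun x y => MonoidHom.ext fun p => by
          show L (delt ρ ((x : H) * y) (p : W)) = L _ * L _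
          rw [hmulP _ x.2 _ y.2 _ p.2, map_mul]
          rfl }
    have hg : ∀ (x : X) (p : P), g x p = L (delt ρ (x : H) p) := fun _ _ => rfl
    set Ann := (A.subgroupOf P).map P.subtype ⊔ Z with hAnn
    -- zeros are in the annihilator of `A Z`
    let G₀ : Subgroup X :=
      { carrier := {x | ∀ p : P, (p : W) ∈ A → g x p = 1}
        one_mem' := fun p _ => by rw [map_one, MonoidHom.one_apply]
        mul_mem' := fun {x y} hx hy p hp => by
          rw [map_mul, MonoidHom.mul_apply, hx p hp, hy p hp, one_mul]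
        inv_mem' := fun {x} hx p hp => by
          rw [map_inv, MonoidHom.inv_apply, hx p hp, inv_one] }
    let g₀ : G₀ →* P →* W ⧸ M₂ := g.comp G₀.subtype
    have hz : Nat.card {x // f x = 1} ≤ Nat.card G₀ := by
      refine Nat.card_le_card_of_injective (fun x => ⟨x.1, fun p hp => ?_⟩) fun a b e =>
        Subtype.ext (congrArg (fun y : G₀ => (y : X)) e)
      have h1 := hall x.1 x.2 (ρ h p) hp.2
      rwa [hχ, apply_inv_apply] at h1
    have h1 := card_range_le hC g₀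
    set AZ := (A ⊔ Z).subgroupOf P with hAZ
    have h2 : g₀.flip.ker.index ≤ AZ.index := Nat.le_of_dvd
      (Nat.pos_of_ne_zero index_ne_zero_of_finite) (index_dvd_of_le fun p hp => by
        refine MonoidHom.mem_ker.2 (MonoidHom.ext fun x => ?_)
        obtain ⟨a, ha, z, hz, haz⟩ := Subgroup.mem_sup.1 (show (p : W) ∈ A ⊔ Z from hp)
        show g (x : X) p = 1
        rw [hg, ← haz, delt_mul_left ρ, map_mul,
          show delt ρ ((x : X) : H) z = 1 from div_eq_one.2 (hfixX _ (x : X).2 z hz), map_one,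
          mul_one]
        exact x.2 ⟨a, ha.1⟩ ha)
    have h3 : (g₀.ker.map G₀.subtype).map X.subtype ≤ Y := by
      rintro _ ⟨_, ⟨x, hx, rfl⟩, rfl⟩
      refine ⟨(x : X).2, fun z hz => hfixX _ (x : X).2 z hz.1, fun p hp =>
        ⟨ht.step₂ _ (x : X).2 p hp, ?_⟩⟩
      exact (hφ1 _).1 (DFunLike.congr_fun (MonoidHom.mem_ker.1 hx) ⟨p, hp⟩)
    have h4 : Nat.card g₀.ker ≤ Nat.card Y := by
      rw [← Subgroup.card_map_of_injective (K := g₀.ker) G₀.subtype_injective,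
        ← Subgroup.card_map_of_injective (K := g₀.ker.map G₀.subtype) X.subtype_injective]
      exact card_le_of_le h3
    have h5 : Nat.card G₀ = Nat.card g₀.ker * Nat.card g₀.range := by
      rw [← index_ker, card_mul_index]
    -- `|Z| |P : A Z| ≤ |W : P|`
    have hAZle : A ⊔ Z ≤ P := sup_le inf_le_left ht.Z_le
    have hinf : A ⊓ Z = ⊥ := (Subgroup.eq_bot_iff_forall _).2 fun z hz => hinter z hz.2 hz.1.2
    have h6 : Nat.card Z * AZ.index ≤ P.index := by
      have e1 : Nat.card (A ⊔ Z : Subgroup W) * AZ.index = Nat.card P :=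
        card_mul_relIndex' hAZle
      have e2 := card_sup_mul_inf A Z
      rw [hinf, Subgroup.card_bot, mul_one] at e2
      have e3 : Nat.card A * (P.comap (ρ h : W ≃* W).toMonoidHom).relIndex P = Nat.card P := by
        rw [hA, ← inf_relIndex_left P, card_mul_relIndex' inf_le_left]
      have e4 : (P.comap (ρ h : W ≃* W).toMonoidHom).relIndex P ≤ P.index := by
        refine (relIndex_le_of_le_right le_top index_ne_zero_of_finite).trans (le_of_eq ?_)
        rw [relIndex_top_right, index_comap_of_surjective _ (ρ h).surjective]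
      refine Nat.le_of_mul_le_mul_left ?_ (Nat.card_pos (α := A))
      rw [← mul_assoc, ← e2, e1, ← e3]
      exact Nat.mul_le_mul_left _ e4
    -- compare with the pair inequality
    have hZle : Nat.card Z ≤ P.index := by
      refine Nat.card_le_card_of_injective
        (fun z : Z => (QuotientGroup.mk (ρ h (z : W)) : W ⧸ P)) fun a b e => ?_
      have h' := QuotientGroup.eq.1 e
      rw [← map_inv, ← map_mul] at h'
      exact Subtype.ext (inv_mul_eq_one.1 (hinter _ (mul_mem (inv_mem a.2) b.2) h'))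
    have hb := ht.bound K inf_le_left p₀ hp₀ ⟨x₀, hx₀, fun e => hzM (show ρ h z₀ ∈ M₂ from e.2)⟩
    have hlt : Nat.card (X ⊓ relFix ρ K (zpowers p₀) : Subgroup H) < Nat.card X :=
      CfsgLib.Fusion.card_lt_card_of_lt (lt_of_le_of_ne inf_le_left fun e => hzM
        ((e.ge hx₀).2.2 _ (mem_zpowers p₀)).2)
    rw [Subgroup.card_top] at hzero
    have hhom : Nat.card (Z →* W ⧸ M₂) ≤ Nat.card Z := card_hom_le hC
    have h7 : Nat.card X ≤ P.index ^ 2 * Nat.card Y := calc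
      Nat.card X ≤ Nat.card Z * Nat.card Z * (Nat.card Y * AZ.index) := by
            refine hzero.trans (Nat.mul_le_mul (Nat.mul_le_mul hhom hhom) ?_)
            exact hz.trans (h5.le.trans (Nat.mul_le_mul h4 (h1.trans h2)))
      _ = Nat.card Z * (Nat.card Z * AZ.index) * Nat.card Y := by ring
      _ ≤ P.index * P.index * Nat.card Y :=
            Nat.mul_le_mul_right _ (Nat.mul_le_mul hZle h6)
      _ = _ := by rw [pow_two]
    exact absurd (h7.trans hb) (not_le.2 hlt)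
  obtain ⟨x, hxZ, p₁, hp₁, hp₁1⟩ := hbad
  set ψ := χ x with hψ
  have hψZ : ∀ z ∈ Z, ψ z = 1 := fun z hz => DFunLike.congr_fun hxZ ⟨z, hz⟩
  -- some `b ∈ X` carries `ψ` to `φ`
  obtain ⟨b, hb, hbφ⟩ : ∃ b ∈ X, ∀ w, ψ (delt ρ b w) = φ w := by
    haveI : Finite (W →* W ⧸ M₂) := Finite.of_injective _ DFunLike.coe_injective
    let E : X →* W →* W ⧸ M₂ :=
      { toFun := fun b => ψ.comp (D (b : H))
        map_one' := MonoidHom.ext fun w => by simp [D, delt]
        map_mul' := fun b c => MonoidHom.ext fun w => by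
          show ψ (delt ρ ((b : H) * c) w) = ψ _ * ψ _
          rw [hmulW, map_mul, map_mul, hψZ _ (ht.step₂ _ b.2 _ (ht.step₁ _ c.2 w)), mul_one]
          rfl }
    let Φ : Subgroup (W →* W ⧸ M₂) :=
      { carrier := {c | ∀ p ∈ P, c p = 1}
        one_mem' := fun _ _ => rfl
        mul_mem' := fun {a b} ha hb p hp => by rw [MonoidHom.mul_apply, ha p hp, hb p hp, one_mul]
        inv_mem' := fun {a} ha p hp => by rw [MonoidHom.inv_apply, ha p hp, inv_one] }
    have hle : E.range ≤ Φ := by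
      rintro _ ⟨b, rfl⟩ p hp
      exact hψZ _ (ht.step₂ _ b.2 p hp)
    have hker : E.flip.ker ≤ P := fun w hw => by
      by_contra hwP
      obtain ⟨y, hy, hyz⟩ := ht.surj w hwP p₁ hp₁
      have h1 : ψ (delt ρ y w) = 1 := DFunLike.congr_fun (MonoidHom.mem_ker.1 hw) ⟨y, hy⟩
      have h2 := hψZ _ hyz
      rw [map_div, h1, one_div, inv_eq_one] at h2
      exact hp₁1 h2
    have h1 : P.index ≤ Nat.card E.flip.range := by
      rw [← index_ker]
      exact Nat.le_of_dvd (Nat.pos_of_ne_zero index_ne_zero_of_finite) (index_dvd_of_le hker)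
    have h2 : Nat.card E.flip.range ≤ Nat.card E.range := by
      rw [← index_ker E]
      exact card_range_le hC E.flip
    have h3 : Nat.card Φ ≤ P.index := by
      haveI : Finite (W ⧸ P →* W ⧸ M₂) := Finite.of_injective _ DFunLike.coe_injective
      refine (Nat.card_le_card_of_injective
        (fun c : Φ => QuotientGroup.lift P (c : W →* W ⧸ M₂) c.2) fun a b e => ?_).trans
          (card_hom_le hC)
      exact Subtype.ext (MonoidHom.ext fun w =>
        DFunLike.congr_fun e (QuotientGroup.mk w : W ⧸ P))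
    have heq := eq_of_le_of_card_ge hle (h3.trans (h1.trans h2))
    obtain ⟨b, hb⟩ := heq.ge (show φ ∈ Φ from fun p hp => (hφ1 p).2 (hPM hp))
    exact ⟨b, b.2, DFunLike.congr_fun hb⟩
  -- the triangle
  set c := h * (x : H) * h⁻¹ with hc
  have hc2 : c * c = 1 := by
    rw [hc, show h * (x : H) * h⁻¹ * (h * x * h⁻¹) = h * ((x : H) * x) * h⁻¹ by group,
      ht.X_sq x x.2]
    group
  have hψc : ∀ w, φ (delt ρ c w) = ψ w := fun w => by
    rw [hψ, hχ]
    refine congrArg φ ?_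
    rw [delt, delt, map_div, apply_apply_inv, hc, map_mul, map_mul, MulAut.mul_apply,
      MulAut.mul_apply]
  letI act : MulAction H (W →* W ⧸ M₂) :=
    { smul := fun g a => a.comp (ρ g⁻¹ : W ≃* W).toMonoidHom
      one_smul := fun a => MonoidHom.ext fun w => by
        show a (ρ (1 : H)⁻¹ w) = a w
        rw [inv_one, map_one, MulAut.one_apply]
      mul_smul := fun g k a => MonoidHom.ext fun w => by
        show a (ρ (g * k)⁻¹ w) = a (ρ k⁻¹ (ρ g⁻¹ w))
        rw [mul_inv_rev, map_mul, MulAut.mul_apply] }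
  have hsmul : ∀ (g : H), g * g = 1 → ∀ (a : W →* W ⧸ M₂) (w : W),
      (g • a) w = a (delt ρ g w) * a w := fun g hg a w => by
    show a (ρ g⁻¹ w) = _
    rw [inv_eq_of_mul_eq_one_right hg, delt_apply ρ g w, map_mul]
  have hbb := ht.X_sq b hb
  have hφP : ∀ p ∈ P, φ p = 1 := fun p hp => (hφ1 p).2 (hPM hp)
  have hψcc : ∀ w, ψ (delt ρ c w) = 1 := fun w => by
    rw [← hψc, ← map_one φ]
    refine congrArg φ ?_
    set d := delt ρ c w with hd
    have e : ρ c d = d⁻¹ := by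
      rw [hd, delt, map_div, ← MulAut.mul_apply, ← map_mul, hc2, map_one, MulAut.one_apply, inv_div]
    rw [delt, e, div_eq_mul_inv, ← mul_inv_rev, ht.two, inv_one]
  refine ht.hg.no_triangle (b := b) (c := c) (u := φ) (z := ψ) (x := φ * ψ) ?_ ?_ ?_ ?_ ?_ ?_ ?_
    ?_ ?_
  · exact fun e => hp₁1 (by rw [← e]; exact hφP p₁ hp₁)
  · exact fun e => hp₁1 (DFunLike.congr_fun (left_eq_mul.1 e) p₁)
  · exact fun e => hzM ((hφ1 _).1 (DFunLike.congr_fun (right_eq_mul.1 e) (ρ h z₀)))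
  · exact MonoidHom.ext fun w => by rw [hsmul b hbb, hφP _ (ht.step₁ b hb w), one_mul]
  · exact MonoidHom.ext fun w => by rw [hsmul b hbb, hbφ, MonoidHom.mul_apply]
  · exact MonoidHom.ext fun w => by
      rw [hsmul b hbb, MonoidHom.mul_apply, MonoidHom.mul_apply, hφP _ (ht.step₁ b hb w), one_mul,
        hbφ, ← mul_assoc, hC2, one_mul]
  · exact MonoidHom.ext fun w => by rw [hsmul c hc2, hψcc, one_mul]
  · exact MonoidHom.ext fun w => by rw [hsmul c hc2, hψc, MonoidHom.mul_apply, mul_comm]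
  · exact MonoidHom.ext fun w => by
      rw [hsmul c hc2, MonoidHom.mul_apply, MonoidHom.mul_apply, hψc, hψcc, mul_one,
        mul_left_comm, hC2, mul_one]

omit ht

/-- The case `[P, X] ⊄ J`. -/
theorem Mod.top_false {U : Subgroup W} (hm : Mod ρ S B M Q X U Z P) {J : Subgroup W}
    (hJinv : ∀ g, ∀ z ∈ J, ρ g z ∈ J) (hJP : J ≤ P)
    (hJmax : ∀ N : Subgroup W, (∀ g, ∀ z ∈ N, ρ g z ∈ N) → N ≤ P → N ≤ J)
    (hF : ∃ x ∈ X, ∃ p ∈ P, delt ρ x p ∉ J) : False := by
  classical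
  obtain ⟨u, hu, huJ, huS⟩ := hm.exists_fixed_mod hJinv hJP
  set W₁ := transl ρ ⊤ (zpowers u) ⊔ J with hW₁
  have hW₁inv : ∀ g, ∀ w ∈ W₁, ρ g w ∈ W₁ := fun g w hw => by
    obtain ⟨v, hv, j, hj, rfl⟩ := Subgroup.mem_sup.1 hw
    rw [map_mul]
    exact mul_mem (mem_sup_left ((le_setFix_transl ⊤ _ (mem_top g)).1 v hv))
      (mem_sup_right (hJinv g j hj))
  have hnot : ¬ W₁ ≤ P := fun h => huJ (hJmax _ hW₁inv h
    (mem_sup_left (le_transl _ _ (mem_zpowers u))))
  obtain ⟨a₁, ha₁, ha₁P⟩ := SetLike.not_le_iff_exists.1 hnot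
  have hdW : ∀ g, ∀ w ∈ W₁, delt ρ g w ∈ W₁ := fun g w hw => div_mem (hW₁inv g w hw) hw
  -- `P = (P ⊓ W₁) Z`
  have hcover : ∀ p ∈ P, ∃ p' ∈ P ⊓ W₁, ∀ y ∈ X, delt ρ y p = delt ρ y p' := fun p hp => by
    obtain ⟨x, hx, hz⟩ := hm.surj a₁ ha₁P p hp
    refine ⟨delt ρ x a₁, ⟨hm.flag.step₁ x hx a₁, hdW x a₁ ha₁⟩, fun y hy => ?_⟩
    have h1 : delt ρ y (delt ρ x a₁ / p) = 1 := div_eq_one.2 (hm.flag.fix y hy _ hz)
    calc delt ρ y p = delt ρ y p * delt ρ y (delt ρ x a₁ / p) := by rw [h1, mul_one]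
      _ = delt ρ y (delt ρ x a₁) := by rw [← delt_mul_left ρ, mul_div_cancel]
  obtain ⟨Wb, _, _, q, G', _, _, π, ρ', hq, hker, hπ, hρ', hc⟩ :=
    exists_section (ρ := ρ) (P := W₁) (N := J) hW₁inv hJinv
  set ρb := ρ'.comp π with hρb
  have hbc : ∀ (g : H) (w : W₁), ρb g (q w) = q ⟨ρ g w, hW₁inv g w w.2⟩ := hc
  have hdq : ∀ (g : H) (w : W₁),
      delt ρb g (q w) = q ⟨delt ρ g w, hdW g w w.2⟩ := fun g w => by
    rw [delt, hbc, ← map_div]
    rfl
  set P₂ := (P.subgroupOf W₁).map q with hP₂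
  set Z₂ := (Z.subgroupOf W₁).map q with hZ₂
  have hP₂mem : ∀ w : W₁, q w ∈ P₂ ↔ (w : W) ∈ P := fun w => by
    refine ⟨fun h => ?_, fun h => ⟨w, h, rfl⟩⟩
    obtain ⟨p, hp, hpw⟩ := h
    have h1 : ((p⁻¹ * w : W₁) : W) ∈ J := (hker _).1 (by rw [map_mul, map_inv, hpw, inv_mul_cancel])
    simpa using mul_mem (show (p : W) ∈ P from hp) (hJP h1)
  have hu₁ : u ∈ W₁ := mem_sup_left (le_transl _ _ (mem_zpowers u))
  set u₂ := q ⟨u, hu₁⟩ with hu₂
  refine TopMod.false (ρ := ρb) (S := S) (B := B) (M := M) (Q := Q) (X := X) (u := u₂) (Z := Z₂)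
    (P := P₂) ⟨?_, hm.hg, hm.sylow, hm.S_le, hm.Q_normal, hm.Q_le, hm.X_le,
      fun x hx => hm.flag.sq hm.P_ne hx, hm.overB, hm.closed, ?_, ?_, ?_, ?_, ?_, ?_, ?_, ?_, ?_,
      ?_, ?_, ?_, ?_⟩
  · intro w
    obtain ⟨w, rfl⟩ := hq w
    rw [← map_mul, show w * w = 1 from Subtype.ext (hm.flag.two w), map_one]
  · rintro b hb _ ⟨z, hz, rfl⟩
    rw [hbc]
    exact congrArg q (Subtype.ext (hm.fixB b hb z hz))
  · intro x hx w
    obtain ⟨w, rfl⟩ := hq w
    rw [hdq, hP₂mem]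
    exact hm.flag.step₁ x hx w
  · rintro x hx _ ⟨p, hp, rfl⟩
    rw [hdq]
    exact ⟨_, hm.flag.step₂ x hx p hp, rfl⟩
  · rintro _ ⟨z, hz, rfl⟩
    exact (hP₂mem z).2 (hm.Z_le hz)
  · exact fun e => hnot fun w hw => (hP₂mem ⟨w, hw⟩).1 (e ▸ mem_top _)
  · intro N hN hle
    refine (Subgroup.eq_bot_iff_forall _).2 fun w hw => ?_
    obtain ⟨w, rfl⟩ := hq w
    refine (hker w).2 (hJmax ((N.comap q).map W₁.subtype) ?_ ?_ ⟨w, hw, rfl⟩)
    · rintro g _ ⟨v, hv, rfl⟩
      refine ⟨⟨ρ g v, hW₁inv g v v.2⟩, ?_, rfl⟩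
      show q _ ∈ N
      rw [← hbc]
      exact hN g _ hv
    · rintro _ ⟨v, hv, rfl⟩
      exact (hP₂mem v).1 (hle hv)
  · rintro a ha x hx hax p hp
    obtain ⟨a, rfl⟩ := hq a
    obtain ⟨p, hp, rfl⟩ := hp
    rw [hdq] at hax ⊢
    refine (hker _).2 ?_
    obtain ⟨z, hz, hze⟩ := hax
    set d := delt ρ x (a : W) with hd
    have h1 : (z : W)⁻¹ * d ∈ J :=
      (hker (z⁻¹ * ⟨d, hdW x a a.2⟩)).1 (by rw [map_mul, map_inv, hze]; exact inv_mul_cancel _)
    obtain ⟨y, hy, hye⟩ := hm.exists_delt_eq (fun h => ha ((hP₂mem a).2 h)) hx hp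
    show delt ρ x (p : W) ∈ J
    replace hye : delt ρ x (delt ρ y (a : W)) = delt ρ x (p : W) := hye
    rw [← hye, delt_comm ρ (hm.flag.comm hm.P_ne hx hy), ← hd,
      show d = (z : W) * ((z : W)⁻¹ * d) by rw [mul_inv_cancel_left], delt_mul_left ρ,
      show delt ρ y (z : W) = 1 from div_eq_one.2 (hm.flag.fix y hy _ hz), one_mul]
    exact div_mem (hJinv y _ h1) h1
  · rintro a ha _ ⟨p, hp, rfl⟩
    obtain ⟨a, rfl⟩ := hq a
    obtain ⟨x, hx, hxz⟩ := hm.surj a (fun h => ha ((hP₂mem a).2 h)) p hp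
    refine ⟨x, hx, ⟨delt ρ x a, hdW x a a.2⟩ / p, hxz, ?_⟩
    rw [map_div, ← hdq]
  · intro K hK _ ⟨s, hs, hse⟩ hne
    subst hse
    obtain ⟨x, hx, hxK⟩ := hne
    set K₀ := Z ⊓ (K.comap q).map W₁.subtype ⊔ Z ⊓ J with hK₀
    have hK₀q : ∀ w : W₁, (w : W) ∈ Z → ((w : W) ∈ K₀ ↔ q w ∈ K) := by
      intro w hwZ
      constructor
      · intro h
        obtain ⟨k, ⟨-, v, hv, hvk⟩, j, ⟨-, hj⟩, hkj⟩ := Subgroup.mem_sup.1 h
        have e : w = v * ⟨j, mem_sup_right hj⟩ := Subtype.ext (by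
          rw [← hkj, ← hvk]; rfl)
        rw [e, map_mul, (hker ⟨j, _⟩).2 hj, mul_one]
        exact hv
      · exact fun h => mem_sup_left ⟨hwZ, w, h, rfl⟩
    have hd : ∀ (y : H), y ∈ X → ∀ w : W₁, (w : W) ∈ P →
        (delt ρ y w ∈ K₀ ↔ delt ρb y (q w) ∈ K) := fun y hy w hw => by
      rw [hdq]
      exact hK₀q ⟨_, _⟩ (hm.flag.step₂ y hy _ hw)
    have hKfix : ∀ y ∈ X, ∀ z ∈ K, ρb y z = z := fun y hy z hz => by
      obtain ⟨w, hw, rfl⟩ := hK hz
      rw [hbc]
      exact congrArg q (Subtype.ext (hm.flag.fix y hy w hw))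
    have hi : P₂.index ≤ P.index := by
      refine (Nat.le_of_dvd (Nat.pos_of_ne_zero index_ne_zero_of_finite)
        (index_map_dvd _ hq)).trans ?_
      show P.relIndex W₁ ≤ P.index
      rw [← relIndex_top_right P]
      exact relIndex_le_of_le_right le_top index_ne_zero_of_finite
    have hle1 : (X ⊓ relFix ρb K P₂ : Subgroup H) ≤ X ⊓ relFix ρ K₀ P := by
      rintro y ⟨hy, hyr⟩
      refine ⟨hy, fun z hz => hm.flag.fix y hy z ((sup_le inf_le_left inf_le_left : K₀ ≤ Z) hz),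
        fun p hp => ?_⟩
      obtain ⟨p', hp', hpe⟩ := hcover p hp
      rw [hpe y hy]
      exact (hd y hy ⟨p', hp'.2⟩ hp'.1).2 (hyr.2 _ ((hP₂mem ⟨p', hp'.2⟩).2 hp'.1))
    have hle2 : (X ⊓ relFix ρ K₀ (zpowers (s : W)) : Subgroup H) ≤
        X ⊓ relFix ρb K (zpowers (q s)) := by
      rintro y ⟨hy, hyr⟩
      exact ⟨hy, relFix_zpowers (hKfix y hy) ((hd y hy s hs).1 (hyr.2 _ (mem_zpowers _)))⟩
    exact ((Nat.mul_le_mul (Nat.pow_le_pow_left hi 2) (card_le_of_le hle1)).trans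
      (hm.bound K₀ (sup_le inf_le_left inf_le_left) s hs
        ⟨x, hx, fun h => hxK ((hd x hx s hs).1 h)⟩)).trans (card_le_of_le hle2)
  · intro s hs
    rw [hu₂, hbc]
    refine div_eq_one.1 ?_
    rw [← map_div, hker]
    exact huS s hs
  · refine transl_le fun g hg w hw => ?_
    obtain ⟨n, rfl⟩ := mem_zpowers_iff.1 hw
    rw [map_zpow]
    refine zpow_mem ?_ n
    rw [hu₂, hbc]
    exact ⟨_, hm.U_le (mem_transl hg hu), rfl⟩
  · set D := transl ρb ⊤ (zpowers u₂) with hD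
    have hle : W₁ ≤ (D.comap q).map W₁.subtype := by
      refine sup_le (transl_le fun g _ w hw => ?_) fun j hj =>
        ⟨⟨j, mem_sup_right hj⟩, mem_comap.2 ((hker ⟨j, _⟩).2 hj ▸ one_mem D), rfl⟩
      have hwW : w ∈ W₁ := mem_sup_left (le_transl _ _ hw)
      refine ⟨⟨ρ g w, hW₁inv g w hwW⟩, mem_comap.2 ?_, rfl⟩
      rw [← hbc g ⟨w, hwW⟩]
      refine mem_transl (mem_top _) ?_
      obtain ⟨n, rfl⟩ := mem_zpowers_iff.1 hw
      exact ⟨n, by
        show u₂ ^ n = _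
        rw [hu₂, ← map_zpow]
        rfl⟩
    refine (Subgroup.eq_top_iff' _).2 fun x => ?_
    obtain ⟨w, rfl⟩ := hq x
    obtain ⟨y, hy, hyw⟩ := hle w.2
    rwa [← Subtype.ext hyw]
  · obtain ⟨x, hx, p, hp, hxp⟩ := hF
    obtain ⟨p', hp', hpe⟩ := hcover p hp
    refine ⟨x, hx, q ⟨p', hp'.2⟩, (hP₂mem _).2 hp'.1, fun e => hxp ?_⟩
    rw [hdq, hker] at e
    rw [hpe x hx]
    exact e

end CfsgLib.FourFree
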