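import Cfsg.Agent.Lib.FourFree.Config.GPair
import Cfsg.Agent.Lib.FourFree.Config.OuterFrame
import Cfsg.Agent.Lib.FourFree.Config.Bottom
import Cfsg.Agent.Lib.FourFree.Config.Top

/-!
# There is no configuration

A configuration gives a module `Mod` on the normal closure of `U` in `G'`; both the case `[P, X] ≤ J`
and the case `[P, X] ⊄ J` are impossible.
-/

set_option autoImplicit false
set_option linter.style.haveILetI false
set_option linter.unusedSectionVars false

open Subgroup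
open scoped commutatorElement
open CfsgLib.Fusion (conjBy mem_conjBy conj_mem_conjBy conjBy_le_iff conjBy_eq_iff conjBy_mono
  conjBy_conjBy conjBy_inv_conjBy conjBy_conjBy_inv)
open CfsgLib.CFun (delt fixOf mem_fixOf delt_apply delt_mul_left card_mul_relIndex')

namespace CfsgLib.FourFree

universe u v

/-- There is no module of a configuration. -/
theorem Mod.false {H : Type u} {W : Type v} [Group H] [CommGroup W] [Finite H] [Finite W]
    {ρ : H →* MulAut W} {S B M Q X : Subgroup H} {U Z P : Subgroup W}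
    (hm : Mod ρ S B M Q X U Z P) : False := by
  set J := sSup {N : Subgroup W | (∀ g, ∀ z ∈ N, ρ g z ∈ N) ∧ N ≤ P}
  have hinv : ∀ g, ∀ z ∈ J, ρ g z ∈ J := by
    intro g z hz
    have : J ≤ J.comap (ρ g : W ≃* W).toMonoidHom := sSup_le fun N hN w hw =>
      (le_sSup hN : N ≤ J) (hN.1 g w hw)
    exact this hz
  have hle : J ≤ P := sSup_le fun N hN => hN.2
  have hmax : ∀ N : Subgroup W, (∀ g, ∀ z ∈ N, ρ g z ∈ N) → N ≤ P → N ≤ J :=
    fun N h1 h2 => le_sSup ⟨h1, h2⟩
  by_cases hF : ∀ x ∈ X, ∀ p ∈ P, delt ρ x p ∈ J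
  · exact hm.bottom_false hinv hle hmax hF
  · push Not at hF
    exact hm.top_false hinv hle hmax hF

namespace Stellmacher

section config

variable {S T G G' : Type u} [Group S] [Group T] [Group G] [Group G'] [Finite T] [Finite G]
  {f : T →* S} {τ : T →* G} {τ' : S →* G'} {U : Subgroup S}
  (hc : HConfig S T G G' f τ τ' U)

include hc

theorem HConfig.center_le_core : center G ≤ Cfsg.pCore 2 G := fun z hz =>
  hc.member.constrained (mem_centralizer_iff.2 fun x _ => Subgroup.mem_center_iff.1 hz x)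

theorem HConfig.frameW_not_le : ¬ frameW f τ τ' U ≤ Cfsg.pCore 2 G := hc.not_le

theorem HConfig.commute_pairP {w x : G} (hw : w ∈ frameF τ) (hx : x ∈ pairP τ) : x * w = w * x :=
  (commute_of_sq' hc.frameF_sq hx.1 hw).eq

variable {g : G} (hg : IsPair τ g)

include hg

theorem HConfig.pairD_split {d : G} (hd : d ∈ pairD τ g) :
    ∃ p ∈ pairP τ, ∃ x ∈ conjBy g (pairP τ), p * x = d := by
  have hn : pairP τ ≤ normalizer (conjBy g (pairP τ) : Set G) := by
    intro p hp
    refine conjBy_eq_iff.1 (CfsgLib.Fusion.conjBy_eq_of_le (conjBy_le_iff.2 fun x hx => ?_))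
    have h := mul_mem (hc.pairP_le_conj_normalizer hg hp hx).2 hx
    rwa [commutatorElement_def, inv_mul_cancel_right] at h
  exact Set.mem_mul.1 ((Subgroup.coe_mul_of_left_le_normalizer_right _ _ hn).le
    (SetLike.mem_coe.2 hd))

end config

/-- An element outside `O₂` acting on `W` with `[P, X] = 1` gives an offender. -/
theorem HConfig.exists_comm_ne {S T G G' : Type u} [Group S] [Group T] [Group G] [Group G']
    [Finite T] [Finite G] {f : T →* S} {τ : T →* G} {τ' : S →* G'} {U : Subgroup S}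
    (hc : HConfig S T G G' f τ τ' U) {g : G} (hg : IsPair τ g) :
    ∃ x ∈ conjBy g (pairP τ), ∃ p ∈ frameW f τ τ' U ⊓ Cfsg.pCore 2 G, ⁅x, p⁆ ≠ 1 := by
  by_contra hall
  push Not at hall
  set W' := (spanOf τ' U).comap f with hW'
  have hgood : GoodIn W' := hc.span_good.comap hc.inj hc.span_range
  set P' := conjBy g (pairP τ) with hP'
  set XT := P'.comap τ with hXT
  have hP'r : P' ≤ τ.range := (le_sup_right.trans (hc.pairD_le_core hg)).trans
    hc.member.pCore_le_range
  set b := (Cfsg.pCore 2 G).relIndex (frameF τ) with hb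
  obtain ⟨hinj, -, hcard, -, hsq, -⟩ := hc.pair_main hg
  have hP'2 : ∀ p ∈ P', p * p = 1 :=
    sq_conjBy (fun p (hp : p ∈ pairP τ) => hc.frameF_sq p hp.1) g
  have hWF : frameW f τ τ' U ≤ frameF τ := hc.frameW_le
  obtain ⟨a, ha, haQ⟩ := SetLike.not_le_iff_exists.1 hc.frameW_not_le
  have hker : centralizer (W' : Set T) ⊓ XT ≤ (pairZ τ g).comap τ := by
    rintro t ⟨ht, htP⟩
    refine hinj a (hWF ha) haQ _ htP ?_
    obtain ⟨s, hs, rfl⟩ := ha
    rw [← map_commutatorElement, commutatorElement_eq_one_iff_mul_comm.2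
      (mem_centralizer_iff.1 ht s hs), map_one]
    exact one_mem _
  have h1 : (centralizer (XT : Set T)).relIndex W' ≤ b := by
    refine le_trans (Nat.le_of_dvd (Nat.pos_of_ne_zero index_ne_zero_of_finite)
      (relIndex_dvd_of_le_left (H := (Cfsg.pCore 2 G).comap τ ⊓ W') _ ?_)) ?_
    · rintro w ⟨hw, hwW⟩
      refine mem_centralizer_iff.2 fun t ht => hc.member.inj ?_
      rw [map_mul, map_mul]
      exact commutatorElement_eq_one_iff_mul_comm.1
        (hall _ ht _ ⟨mem_map_of_mem τ hwW, hw⟩)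
    · show ((Cfsg.pCore 2 G).comap τ ⊓ W').relIndex W' ≤ b
      rw [inf_relIndex_right, relIndex_comap, hb]
      exact relIndex_le_of_le_right hWF index_ne_zero_of_finite
  have h2 : (pairZ τ g).relIndex P' ≤ (centralizer (W' : Set T)).relIndex XT := by
    rw [← inf_relIndex_right (centralizer (W' : Set T)) XT]
    refine le_trans (le_of_eq ?_) (Nat.le_of_dvd (Nat.pos_of_ne_zero index_ne_zero_of_finite)
      (relIndex_dvd_of_le_left _ hker))
    rw [relIndex_comap, hXT, map_comap_eq_self hP'r]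
  rw [← hcard] at h2
  have h3 : b ≤ b * b := Nat.le_mul_self b
  have hX := hgood.good XT (fun t ht => by
    rw [show t * t = 1 from hc.member.inj (by rw [map_mul, map_one]; exact hP'2 _ ht)]
    exact one_mem _) (h1.trans (h3.trans (hsq.trans h2)))
  have h4 : (pairZ τ g).relIndex P' = 1 := relIndex_eq_one.2 fun x hx => by
    obtain ⟨t, rfl⟩ := hP'r hx
    exact hker ⟨hX hx, hx⟩
  rw [hcard, h4] at hsq
  have hb1 : b ≠ 1 := fun e => hc.frameF_not_le (relIndex_eq_one.1 e)
  have hb0 : b ≠ 0 := index_ne_zero_of_finite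
  have : 2 * 2 ≤ b * b := Nat.mul_le_mul (by omega) (by omega)
  exact absurd (this.trans hsq) (by norm_num)

set_option maxHeartbeats 1600000 in
/-- There is no configuration. -/
theorem noHConfig : NoHConfig.{u} := by
  intro S T G G' _ _ _ _ _ _ _ _ f τ τ' U hc
  classical
  haveI : Fact (Nat.Prime 2) := ⟨Nat.prime_two⟩
  obtain ⟨g, hg⟩ := hc.exists_pair
  obtain ⟨M₀, C₀, hrM, hM₀, hover, hclosed, hMC, hUC, hCc⟩ := hc.exists_outer
  set N := normalClosure (U.map τ' : Set G') with hN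
  haveI hNn : N.Normal := normalClosure_normal
  haveI hQn' : (Cfsg.pCore 2 G').Normal := Subgroup.sSup_normal _ fun K hK => hK.1
  haveI hQn : (Cfsg.pCore 2 G).Normal := Subgroup.sSup_normal _ fun K hK => hK.1
  haveI hDn := hc.pairD_normal hg
  have hUN : U.map τ' ≤ N := subset_normalClosure
  have hNB : N ≤ f.range.map τ' := hc.normalClosure_le
  have hN2 : ∀ x ∈ N, x * x = 1 := fun x hx => by
    obtain ⟨s, rfl⟩ := (hNB.trans (map_le_range τ' _)) hx
    rw [← map_mul, hc.span_good.sq s hx, map_one]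
  letI : CommGroup N := { mul_comm := fun a b => Subtype.ext (commute_of_sq' hN2 a.2 b.2).eq }
  -- the acting group
  let φ : G' →* MulAut N := MulAut.conjNormal
  let σ := QuotientGroup.mk' φ.ker
  let ρ := QuotientGroup.kerLift φ
  have hρ : Function.Injective ρ := QuotientGroup.kerLift_injective _
  have hσ : Function.Surjective σ := QuotientGroup.mk'_surjective _
  have hact : ∀ (y : G') (w : N), ((ρ (σ y) w : N) : G') = y * w * y⁻¹ := fun _ _ => rfl
  have hHG : HG (G' ⧸ φ.ker) := hg_of_not_involves hc.member'.free σ hσ (MonoidHom.id N)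
    Function.surjective_id hρ hNn (fun y e => Subtype.ext (hact y e))
    (fun a ha b hb => commute_of_sq' hN2 ha hb) fun v => Subtype.ext (hN2 v v.2)
  -- the embedding of `W` into `G`
  let j : T →* G' := τ'.comp f
  have hj : Function.Injective j := fun a b h => hc.inj (hc.member'.inj h)
  have hjr : N ≤ j.range := fun x hx => by
    obtain ⟨_, ⟨t, rfl⟩, ht⟩ := hNB hx
    exact ⟨t, ht⟩
  let ι : N →* T := (MonoidHom.ofInjective hj).symm.toMonoidHom.comp (Subgroup.inclusion hjr)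
  have hι : ∀ w : N, j (ι w) = w := fun w => congrArg Subtype.val
    ((MonoidHom.ofInjective hj).apply_symm_apply (Subgroup.inclusion hjr w))
  let κ : N →* G := τ.comp ι
  have hιt : ∀ (w : N) (t : T), j t = w → ι w = t := fun w t h => hj ((hι w).trans h.symm)
  have hκinj : Function.Injective κ := fun a b h => Subtype.ext (by
    rw [← hι a, ← hι b, hc.member.inj h])
  have hιW : ∀ w : N, ι w ∈ (spanOf τ' U).comap f := fun w =>
    show j (ι w) ∈ N from (hι w).symm ▸ w.2
  have hκW : ∀ w : N, κ w ∈ frameW f τ τ' U := fun w => mem_map_of_mem τ (hιW w)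
  have hκF : ∀ w : N, κ w ∈ frameF τ := fun w => hc.frameW_le (hκW w)
  have hWκ : frameW f τ τ' U ≤ κ.range := by
    rintro _ ⟨t, ht, rfl⟩
    exact ⟨⟨j t, ht⟩, congrArg τ (hιt _ t rfl)⟩
  let ξ : T →* G' ⧸ φ.ker := σ.comp j
  have hκconj : ∀ (t : T) (w : N), κ (ρ (ξ t) w) = τ t * κ w * (τ t)⁻¹ := fun t w => by
    show τ (ι (ρ (σ (j t)) w)) = τ t * τ (ι w) * (τ t)⁻¹
    rw [← map_inv, ← map_mul, ← map_mul]
    refine congrArg τ (hιt _ _ ?_)
    rw [map_mul, map_mul, map_inv, hι, hact]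
  have hκd : ∀ (t : T) (w : N), κ (delt ρ (ξ t) w) = ⁅τ t, κ w⁆ := fun t w => by
    rw [delt, map_div, hκconj, commutatorElement_def, div_eq_mul_inv]
  have hσ1 : ∀ t : T, (∀ w : N, τ t * κ w = κ w * τ t) → ξ t = 1 := fun t h => by
    refine hρ (MulEquiv.ext fun w => hκinj ?_)
    rw [hκconj, map_one, MulAut.one_apply, h w, mul_inv_cancel_right]
  -- the subgroups
  set P := (Cfsg.pCore 2 G).comap κ with hPdef
  set Z := (center G).comap κ with hZdef
  set B := (f.range.map τ').map σ with hBdef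
  set X := ((pairD τ g).comap τ).map ξ with hXdef
  have hBξ : ∀ b ∈ B, ∃ t, ξ t = b := by
    rintro _ ⟨_, ⟨_, ⟨t, rfl⟩, rfl⟩, rfl⟩
    exact ⟨t, rfl⟩
  have hξB : ∀ t, ξ t ∈ B := fun t => mem_map_of_mem σ (mem_map_of_mem τ' (⟨t, rfl⟩ : f t ∈ f.range))
  have hP'r : conjBy g (pairP τ) ≤ τ.range :=
    (le_sup_right.trans (hc.pairD_le_core hg)).trans hc.member.pCore_le_range
  have hXP' : ∀ x ∈ X, ∃ t, τ t ∈ conjBy g (pairP τ) ∧ ξ t = x := by
    rintro _ ⟨t, ht, rfl⟩
    obtain ⟨p, hp, y, hy, hpy⟩ := hc.pairD_split hg ht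
    obtain ⟨s, rfl⟩ := hP'r hy
    refine ⟨s, hy, ?_⟩
    have h1 : ξ (t * s⁻¹) = 1 := hσ1 _ fun w => by
      rw [map_mul, map_inv, ← hpy, mul_inv_cancel_right]
      exact hc.commute_pairP (hκF w) hp
    rw [map_mul, map_inv, mul_inv_eq_one] at h1
    exact h1.symm
  have hPP : ∀ {p : N}, p ∈ P → κ p ∈ pairP τ := fun hp => ⟨hκF _, hp⟩
  have hZD : ∀ {z : N}, z ∈ Z → κ z ∈ pairZ τ g := fun {z} hz =>
    ⟨mem_sup_left ⟨hκF z, hc.center_le_core hz⟩,
      mem_centralizer_iff.2 fun y _ => Subgroup.mem_center_iff.1 hz y⟩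
  obtain ⟨hinj, hsurj, -, -, -, -⟩ := hc.pair_main hg
  have hflag : Flag ρ X Z P := by
    refine ⟨fun w => Subtype.ext (hN2 w w.2), ?_, ?_, ?_, ?_⟩
    · intro x hx z hz
      obtain ⟨t, -, rfl⟩ := hXP' x hx
      refine hκinj ?_
      rw [hκconj, Subgroup.mem_center_iff.1 hz (τ t), mul_inv_cancel_right]
    · intro x hx w
      obtain ⟨t, ht, rfl⟩ := hXP' x hx
      show κ (delt ρ (ξ t) w) ∈ Cfsg.pCore 2 G
      rw [hκd]
      exact (hc.commutator_mem_pairP hg (hc.pairD_le_core hg (mem_sup_right ht)) (hκF w)).1.2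
    · intro x hx p hp
      obtain ⟨t, ht, rfl⟩ := hXP' x hx
      show κ (delt ρ (ξ t) p) ∈ center G
      rw [hκd, ← commutatorElement_inv]
      exact inv_mem (hc.pairZ_le_center hg (hc.commutator_mem_pairZ hg (hPP hp) ht))
    · intro w hw x hx hd
      obtain ⟨t, ht, rfl⟩ := hXP' x hx
      have h1 : ⁅κ w, τ t⁆ ∈ pairZ τ g := by
        rw [← commutatorElement_inv, ← hκd]
        exact inv_mem (hZD hd)
      have h2 := hc.pairZ_le_center hg (hinj _ (hκF w) hw _ ht h1)
      exact hσ1 t fun v => (Subgroup.mem_center_iff.1 h2 _).symm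
  -- the kernel
  have hker : φ.ker ≤ M₀ := by
    by_contra hnot
    have htop : φ.ker ⊔ (Cfsg.pCore 2 G' ⊔ f.range.map τ') = ⊤ := by
      by_contra hne
      exact hnot (le_sup_left.trans (hover _ hne le_sup_right))
    have hUn : (U.map τ').Normal := by
      refine Subgroup.normalizer_eq_top_iff.1 (top_le_iff.1 (htop.ge.trans (sup_le ?_ ?_)))
      · intro k hk
        refine conjBy_eq_iff.1 (CfsgLib.Fusion.conjBy_eq_of_le (conjBy_le_iff.2 fun y hy => ?_))
        have h := congrArg Subtype.val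
          (show φ k ⟨y, hUN hy⟩ = ⟨y, hUN hy⟩ by rw [MonoidHom.mem_ker.1 hk, MulAut.one_apply])
        exact (show k * y * k⁻¹ = y from h).symm ▸ hy
      · haveI := hc.safe.good.normal
        exact (sup_le hc.member'.pCore_le_range (map_le_range τ' _)).trans
          (range_le_normalizer_map τ' U)
    have hNU : N ≤ U.map τ' := normalClosure_le_normal (N := U.map τ') fun y hy => hy
    have hUr : U ≤ f.range := (le_spanOf τ' U).trans hc.span_range
    refine hc.frameW_not_le (le_trans (map_mono fun t ht => ?_) ((hc.safe.comap hc.inj hUr).le_core_self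
      hc.member (Nat.lt_succ_self _)))
    obtain ⟨s, hs, hst⟩ := hNU (show τ' (f t) ∈ N from ht)
    show f t ∈ U
    rwa [← hc.member'.inj hst]
  have hMker : ∀ y, σ y ∈ M₀.map σ → y ∈ M₀ := by
    rintro y ⟨m, hm, he⟩
    have h : m⁻¹ * y ∈ φ.ker := QuotientGroup.eq.1 he
    simpa using mul_mem hm (hker h)
  obtain ⟨P₀, hP₀⟩ := hc.member'.sylow
  refine (Mod.false (ρ := ρ) (S := τ'.range.map σ) (B := B) (M := M₀.map σ)
    (Q := (Cfsg.pCore 2 G').map σ) (X := X) (U := (U.map τ').subgroupOf N) (Z := Z) (P := P)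
    ⟨hflag, hHG, ⟨P₀.mapSurjective hσ, by rw [Sylow.coe_mapSurjective, hP₀]⟩,
      map_mono (map_le_range τ' _), map_mono hrM, ?_, hQn'.map σ hσ,
      map_mono hc.member'.pCore_le_range, ?_, ?_, ?_, ?_, ?_, ?_, ?_, ?_, ?_, ?_, ?_, ?_, ?_, ?_,
      ?_, ?_⟩)
  · exact fun e => hM₀ ((Subgroup.eq_top_iff' M₀).2 fun y => hMker y (e ▸ mem_top (σ y)))
  · rintro _ ⟨t, -, rfl⟩
    exact hξB t
  · intro b hb
    obtain ⟨t, rfl⟩ := hBξ b hb
    refine conjBy_eq_iff.1 (CfsgLib.Fusion.conjBy_eq_of_le (conjBy_le_iff.2 ?_))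
    rintro _ ⟨d, hd, rfl⟩
    refine ⟨t * d * t⁻¹, ?_, by rw [map_mul, map_mul, map_inv]⟩
    show τ (t * d * t⁻¹) ∈ pairD τ g
    rw [map_mul, map_mul, map_inv]
    exact hDn.conj_mem _ hd _
  · refine le_setFix fun b hb p hp => ?_
    obtain ⟨t, rfl⟩ := hBξ b hb
    show κ (ρ (ξ t) p) ∈ Cfsg.pCore 2 G
    rw [hκconj]
    exact hQn.conj_mem _ hp _
  · intro b hb z hz
    obtain ⟨t, rfl⟩ := hBξ b hb
    refine hκinj ?_
    rw [hκconj, Subgroup.mem_center_iff.1 hz (τ t), mul_inv_cancel_right]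
  · intro w hw
    have hΩ : ι w ∈ omegaZ T := by
      refine ⟨Subgroup.mem_center_iff.2 fun t => hc.member.inj ?_, hc.member.inj ?_⟩
      · have h := congrArg κ (mem_fixOf.1 hw _ (hξB t))
        rw [hκconj, mul_inv_eq_iff_eq_mul] at h
        rw [map_mul, map_mul]
        exact h
      · rw [map_mul, map_one]
        exact hc.frameF_sq _ (hκF w)
    have h := (hc.member.normal_of_good hc.isMinimal (hc.span_good.comap hc.inj hc.span_range)
      hc.not_le goodIn_omegaZ ((hsafe_omegaZ (Nat.card G + 1)).le_core_self hc.member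
        (Nat.lt_succ_self _))).2
    exact hc.mem_center_of
      (mem_centralizer_iff.2 fun d hd =>
        (mem_centralizer_iff.1 (h hd) _ (mem_map_of_mem τ hΩ)).symm)
      (mem_centralizer_iff.2 fun v hv =>
        (commute_of_sq' hc.frameF_sq (hc.frameW_le hv) (hκF w)).eq)
  · intro K hK hle y hy
    obtain ⟨y, rfl⟩ := hσ y
    refine mem_map_of_mem σ (hover (K.comap σ) (fun e => hK ?_) ?_ (show y ∈ K.comap σ from hy))
    · rw [← map_comap_eq_self_of_surjective hσ K, e, map_top_of_surjective σ hσ]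
    · exact sup_le (map_le_iff_le_comap.1 (le_sup_right.trans hle))
        (map_le_iff_le_comap.1 (le_sup_left.trans hle))
  · intro y hy
    obtain ⟨y, rfl⟩ := hσ y
    refine mem_map_of_mem σ (hclosed y (conjBy_le_iff.2 fun b hb => hMker _ ?_))
    rw [map_mul, map_mul, map_inv]
    exact hy (conj_mem_conjBy (mem_map_of_mem σ hb))
  · refine top_le_iff.1 ((map_top_of_surjective σ hσ).ge.trans ?_)
    rw [← hc.residual_sup_image, Subgroup.map_sup]
    refine sup_le_sup_right (map_le_iff_le_comap.2 ((closure_le _).2 fun d hd => ?_)) _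
    exact CfsgLib.Fusion.mem_pResidual (Nat.Coprime.coprime_dvd_left (orderOf_map_dvd σ d) hd)
  · exact fun z hz => hc.center_le_core hz
  · exact fun e => hc.frameW_not_le fun x hx => by
      obtain ⟨w, rfl⟩ := hWκ hx
      exact (e ▸ mem_top w : w ∈ P)
  · intro a ha p hp
    obtain ⟨y, hy, hz⟩ := hsurj _ (hκF a) ha _ (hPP hp)
    obtain ⟨t, rfl⟩ := hP'r hy
    refine ⟨ξ t, mem_map_of_mem ξ (mem_sup_right hy), ?_⟩
    show κ (delt ρ (ξ t) a / p) ∈ center G
    rw [map_div, hκd, div_eq_mul_inv, inv_eq_of_mul_eq_one_right (hc.frameF_sq _ (hκF p)),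
      ← commutatorElement_inv]
    exact hc.pairZ_le_center hg hz
  · intro K hK s hs hne
    obtain ⟨x, hx, hxs⟩ := hne
    have hK₀ : K.map κ ≤ pairZ τ g := by
      rintro _ ⟨z, hz, rfl⟩
      exact hZD (hK hz)
    obtain ⟨t, ht, rfl⟩ := hXP' x hx
    obtain ⟨C, hCP, hCs, hbd⟩ := hc.pair_bound hg hK₀ (hPP hs) ⟨τ t, ht, fun h => hxs (by
      rw [← hκd] at h
      exact (Subgroup.mem_map_iff_mem hκinj).1 h)⟩
    set Y := (X ⊓ relFix ρ K P : Subgroup (G' ⧸ φ.ker)) with hY
    set Cs := (X ⊓ relFix ρ K (zpowers s) : Subgroup (G' ⧸ φ.ker)) with hCsdef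
    let P' := conjBy g (pairP τ)
    let e : P' →* T := (MonoidHom.ofInjective hc.member.inj).symm.toMonoidHom.comp
      (Subgroup.inclusion hP'r)
    have he : ∀ d : P', τ (e d) = d := fun d => congrArg Subtype.val
      ((MonoidHom.ofInjective hc.member.inj).apply_symm_apply (Subgroup.inclusion hP'r d))
    let η : P' →* G' ⧸ φ.ker := ξ.comp e
    have hηX : ∀ d, η d ∈ X := fun d => mem_map_of_mem ξ
      (show τ (e d) ∈ pairD τ g from (he d).symm ▸ mem_sup_right d.2)
    have hXη : X ≤ η.range := fun y hy => by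
      obtain ⟨u, hu, rfl⟩ := hXP' y hy
      exact ⟨⟨τ u, hu⟩, congrArg ξ (hc.member.inj (he ⟨τ u, hu⟩))⟩
    have hKfix : ∀ d, ∀ z ∈ K, ρ (η d) z = z := fun d z hz => hflag.fix _ (hηX d) z (hK hz)
    have hCle : C.subgroupOf P' ≤ Cs.comap η := fun d hd => by
      refine ⟨hηX d, relFix_zpowers (hKfix d) ((Subgroup.mem_map_iff_mem hκinj).1 ?_)⟩
      show κ (delt ρ (ξ (e d)) s) ∈ K.map κ
      rw [hκd, he]
      exact hCs _ hd
    have hYR : Y.comap η ≤ (pairRad τ g (K.map κ)).subgroupOf P' := fun d hd => by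
      refine (hc.mem_pairRad_iff hg hK₀ d.2).2 fun p hp => ?_
      obtain ⟨a, ha, haQ⟩ := SetLike.not_le_iff_exists.1 hc.frameW_not_le
      obtain ⟨w, rfl⟩ := hWκ ha
      obtain ⟨y, hy, hz⟩ := hsurj _ (hκF w) haQ p hp
      obtain ⟨u, rfl⟩ := hP'r hy
      set q := delt ρ (ξ u) w with hq
      have hqP : q ∈ P := hflag.step₁ _ (mem_map_of_mem ξ (mem_sup_right hy)) w
      have hκq : κ q = ⁅κ w, τ u⁆⁻¹ := by rw [hq, hκd, commutatorElement_inv]
      have hcomm := Subgroup.mem_center_iff.1 (hc.pairZ_le_center hg hz)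
      have hsw : ⁅(d : G), p⁆ = ⁅(d : G), κ q⁆ := by
        have hq2 : (κ q)⁻¹ = κ q := inv_eq_of_mul_eq_one_right (hc.frameF_sq _ (hκF q))
        have hp' : p = κ q * (⁅κ w, τ u⁆⁻¹ * p) := by
          conv_rhs => rw [← hq2, hκq, inv_inv, mul_inv_cancel_left]
        rw [hp']
        set z := ⁅κ w, τ u⁆⁻¹ * p
        simp only [commutatorElement_def, mul_inv_rev]
        calc (d : G) * (κ q * z) * (d : G)⁻¹ * (z⁻¹ * (κ q)⁻¹)
            = d * κ q * (z * (d : G)⁻¹) * (z⁻¹ * (κ q)⁻¹) := by group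
          _ = d * κ q * ((d : G)⁻¹ * z) * (z⁻¹ * (κ q)⁻¹) := by rw [hcomm]
          _ = _ := by group
      rw [hsw]
      have h := (hd : η d ∈ Y).2.2 q hqP
      refine ⟨_, h, ?_⟩
      show κ (delt ρ (ξ (e d)) q) = _
      rw [hκd, he]
    have hYC : Y ≤ Cs := fun y hy =>
      ⟨hy.1, relFix_zpowers hy.2.1 (hy.2.2 s hs)⟩
    have hi : P.index ≤ (Cfsg.pCore 2 G).relIndex (frameF τ) := by
      rw [hPdef, index_comap]
      refine relIndex_le_of_le_right ?_ index_ne_zero_of_finite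
      rintro _ ⟨w, rfl⟩
      exact hκF w
    have hle : (pairRad τ g (K.map κ)).relIndex C ≤ Y.relIndex Cs := by
      have e1 : (pairRad τ g (K.map κ)).relIndex C =
          ((pairRad τ g (K.map κ)).subgroupOf P').relIndex (C.subgroupOf P') := by
        rw [subgroupOf, subgroupOf, relIndex_comap,
          map_comap_eq_self (by rw [Subgroup.range_subtype]; exact hCP)]
      rw [e1]
      refine (Nat.le_of_dvd (Nat.pos_of_ne_zero index_ne_zero_of_finite)
        (relIndex_dvd_of_le_left _ hYR)).trans ?_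
      refine (relIndex_le_of_le_right hCle index_ne_zero_of_finite).trans (le_of_eq ?_)
      rw [relIndex_comap, map_comap_eq_self (inf_le_left.trans hXη)]
    calc P.index ^ 2 * Nat.card Y ≤ Y.relIndex Cs * Nat.card Y := by
          refine Nat.mul_le_mul_right _ ?_
          rw [pow_two]
          exact (Nat.mul_le_mul hi hi).trans (hbd.trans hle)
      _ = Nat.card Cs := by rw [mul_comm, card_mul_relIndex' hYC]
  · refine le_setFix ?_
    rintro _ ⟨_, ⟨s, rfl⟩, rfl⟩ w hw
    show ((ρ (σ (τ' s)) w : N) : G') ∈ U.map τ'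
    rw [hact]
    haveI := hc.safe.good.normal
    exact (Subgroup.mem_normalizer_iff.1 (range_le_normalizer_map τ' U ⟨s, rfl⟩) _).1 hw
  · refine transl_le ?_
    rintro _ ⟨m, hm, rfl⟩ w hw
    obtain ⟨t, -, ht, htc⟩ := hCc _
      ((Subgroup.mem_normalizer_iff.1 (hMC hm) _).1 (hUC hw))
    show κ (ρ (σ m) w) ∈ center G
    rw [show κ (ρ (σ m) w) = τ t from congrArg τ (hιt _ t (by rw [hact]; exact ht))]
    exact htc
  · set D := transl ρ ⊤ ((U.map τ').subgroupOf N) with hD
    refine top_le_iff.1 fun w _ => ?_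
    haveI hDm : (D.map N.subtype).Normal := by
      refine ⟨?_⟩
      rintro _ ⟨v, hv, rfl⟩ y
      exact ⟨_, (le_setFix_transl ⊤ _ (mem_top (σ y))).1 v hv, hact y v⟩
    have hle : N ≤ D.map N.subtype := normalClosure_le_normal fun y hy =>
      ⟨⟨y, hUN hy⟩, le_transl _ _ hy, rfl⟩
    obtain ⟨v, hv, hvw⟩ := hle w.2
    rwa [← Subtype.ext hvw]
  · obtain ⟨x, hx, p, ⟨hp, hpQ⟩, hne⟩ := hc.exists_comm_ne hg
    obtain ⟨t, rfl⟩ := hP'r hx
    obtain ⟨w, rfl⟩ := hWκ hp
    exact ⟨ξ t, mem_map_of_mem ξ (mem_sup_right hx), w, hpQ, fun e => hne (by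
      rw [← hκd, e, map_one])⟩

end Stellmacher

end CfsgLib.FourFree
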