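import Cfsg.Agent.Lib.FourFree.Stellmacher.Pair

/-!
# Overgroups of `O²` in a configuration

An overgroup of `O²(G)` in a member is a member.  Hence in a configuration `G = O²(G) W` and
`G' = O²(G') f(T)`; in particular what is centralized by `O²(G)` and `W` is central in `G`.
-/

set_option autoImplicit false
set_option linter.style.haveILetI false

open Subgroup
open scoped commutatorElement

namespace CfsgLib.FourFree.Stellmacher

universe u

/-- An overgroup of `O²` in a constrained group is constrained. -/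
theorem constrained_of_residual_le {G : Type u} [Group G] [Finite G]
    (hcon : centralizer (Cfsg.pCore 2 G : Set G) ≤ Cfsg.pCore 2 G) {K : Subgroup G}
    (hK : Cfsg.pResidual 2 G ≤ K) :
    centralizer (Cfsg.pCore 2 K : Set K) ≤ Cfsg.pCore 2 K := by
  haveI : Fact (Nat.Prime 2) := ⟨Nat.prime_two⟩
  haveI hQn : (Cfsg.pCore 2 G).Normal := Subgroup.sSup_normal _ fun N hN => hN.1
  haveI hRn : (Cfsg.pResidual 2 G).Normal := CfsgLib.Fusion.pResidual_normal
  haveI hKn : (Cfsg.pCore 2 K).Normal := Subgroup.sSup_normal _ fun N hN => hN.1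
  have hQK : (Cfsg.pCore 2 G).subgroupOf K ≤ Cfsg.pCore 2 K := by
    refine CfsgLib.PGroup.le_pCore inferInstance ?_
    exact (CfsgLib.PGroup.isPGroup_pCore 2 G).comap_of_injective K.subtype K.subtype_injective
  refine CfsgLib.PGroup.le_pCore inferInstance fun l => ?_
  obtain ⟨e, m, hm, hem⟩ := Nat.exists_eq_two_pow_mul_odd (orderOf_pos ((l : K) : G)).ne'
  refine ⟨e, Subtype.ext (Subtype.ext ?_)⟩
  show ((l : K) : G) ^ 2 ^ e = 1
  set d := ((l : K) : G) ^ 2 ^ e with hd
  have hdC : (⟨d, pow_mem (l : K).2 _⟩ : K) ∈ centralizer (Cfsg.pCore 2 K : Set K) :=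
    pow_mem l.2 _
  have hcop : Nat.Coprime (orderOf d) 2 := by
    refine Nat.Coprime.coprime_dvd_left (orderOf_dvd_of_pow_eq_one ?_) (Nat.coprime_two_right.2 hm)
    rw [hd, ← pow_mul, ← hem, pow_orderOf_eq_one]
  have hdR : d ∈ Cfsg.pResidual 2 G := CfsgLib.Fusion.mem_pResidual hcop
  have hdQ : d ∈ Cfsg.pCore 2 G := hcon (mem_centralizer_iff.2 fun q hq => by
    have h1 : ⁅d, q⁆ ∈ Cfsg.pCore 2 G := by
      rw [commutatorElement_def]
      exact mul_mem (hQn.conj_mem q hq d) (inv_mem hq)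
    have h2 : ⁅d, q⁆ ∈ K := hK (by
      rw [commutatorElement_def, mul_assoc d q, mul_assoc d (q * _)]
      exact mul_mem hdR (hRn.conj_mem _ (inv_mem hdR) q))
    obtain ⟨k, hk⟩ := (CfsgLib.PGroup.isPGroup_pCore 2 G) ⟨_, h1⟩
    have h3 := mem_centralizer_iff.1 hdC ⟨_, h2⟩ (hQK (mem_subgroupOf.2 h1))
    exact (coprime_fix hcop (congrArg Subtype.val hk)
      (show Commute d ⁅d, q⁆ from (congrArg Subtype.val h3).symm)).symm)
  obtain ⟨k, hk⟩ := (CfsgLib.PGroup.isPGroup_pCore 2 G) ⟨d, hdQ⟩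
  exact orderOf_eq_one_iff.1 (Nat.eq_one_of_dvd_coprimes (Nat.Coprime.pow_right k hcop)
    dvd_rfl (orderOf_dvd_of_pow_eq_one (congrArg Subtype.val hk)))

/-- An overgroup of `O²` in a member is a member. -/
theorem IsMember.restrict {S G : Type u} [Group S] [Group G] [Finite G] {τ : S →* G}
    (hm : IsMember G τ) {K : Subgroup G} (hK : Cfsg.pResidual 2 G ≤ K) :
    IsMember ↥K ((τ.comp (K.comap τ).subtype).codRestrict K fun s => s.2) := by
  haveI : Fact (Nat.Prime 2) := ⟨Nat.prime_two⟩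
  haveI hRn : (Cfsg.pResidual 2 G).Normal := CfsgLib.Fusion.pResidual_normal
  refine ⟨fun a b hab => Subtype.ext (hm.inj (congrArg Subtype.val hab)), ?_,
    fun hi => hm.free (CfsgLib.Fusion.involves_of_injective K.subtype K.subtype_injective hi),
    constrained_of_residual_le hm.constrained hK⟩
  obtain ⟨P, hP⟩ := hm.sylow
  set R := (P : Subgroup G) ⊓ K with hR
  have hRp : IsPGroup 2 R := P.2.to_le inf_le_left
  have hi : ¬ 2 ∣ R.relIndex K := by
    obtain ⟨T, hRT, hTK, hTp, hTi⟩ := CfsgLib.Fusion.exists_le_not_dvd_relIndex hRp inf_le_right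
    have hTN : T ⊓ Cfsg.pResidual 2 G ≤ (P : Subgroup G) ⊓ Cfsg.pResidual 2 G := by
      have hle : (P : Subgroup G) ⊓ Cfsg.pResidual 2 G ≤ T ⊓ Cfsg.pResidual 2 G :=
        le_inf ((inf_le_inf_left _ hK).trans hRT) inf_le_right
      obtain ⟨n, hn⟩ := (hTp.to_le (inf_le_left : T ⊓ Cfsg.pResidual 2 G ≤ T)).exists_card_eq
      obtain ⟨j, -, hj⟩ := (Nat.dvd_prime_pow Nat.prime_two).1
        (hn ▸ relIndex_dvd_card ((P : Subgroup G) ⊓ Cfsg.pResidual 2 G) (T ⊓ Cfsg.pResidual 2 G))
      rcases j with _ | j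
      · exact relIndex_eq_one.1 (by rw [hj, pow_zero])
      · exfalso
        refine CfsgLib.Fusion.not_dvd_relIndex_inf_of_normal P (Cfsg.pResidual 2 G) ?_
        rw [← relIndex_mul_relIndex _ _ _ hle inf_le_right, hj]
        exact (dvd_pow_self 2 j.succ_ne_zero).mul_right _
    have hTR : T ≤ R := fun t ht => by
      have htop := CfsgLib.Fusion.pResidual_sup_sylow (p := 2) P
      obtain ⟨o, ho, p, hp, hop⟩ := Subgroup.mem_sup_of_normal_left.1 (htop.ge (mem_top t))
      have hpK : p ∈ K := by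
        rw [← hop] at ht
        exact (mul_mem_cancel_left (hK ho)).1 (hTK ht)
      have hpT : p ∈ T := hRT ⟨hp, hpK⟩
      have hoT : o ∈ T := by rw [← hop] at ht; exact (mul_mem_cancel_right hpT).1 ht
      rw [← hop]
      exact ⟨mul_mem (hTN ⟨hoT, ho⟩).1 hp, mul_mem (hK ho) hpK⟩
    rwa [le_antisymm hTR hRT] at hTi
  refine ⟨(hRp.of_equiv (Subgroup.subgroupOfEquivOfLe (inf_le_right : R ≤ K)).symm).toSylow hi, ?_⟩
  show R.subgroupOf K = _
  ext x
  rw [mem_subgroupOf, hR, mem_inf, hP]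
  constructor
  · rintro ⟨⟨s, hs⟩, -⟩
    exact ⟨⟨s, show τ s ∈ K from hs ▸ x.2⟩, Subtype.ext hs⟩
  · rintro ⟨s, rfl⟩
    exact ⟨⟨_, rfl⟩, s.2⟩

section config

variable {S T G G' : Type u} [Group S] [Group T] [Group G] [Group G'] [Finite T] [Finite G]
  {f : T →* S} {τ : T →* G} {τ' : S →* G'} {U : Subgroup S}
  (hc : HConfig S T G G' f τ τ' U)

include hc

/-- `G = O²(G) W`. -/
theorem HConfig.residual_sup_span :
    Cfsg.pResidual 2 G ⊔ ((spanOf τ' U).comap f).map τ = ⊤ := by
  haveI : Fact (Nat.Prime 2) := ⟨Nat.prime_two⟩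
  haveI hRn : (Cfsg.pResidual 2 G).Normal := CfsgLib.Fusion.pResidual_normal
  haveI hWn : ((spanOf τ' U).comap f).Normal := by
    haveI := hc.span_good.normal
    infer_instance
  set K := Cfsg.pResidual 2 G ⊔ ((spanOf τ' U).comap f).map τ with hKdef
  obtain ⟨P, hP⟩ := hc.member.sylow
  haveI hKn : K.Normal := by
    refine Subgroup.normalizer_eq_top_iff.1 (top_le_iff.1 ?_)
    refine (CfsgLib.Fusion.pResidual_sup_sylow (p := 2) P).ge.trans
      (sup_le (le_sup_left.trans le_normalizer) ?_)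
    intro x hx
    refine CfsgLib.Fusion.conjBy_eq_iff.1 (CfsgLib.Fusion.conjBy_eq_of_le ?_)
    rw [hKdef, CfsgLib.Fusion.conjBy, Subgroup.map_sup]
    refine sup_le_sup (le_of_eq ?_) (le_of_eq (CfsgLib.Fusion.conjBy_eq_iff.2
      (range_le_normalizer_map τ _ (hP ▸ hx))))
    exact CfsgLib.Fusion.conjBy_eq_iff.2 (by rw [normalizer_eq_top]; exact mem_top x)
  by_contra hne
  have hlt : Nat.card K < Nat.card G :=
    (CfsgLib.Fusion.card_lt_card_of_lt (lt_top_iff_ne_top.2 hne)).trans_eq Subgroup.card_top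
  let f' : ↥(K.comap τ) →* S := f.comp (K.comap τ).subtype
  have hle : spanOf τ' U ≤ f'.range := fun w hw => by
    obtain ⟨t, rfl⟩ := hc.span_range hw
    exact ⟨⟨t, mem_sup_right (mem_map_of_mem τ (show t ∈ (spanOf τ' U).comap f from hw))⟩, rfl⟩
  have h1 := hc.span_safe.le_core _ f' (hc.inj.comp Subtype.val_injective) hle _ _
    (hc.member.restrict (K := K) le_sup_left) hlt
  refine hc.not_le ?_
  haveI : (Cfsg.pCore 2 K).Characteristic := CfsgLib.Coprime.pCore_characteristic 2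
  have h2 : (Cfsg.pCore 2 K).map K.subtype ≤ Cfsg.pCore 2 G :=
    CfsgLib.PGroup.le_pCore ConjAct.normal_of_characteristic_of_normal
      ((CfsgLib.PGroup.isPGroup_pCore 2 K).map _)
  rintro _ ⟨t, ht, rfl⟩
  have htK : t ∈ K.comap τ := mem_sup_right (mem_map_of_mem τ ht)
  exact h2 ⟨_, h1 ⟨⟨t, htK⟩, ht, rfl⟩, rfl⟩

/-- An element centralized by `O²(G)` and by `W` is central. -/
theorem HConfig.mem_center_of {z : G} (h1 : z ∈ centralizer (Cfsg.pResidual 2 G : Set G))
    (h2 : z ∈ centralizer (((spanOf τ' U).comap f).map τ : Set G)) : z ∈ center G := by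
  refine Subgroup.mem_center_iff.2 fun g => ?_
  have : Cfsg.pResidual 2 G ⊔ ((spanOf τ' U).comap f).map τ ≤ centralizer ({z} : Set G) :=
    sup_le (fun x hx => mem_centralizer_singleton_iff.2 (mem_centralizer_iff.1 h1 x hx))
      fun x hx => mem_centralizer_singleton_iff.2 (mem_centralizer_iff.1 h2 x hx)
  exact mem_centralizer_singleton_iff.1 (this (hc.residual_sup_span.ge (mem_top g)))

/-- `G' = O²(G') f(T)`. -/
theorem HConfig.residual_sup_image [Finite S] [Finite G'] :
    Cfsg.pResidual 2 G' ⊔ f.range.map τ' = ⊤ := by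
  haveI : Fact (Nat.Prime 2) := ⟨Nat.prime_two⟩
  haveI hRn : (Cfsg.pResidual 2 G').Normal := CfsgLib.Fusion.pResidual_normal
  set K := Cfsg.pResidual 2 G' ⊔ f.range.map τ' with hKdef
  by_contra hne
  obtain ⟨m, hGm, -, hUm, hspan⟩ := hc.least'
  haveI hUn := hUm.good.normal
  set R := K.comap τ' with hR
  have hfR : ∀ t, f t ∈ R := fun t => mem_sup_right (mem_map_of_mem τ' (⟨t, rfl⟩ : f t ∈ f.range))
  have hUR : U ≤ R := fun x hx => by
    obtain ⟨t, rfl⟩ := hc.span_range (le_spanOf τ' U hx)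
    exact hfR t
  have hlt : Nat.card K < Nat.card G' :=
    (CfsgLib.Fusion.card_lt_card_of_lt (lt_top_iff_ne_top.2 hne)).trans_eq Subgroup.card_top
  set σ := (τ'.comp R.subtype).codRestrict K fun s => s.2 with hσ
  have h1 := hspan R K σ (hc.member'.restrict (K := K) le_sup_left) hlt (U.comap R.subtype)
    (hUm.comap R.subtype_injective (by rwa [Subgroup.range_subtype]))
  -- the span is the same
  have he : (spanOf τ' U).comap R.subtype = spanOf σ (U.comap R.subtype) := by
    set N := (normalClosure ((U.comap R.subtype).map σ : Set K)).map K.subtype with hN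
    have hsub : (U.comap R.subtype).map σ = (U.map τ').subgroupOf K := by
      ext x
      constructor
      · rintro ⟨s, hs, rfl⟩
        exact ⟨s, hs, rfl⟩
      · rintro ⟨s, hs, hsx⟩
        exact ⟨⟨s, hUR hs⟩, hs, Subtype.ext hsx⟩
    obtain ⟨P, hP⟩ := hc.member'.sylow
    have hNle : normalClosure (U.map τ' : Set G') ≤ N := by
      refine (closure_le _).2 fun x hx => ?_
      obtain ⟨a, ha, hax⟩ := Group.mem_conjugatesOfSet_iff.1 hx
      obtain ⟨g, rfl⟩ := isConj_iff.1 hax
      obtain ⟨o, ho, p, hp, rfl⟩ := Subgroup.mem_sup_of_normal_left.1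
        ((CfsgLib.Fusion.pResidual_sup_sylow (p := 2) P).ge (mem_top g))
      have hpa : p * a * p⁻¹ ∈ U.map τ' :=
        (Subgroup.mem_normalizer_iff.1 (range_le_normalizer_map τ' U (hP ▸ hp)) a).1 ha
      have hoK : o ∈ K := mem_sup_left ho
      have haK : p * a * p⁻¹ ∈ K := by
        obtain ⟨s, hs, hsa⟩ := hpa
        exact hsa ▸ hUR hs
      refine ⟨⟨o, hoK⟩ * ⟨_, haK⟩ * ⟨o, hoK⟩⁻¹,
        normalClosure_normal.conj_mem _ (subset_normalClosure ?_) _, ?_⟩
      · rw [hsub]; exact hpa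
      · simp [mul_assoc]
    have hNge : N ≤ normalClosure (U.map τ' : Set G') := map_le_iff_le_comap.2 <|
      normalClosure_le_normal fun x hx => subset_normalClosure (by rw [hsub] at hx; exact hx)
    ext s
    show τ' (s : S) ∈ normalClosure (U.map τ' : Set G') ↔ σ s ∈ normalClosure _
    exact ⟨fun h => by
      obtain ⟨k, hk, hke⟩ := hNle h
      rwa [show σ s = k from Subtype.ext hke.symm],
      fun h => hNge ⟨_, h, rfl⟩⟩
  rw [← he] at h1
  have h2 := (h1.comap (f := f.codRestrict R hfR) (fun a b hab => hc.inj (congrArg Subtype.val hab))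
    (fun x hx => by
      obtain ⟨t, ht⟩ := hc.span_range (show (x : S) ∈ spanOf τ' U from hx)
      exact ⟨t, Subtype.ext ht⟩)).le_core_self hc.member hGm
  exact hc.not_le h2

end config

end CfsgLib.FourFree.Stellmacher
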