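import Cfsg.Agent.Lib.FourFree.Config.Nondeg
import Cfsg.Agent.Lib.FourFree.NoOffender
import Cfsg.Agent.Lib.Fusion.Residual

/-!
# The module of a configuration

`Mod` collects what a configuration leaves on the span `W` of `U`: a group `H` with a Sylow
`2`-subgroup `S`, the image `B` of `T`, a strongly embedded overgroup `M` of `B`, and the cubic
flag `[W, X] ≤ P`, `[P, X] ≤ Z` of the pair with `B` fixing `Z`.
-/

set_option autoImplicit false
set_option linter.style.haveILetI false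
set_option linter.unusedSectionVars false

open Subgroup
open CfsgLib.Fusion (conjBy mem_conjBy conj_mem_conjBy conjBy_le_iff conjBy_eq_iff conjBy_mono
  conjBy_conjBy conjBy_inv_conjBy)
open CfsgLib.CFun (delt fixOf mem_fixOf delt_apply delt_mul delt_mul_left)

namespace CfsgLib.FourFree

universe u v

variable {H : Type u} {W : Type v} [Group H] [CommGroup W]

/-- The elements fixing `K` and centralizing `P` modulo `K`. -/
def relFix (ρ : H →* MulAut W) (K P : Subgroup W) : Subgroup H where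
  carrier := {g | (∀ z ∈ K, ρ g z = z) ∧ ∀ p ∈ P, delt ρ g p ∈ K}
  one_mem' := ⟨fun z _ => by simp, fun p _ => by simp [delt]⟩
  mul_mem' := fun {a b} ha hb => ⟨fun z hz => by
      rw [map_mul, MulAut.mul_apply, hb.1 z hz, ha.1 z hz],
    fun p hp => by
      rw [show delt ρ (a * b) p = ρ a (delt ρ b p) * delt ρ a p by
        rw [delt, delt, delt, map_mul, MulAut.mul_apply, map_div, div_mul_div_cancel],
        ha.1 _ (hb.2 p hp)]
      exact mul_mem (hb.2 p hp) (ha.2 p hp)⟩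
  inv_mem' := fun {a} ha => by
    have hfix : ∀ z ∈ K, ρ a⁻¹ z = z := fun z hz => by
      conv_lhs => rw [← ha.1 z hz]
      exact apply_inv_apply a z
    refine ⟨hfix, fun p hp => ?_⟩
    have h := inv_mem (ha.2 p hp)
    rw [← hfix _ h] at h
    convert h using 1
    rw [delt, delt, inv_div, map_div, apply_inv_apply]

theorem mem_relFix {ρ : H →* MulAut W} {K P : Subgroup W} {g : H} :
    g ∈ relFix ρ K P ↔ (∀ z ∈ K, ρ g z = z) ∧ ∀ p ∈ P, delt ρ g p ∈ K := Iff.rfl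

/-- A relative stabilizer of invariant subgroups is normal. -/
theorem relFix_normal {ρ : H →* MulAut W} {K P : Subgroup W} (hK : ∀ g, ∀ z ∈ K, ρ g z ∈ K)
    (hP : ∀ g, ∀ p ∈ P, ρ g p ∈ P) : (relFix ρ K P).Normal := by
  refine ⟨fun a ha g => ⟨fun z hz => ?_, fun p hp => ?_⟩⟩
  · rw [map_mul, map_mul, MulAut.mul_apply, MulAut.mul_apply, ha.1 _ (hK g⁻¹ z hz),
      apply_apply_inv]
  · have h := hK g _ (ha.2 _ (hP g⁻¹ p hp))
    convert h using 1
    rw [delt, delt, map_div, map_mul, map_mul, MulAut.mul_apply, MulAut.mul_apply,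
      apply_apply_inv]

/-- An elementary `2`-group: the commutator with `a` is multiplicative in `P`. -/
theorem relFix_zpowers {ρ : H →* MulAut W} {K : Subgroup W} {g : H} {s : W}
    (hK : ∀ z ∈ K, ρ g z = z) (hs : delt ρ g s ∈ K) : g ∈ relFix ρ K (zpowers s) := by
  refine ⟨hK, fun p hp => ?_⟩
  obtain ⟨n, rfl⟩ := mem_zpowers_iff.1 hp
  rw [show delt ρ g (s ^ n) = delt ρ g s ^ n by rw [delt, delt, map_zpow, div_zpow]]
  exact zpow_mem hs n

/-- A normal subgroup with a `2`-group as supplement contains the `2`-residual. -/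
theorem residual_le_of_sup {N R : Subgroup H} [N.Normal] (hR : IsPGroup 2 R)
    (htop : N ⊔ R = ⊤) : Cfsg.pResidual 2 H ≤ N := by
  set q := QuotientGroup.mk' N with hq
  refine CfsgLib.Fusion.pResidual_le_of_isPGroup_quotient N ?_
  have e : R.map q = ⊤ := by
    rw [← map_top_of_surjective q (QuotientGroup.mk'_surjective N), ← htop, Subgroup.map_sup,
      (Subgroup.map_eq_bot_iff _).2 (le_of_eq (QuotientGroup.ker_mk' N).symm), bot_sup_eq]
  exact (e ▸ hR.map q).of_equiv Subgroup.topEquiv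

/-- The module of a configuration. -/
structure Mod (ρ : H →* MulAut W) (S B M Q X : Subgroup H) (U Z P : Subgroup W) : Prop where
  flag : Flag ρ X Z P
  hg : HG H
  sylow : ∃ T : Sylow 2 H, (T : Subgroup H) = S
  B_le : B ≤ S
  S_le : S ≤ M
  M_ne : M ≠ ⊤
  Q_normal : Q.Normal
  Q_le : Q ≤ S
  X_le : X ≤ B
  B_norm : B ≤ normalizer (X : Set H)
  B_inv : B ≤ setFix ρ P
  fixB : ∀ b ∈ B, ∀ z ∈ Z, ρ b z = z
  fixZ : fixOf ρ B ≤ Z
  overB : ∀ K : Subgroup H, K ≠ ⊤ → B ⊔ Q ≤ K → K ≤ M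
  closed : ∀ g : H, conjBy g B ≤ M → g ∈ M
  gen : Cfsg.pResidual 2 H ⊔ B = ⊤
  Z_le : Z ≤ P
  P_ne : P ≠ ⊤
  surj : ∀ a, a ∉ P → ∀ p ∈ P, ∃ x ∈ X, delt ρ x a / p ∈ Z
  bound : ∀ K : Subgroup W, K ≤ Z → ∀ s ∈ P, (∃ x ∈ X, delt ρ x s ∉ K) →
    P.index ^ 2 * Nat.card (X ⊓ relFix ρ K P : Subgroup H) ≤
      Nat.card (X ⊓ relFix ρ K (zpowers s) : Subgroup H)
  U_inv : S ≤ setFix ρ U
  U_le : transl ρ M U ≤ Z
  U_gen : transl ρ ⊤ U = ⊤
  ne : ∃ x ∈ X, ∃ p ∈ P, delt ρ x p ≠ 1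

variable {ρ : H →* MulAut W} {S B M Q X : Subgroup H} {U Z P : Subgroup W}
  [Finite H] [Finite W] (hm : Mod ρ S B M Q X U Z P)

include hm

theorem Mod.B_le_M : B ≤ M := hm.B_le.trans hm.S_le

theorem Mod.Q_le_M : Q ≤ M := hm.Q_le.trans hm.S_le

theorem Mod.S_two : IsPGroup 2 S := by
  obtain ⟨T, hT⟩ := hm.sylow
  exact hT ▸ T.2

/-- A normal subgroup containing `B` is everything. -/
theorem Mod.eq_top_of_normal {N : Subgroup H} (hN : N.Normal) (hBN : B ≤ N) : N = ⊤ := by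
  haveI : Fact (Nat.Prime 2) := ⟨Nat.prime_two⟩
  haveI := hm.Q_normal
  haveI := hN
  have htop : N ⊔ Q = ⊤ := by
    by_contra hne
    have hle := hm.overB _ hne (sup_le_sup_right hBN Q)
    refine hm.M_ne ((Subgroup.eq_top_iff' M).2 fun g => hm.closed g ?_)
    exact (conjBy_le_iff.2 fun b hb => hle (mem_sup_left (hN.conj_mem b (hBN hb) g)))
  refine top_le_iff.1 (hm.gen.ge.trans (sup_le ?_ hBN))
  exact residual_le_of_sup (hm.S_two.to_le hm.Q_le) htop

/-- An invariant subgroup of `Z` is fixed. -/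
theorem Mod.fix_of_invariant {N : Subgroup W} (hN : ∀ g, ∀ z ∈ N, ρ g z ∈ N) (hle : N ≤ Z)
    (g : H) {z : W} (hz : z ∈ N) : ρ g z = z := by
  have hn : (ptFix ρ N).Normal := ⟨fun a ha y =>
    conj_mem_ptFix (le_setFix (H := ⊤) (fun g _ => hN g) (mem_top y)) ha⟩
  have h := hm.eq_top_of_normal hn fun b hb z hz => hm.fixB b hb z (hle hz)
  exact (h ▸ mem_top g : g ∈ ptFix ρ N) z hz

/-- An element of `⟨U ^ M⟩` fixed by a conjugate of `B` from outside `M` is fixed. -/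
theorem Mod.fix_of_transl {w : W} (hw : w ∈ transl ρ M U) {k : H} (hk : k ∉ M)
    (hfix : ∀ b ∈ B, ρ (k * b * k⁻¹) w = w) (g : H) : ρ g w = w := by
  haveI := hm.Q_normal
  set C := ptFix ρ (zpowers w) with hC
  have hmem : ∀ c, ρ c w = w → c ∈ C := fun c hc u hu => by
    obtain ⟨n, rfl⟩ := mem_zpowers_iff.1 hu
    rw [map_zpow, hc]
  have htop : C ⊔ Q = ⊤ := by
    by_contra hne
    refine hk (hm.closed k (conjBy_le_iff.2 fun b hb => hm.overB _ hne (sup_le_sup_right ?_ Q)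
      (mem_sup_left (hmem _ (hfix b hb)))))
    exact fun b hb => hmem b (hm.fixB b hb w (hm.U_le hw))
  have horb : ∀ y, ρ y w ∈ transl ρ M U := by
    intro y
    obtain ⟨q, hq, c, hc, rfl⟩ := Subgroup.mem_sup_of_normal_left.1
      (show y ∈ Q ⊔ C by rw [sup_comm, htop]; exact mem_top y)
    rw [map_mul, MulAut.mul_apply, hc w (mem_zpowers w)]
    exact (le_setFix_transl M U (hm.Q_le_M hq)).1 w hw
  refine hm.fix_of_invariant (N := transl ρ ⊤ (zpowers w))
    (fun g z hz => (le_setFix_transl ⊤ _ (mem_top g)).1 z hz)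
    ((transl_le fun y _ z hz => ?_).trans hm.U_le) g (le_transl _ _ (mem_zpowers w))
  obtain ⟨n, rfl⟩ := mem_zpowers_iff.1 hz
  rw [map_zpow]
  exact zpow_mem (horb y) n

/-- A translate of `U` outside `P` comes from outside `M`. -/
theorem Mod.not_mem_of_apply {h : H} {u : W} (hu : u ∈ U) (hhu : ρ h u ∉ P) : h ∉ M :=
  fun hh => hhu (hm.Z_le (hm.U_le (mem_transl hh hu)))

/-- Some element of `U` outside `J` is fixed by `S` modulo `J`. -/
theorem Mod.exists_fixed_mod {J : Subgroup W} (hJ : ∀ g, ∀ z ∈ J, ρ g z ∈ J) (hJP : J ≤ P) :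
    ∃ u ∈ U, u ∉ J ∧ ∀ s ∈ S, delt ρ s u ∈ J := by
  obtain ⟨W', _, _, q, G', _, _, π, ρ', hq, hker, hπ, -, hc⟩ :=
    exists_section (ρ := ρ.comp S.subtype) (P := U) (N := J)
      (fun g u hu => (hm.U_inv g.2).1 u hu) (fun g z hz => hJ _ z hz)
  have h2 : ∀ x : W', x * x = 1 := fun x => by
    obtain ⟨u, rfl⟩ := hq x
    rw [← map_mul, show u * u = 1 from Subtype.ext (hm.flag.two u), map_one]
  have hne : (⊤ : Subgroup W') ≠ ⊥ := by
    intro e
    have hUJ : U ≤ J := fun u hu => (hker ⟨u, hu⟩).1 (mem_bot.1 (e ▸ mem_top (q ⟨u, hu⟩)))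
    exact hm.P_ne (top_le_iff.1 (hm.U_gen.ge.trans
      (transl_le fun g _ u hu => hJP (hJ g u (hUJ hu)))))
  obtain ⟨x, -, hx1, hx⟩ := exists_fixed (ρ := ρ') h2
    (X := (⊤ : Subgroup ↥S).map π)
    ((hm.S_two.of_equiv Subgroup.topEquiv.symm).map π) hne (le_setFix fun g _ u _ => mem_top _)
  obtain ⟨u, rfl⟩ := hq x
  refine ⟨u, u.2, fun h => hx1 ((hker u).2 h), fun s hs => ?_⟩
  have h := mem_fixOf.1 hx _ (mem_map_of_mem π (mem_top (⟨s, hs⟩ : S)))
  rw [hc] at h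
  have := (hker (⟨_, (hm.U_inv hs).1 u u.2⟩ / u)).1 (by rw [map_div]; exact div_eq_one.2 h)
  exact this

/-- `[P, X]` is covered by the commutators of one element outside `P`. -/
theorem Mod.exists_delt_eq {a : W} (ha : a ∉ P) {y : H} (hy : y ∈ X) {p : W} (hp : p ∈ P) :
    ∃ x ∈ X, delt ρ y (delt ρ x a) = delt ρ y p := by
  obtain ⟨x, hx, hz⟩ := hm.surj a ha p hp
  refine ⟨x, hx, div_eq_one.1 ?_⟩
  rw [show delt ρ y (delt ρ x a) / delt ρ y p = delt ρ y (delt ρ x a / p) by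
    simp only [delt, map_div]; exact div_div_div_comm _ _ _ _]
  exact div_eq_one.2 (hm.flag.fix y hy _ hz)

end CfsgLib.FourFree
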