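import Cfsg.Agent.Lib.FourFree.Config.Triangle
import Cfsg.Agent.Lib.FourFree.Config.Degree

/-!
# The cubic configuration with non-degenerate commutator forms does not exist

`X` acts on `W` with `[W, X] ≤ P`, `[P, X] ≤ Z`, `[Z, X] = 1`, no vector outside `P` has a non-trivial
commutator in `Z`, every vector of `P - Z` has all of `Z` as commutators, and
`|W : P| |Z| < |X|`.  By Warning's bound some `z ∈ Z` and conjugate `x'` give `s = [z, x']` in
`P - Z`, and some `x ∈ X` has `[s, x] = z`: a triangle.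
-/

set_option autoImplicit false
set_option linter.style.haveILetI false

open Subgroup
open CfsgLib.CFun (delt delt_apply delt_mul delt_mul_left)

namespace CfsgLib.FourFree

universe u v

variable {G : Type u} {W : Type v} [Group G] [CommGroup W]

/-- The cubic configuration `[W, X] ≤ P`, `[P, X] ≤ Z`, `[Z, X] = 1`. -/
structure Flag (ρ : G →* MulAut W) (X : Subgroup G) (Z P : Subgroup W) : Prop where
  two : ∀ w : W, w * w = 1
  fix : ∀ x ∈ X, ∀ z ∈ Z, ρ x z = z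
  step₁ : ∀ x ∈ X, ∀ w, delt ρ x w ∈ P
  step₂ : ∀ x ∈ X, ∀ p ∈ P, delt ρ x p ∈ Z
  inj : ∀ w, w ∉ P → ∀ x ∈ X, delt ρ x w ∈ Z → x = 1

variable {ρ : G →* MulAut W} {X : Subgroup G} {Z P : Subgroup W}

/-- Commutators with vectors of `P` are multiplicative in `X`. -/
theorem Flag.delt_mul_P (hs : Flag ρ X Z P) {x y : G} (hx : x ∈ X) (hy : y ∈ X) {p : W}
    (hp : p ∈ P) : delt ρ (x * y) p = delt ρ x p * delt ρ y p := by
  rw [delt_mul ρ, hs.fix x hx _ (hs.step₂ y hy p hp)]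

theorem Flag.delt_mul_W (hs : Flag ρ X Z P) {x y : G} (w : W) :
    delt ρ (x * y) w = delt ρ x w * delt ρ y w * delt ρ x (delt ρ y w) := by
  rw [delt_mul ρ, delt_apply ρ x (delt ρ y w), mul_comm (delt ρ x (delt ρ y w)), ← mul_assoc]

theorem Flag.sq (hs : Flag ρ X Z P) (hP : P ≠ ⊤) {x : G} (hx : x ∈ X) : x * x = 1 := by
  obtain ⟨w, hw⟩ := not_forall.1 fun h => hP ((Subgroup.eq_top_iff' P).2 h)
  refine hs.inj w hw _ (mul_mem hx hx) ?_
  rw [hs.delt_mul_W, hs.two, one_mul]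
  exact hs.step₂ x hx _ (hs.step₁ x hx w)

theorem Flag.comm (hs : Flag ρ X Z P) (hP : P ≠ ⊤) {x y : G} (hx : x ∈ X) (hy : y ∈ X) :
    x * y = y * x := by
  have h1 := inv_eq_of_mul_eq_one_right (hs.sq hP hx)
  have h2 := inv_eq_of_mul_eq_one_right (hs.sq hP hy)
  have h3 := inv_eq_of_mul_eq_one_right (hs.sq hP (mul_mem hx hy))
  calc x * y = (x * y)⁻¹ := h3.symm
    _ = y * x := by rw [mul_inv_rev, h1, h2]

/-- If all vectors of `P - Z` have all of `Z` as commutators, so do all non-trivial elements of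
`X`, provided `|P : Z| ≤ |X|`. -/
theorem Flag.surj_dual [Finite G] [Finite W] (hs : Flag ρ X Z P) (hP : P ≠ ⊤)
    (hnd : ∀ s ∈ P, s ∉ Z → ∀ z ∈ Z, ∃ x ∈ X, delt ρ x s = z) {x : G} (hx : x ∈ X) (hx1 : x ≠ 1)
    {z : W} (hz : z ∈ Z) : ∃ p ∈ P, delt ρ x p = z := by
  obtain ⟨w, hw⟩ := not_forall.1 fun h => hP ((Subgroup.eq_top_iff' P).2 h)
  obtain ⟨y, hy, hyz⟩ := hnd _ (hs.step₁ x hx w) (fun h => hx1 (hs.inj w hw x hx h)) z hz
  refine ⟨delt ρ y w, hs.step₁ y hy w, ?_⟩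
  rw [CfsgLib.CFun.delt_comm ρ (hs.comm hP hx hy), hyz]

/-- Zeros: many `x ∈ X` have `[w, x]` mapped into `P` by `h`. -/
theorem Flag.card_le_zeros [Finite G] [Finite W] (hs : Flag ρ X Z P) (h : G) (w : W) :
    Nat.card X ≤ P.index * Nat.card ((Z.map (ρ h : W ≃* W).toMonoidHom).map (QuotientGroup.mk' P)) *
      Nat.card {x : X // ρ h (delt ρ (x : G) w) ∈ P} := by
  set R := (Z.map (ρ h : W ≃* W).toMonoidHom).map (QuotientGroup.mk' P) with hR
  have hY : ∀ y : W ⧸ P, y * y = 1 := fun y => by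
    induction y using QuotientGroup.induction_on with
    | _ v => rw [← QuotientGroup.mk_mul, hs.two, QuotientGroup.mk_one]
  set f : X → W ⧸ P := fun x => QuotientGroup.mk (ρ h (delt ρ (x : G) w)) with hf
  have hdev : ∀ x t : X, f (x * t) / (f x * f t) =
      QuotientGroup.mk (ρ h (delt ρ (x : G) (delt ρ (t : G) w))) := fun x t => by
    simp only [hf, Subgroup.coe_mul, hs.delt_mul_W, map_mul, QuotientGroup.mk_mul]
    rw [mul_div_cancel_left]
  have key := card_le_card_zeros hY f R (fun x t => by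
      rw [hdev]
      exact mem_map_of_mem _ (mem_map_of_mem _ (hs.step₂ _ x.2 _ (hs.step₁ _ t.2 w))))
    (fun x s t => by
      rw [hdev, hdev, hdev, ← QuotientGroup.mk_mul, ← map_mul, Subgroup.coe_mul,
        hs.delt_mul_P x.2 s.2 (hs.step₁ _ t.2 w)])
  refine key.trans (Nat.mul_le_mul le_rfl ?_)
  exact Nat.card_le_card_of_injective (fun x => ⟨x.1, (QuotientGroup.eq_one_iff _).1 x.2⟩)
    fun a b e => Subtype.ext (congrArg Subtype.val e :)

theorem card_map_mk_mul (A P : Subgroup W) [Finite W] :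
    Nat.card (A.map (QuotientGroup.mk' P)) * Nat.card (A ⊓ P : Subgroup W) = Nat.card A := by
  rw [← relIndex_ker, QuotientGroup.ker_mk', ← inf_relIndex_left A P, mul_comm,
    CfsgLib.CFun.card_mul_relIndex' inf_le_left]

/-- In a group with `HG` no `z ∈ Z` and conjugate `x'` give `[z, x'] ∈ P` with `z` among its
commutators. -/
theorem Flag.no_return [Finite G] (hs : Flag ρ X Z P) (hP : P ≠ ⊤) (hg : HG G) {h x y : G} {z : W}
    (hz : z ∈ Z) (hz1 : z ≠ 1) (hx : x ∈ X) (hy : y ∈ X) :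
    delt ρ y (ρ h (delt ρ x (ρ h⁻¹ z))) ≠ z := by
  intro he
  refine hg.no_linear_triangle ρ hs.two (b := h * x * h⁻¹) (c := y) (z := z)
    (w := ρ h (delt ρ x (ρ h⁻¹ z))) hz1 (hs.fix y hy z hz) ?_ ?_ he
  · have := CfsgLib.CFun.delt_self ρ (hs.sq hP hx) hs.two (ρ h⁻¹ z)
    rw [map_mul, map_mul, MulAut.mul_apply, MulAut.mul_apply, apply_inv_apply,
      div_eq_one.1 (show ρ x (delt ρ x (ρ h⁻¹ z)) / delt ρ x (ρ h⁻¹ z) = 1 from this)]
  · simp only [delt, map_div, map_mul, MulAut.mul_apply, apply_apply_inv]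

/-- The non-degenerate configuration does not exist. -/
theorem Flag.false_of_nondeg [Finite G] [Finite W] (hs : Flag ρ X Z P) (hg : HG G)
    (hnd : ∀ s ∈ P, s ∉ Z → ∀ z ∈ Z, ∃ x ∈ X, delt ρ x s = z)
    (hcount : P.index * Nat.card Z < Nat.card X) (hmove : ∃ h, ∃ z ∈ Z, ρ h z ∉ P) : False := by
  obtain ⟨h₀, z₀, hz₀, hz₀P⟩ := hmove
  have hP : P ≠ ⊤ := fun e => hz₀P (e ▸ mem_top _)
  let r : G → ℕ := fun h =>
    Nat.card ((Z.map (ρ h : W ≃* W).toMonoidHom).map (QuotientGroup.mk' P))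
  have hr1 : ∀ g, 1 < r g → ∃ z ∈ Z, ρ g z ∉ P := fun g hg1 => by
    by_contra hn
    push Not at hn
    have : (Z.map (ρ g : W ≃* W).toMonoidHom).map (QuotientGroup.mk' P) = ⊥ := by
      rw [Subgroup.map_eq_bot_iff, QuotientGroup.ker_mk']
      rintro _ ⟨z, hz, rfl⟩
      exact hn z hz
    simp only [r, this, card_bot] at hg1
    omega
  have hr0 : 1 < r h₀ := by
    refine (one_lt_card_iff_ne_bot _).2 fun e => hz₀P ?_
    rw [Subgroup.map_eq_bot_iff, QuotientGroup.ker_mk'] at e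
    exact e ⟨z₀, hz₀, rfl⟩
  obtain ⟨h, hle, z, hz, hzP⟩ : ∃ h, r h ≤ r h⁻¹ ∧ ∃ z ∈ Z, ρ h⁻¹ z ∉ P := by
    rcases le_or_gt (r h₀) (r h₀⁻¹) with hc | hc
    · exact ⟨h₀, hc, hr1 _ (hr0.trans_le hc)⟩
    · exact ⟨h₀⁻¹, by rw [inv_inv]; exact hc.le, by rw [inv_inv]; exact ⟨z₀, hz₀, hz₀P⟩⟩
  set w := ρ h⁻¹ z
  obtain ⟨x, hxP, hxZ⟩ : ∃ x : X, ρ h (delt ρ (x : G) w) ∈ P ∧ ρ h (delt ρ (x : G) w) ∉ Z := by
    by_contra hn
    push Not at hn
    set A := Z.map (ρ h⁻¹ : W ≃* W).toMonoidHom with hA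
    have hN : Nat.card {x : X // ρ h (delt ρ (x : G) w) ∈ P} ≤ Nat.card (A ⊓ P : Subgroup W) := by
      refine Nat.card_le_card_of_injective (fun x => ⟨delt ρ (x.1 : G) w,
        ⟨_, hn _ x.2, apply_inv_apply h _⟩, hs.step₁ _ x.1.2 w⟩) fun x y e => ?_
      have e' : delt ρ (x.1 : G) w = delt ρ (y.1 : G) w := congrArg Subtype.val e
      have h1 := hs.inj w hzP _ (mul_mem x.1.2 y.1.2) (by
        rw [hs.delt_mul_W, e', hs.two, one_mul]
        exact hs.step₂ _ x.1.2 _ (hs.step₁ _ y.1.2 w))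
      refine Subtype.ext (Subtype.ext ?_)
      rw [eq_inv_of_mul_eq_one_left h1, inv_eq_of_mul_eq_one_right (hs.sq hP y.1.2)]
    have h1 := hs.card_le_zeros h w
    have h2 : r h⁻¹ * Nat.card (A ⊓ P : Subgroup W) = Nat.card Z := by
      rw [show r h⁻¹ = Nat.card (A.map (QuotientGroup.mk' P)) from rfl, card_map_mk_mul]
      exact Subgroup.card_map_of_injective (ρ h⁻¹).injective
    have h3 : r h * Nat.card {x : X // ρ h (delt ρ (x : G) w) ∈ P} ≤ Nat.card Z :=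
      h2 ▸ Nat.mul_le_mul hle hN
    rw [mul_assoc] at h1
    exact absurd (h1.trans (Nat.mul_le_mul le_rfl h3)) (not_le.2 hcount)
  obtain ⟨y, hy, hyz⟩ := hnd _ hxP hxZ z hz
  refine hs.no_return hP hg hz (fun e => hzP ?_) x.2 hy hyz
  show ρ h⁻¹ z ∈ P
  rw [e, map_one]
  exact one_mem P

/-- The same from the coset bound `|W : P| ^ 2 |Z| ≤ |X|`. -/
theorem Flag.false_of_sq [Finite G] [Finite W] (hs : Flag ρ X Z P) (hg : HG G)
    (hnd : ∀ s ∈ P, s ∉ Z → ∀ z ∈ Z, ∃ x ∈ X, delt ρ x s = z)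
    (hsq : P.index * P.index * Nat.card Z ≤ Nat.card X) (hmove : ∃ h, ∃ z ∈ Z, ρ h z ∉ P) :
    False := by
  refine hs.false_of_nondeg hg hnd (lt_of_lt_of_le ?_ hsq) hmove
  obtain ⟨h, z, -, hz⟩ := hmove
  have h0 : P.index ≠ 0 := Subgroup.index_ne_zero_of_finite
  have h1 : P.index ≠ 1 := fun e => hz (Subgroup.index_eq_one.1 e ▸ mem_top _)
  rw [mul_assoc]
  exact lt_mul_left (Nat.mul_pos (Nat.pos_of_ne_zero h0) Nat.card_pos) (by omega)

end CfsgLib.FourFree
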