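import Cfsg.Agent.Lib.FourFree.Config.OuterFrame
import Cfsg.Agent.Lib.PGroup.CharPLocal

/-!
# Proper constrained overgroups of a conjugate of `B₀`

In the frame of the outer member every proper constrained subgroup containing a conjugate of `B₀` lies
in the conjugate of `M`; it need not contain `O₂`.  In particular this applies to `2`-local subgroups.
-/

set_option autoImplicit false
set_option linter.style.haveILetI false
set_option linter.unusedSectionVars false

open Subgroup
open CfsgLib.Fusion (conjBy mem_conjBy conj_mem_conjBy conjBy_le_iff conjBy_eq_iff conjBy_mono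
  conjBy_conjBy conjBy_inv_conjBy conjBy_conjBy_inv card_conjBy)

namespace CfsgLib.FourFree.Stellmacher

universe u

section constrained

variable {G : Type u} [Group G] [Finite G]

/-- The centralizer of a `2`-subgroup of a constrained group is constrained. -/
theorem constrained_centralizer (hcon : centralizer (Cfsg.pCore 2 G : Set G) ≤ Cfsg.pCore 2 G)
    {R : Subgroup G} (hR : IsPGroup 2 R) :
    centralizer (Cfsg.pCore 2 ↥(centralizer (R : Set G)) : Set ↥(centralizer (R : Set G))) ≤
      Cfsg.pCore 2 ↥(centralizer (R : Set G)) := by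
  haveI : Fact (Nat.Prime 2) := ⟨Nat.prime_two⟩
  have h := CfsgLib.Invol.pClean_inf_centralizer (X := (⊤ : Subgroup G)) (p := 2) (P := R)
    (CfsgLib.Invol.pClean_congr Subgroup.topEquiv.symm
      (CfsgLib.Invol.pClean_of_centralizer_le hcon)) hR (by rw [Subgroup.normalizer_eq_top]; exact le_top)
  rw [top_inf_eq] at h
  exact h.centralizer_le

/-- The normalizer of a `2`-subgroup of a constrained group is constrained. -/
theorem constrained_normalizer (hcon : centralizer (Cfsg.pCore 2 G : Set G) ≤ Cfsg.pCore 2 G)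
    {R : Subgroup G} (hR : IsPGroup 2 R) :
    centralizer (Cfsg.pCore 2 ↥(normalizer (R : Set G)) : Set ↥(normalizer (R : Set G))) ≤
      Cfsg.pCore 2 ↥(normalizer (R : Set G)) := by
  haveI : Fact (Nat.Prime 2) := ⟨Nat.prime_two⟩
  exact ((CfsgLib.CharPLoc.pClean_normalizer_iff hR).2
    (CfsgLib.Invol.pClean_of_centralizer_le (constrained_centralizer hcon hR))).centralizer_le

end constrained

section outer

variable {S G : Type u} [Group S] [Group G] [Finite G] {σ : S →* G} {m : ℕ}
  {N B₀ : Subgroup G}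

variable (ho : Outer σ m N B₀)

include ho

/-- The closure of a `2`-subgroup containing a conjugate of `B₀` is not normal. -/
theorem Outer.closureIn_ne_top' {R : Subgroup G} (hR : IsPGroup 2 R) {g : G}
    (hg : conjBy g B₀ ≤ R) : normalizer (closureIn m N R : Set G) ≠ ⊤ := by
  intro e
  haveI hn : (closureIn m N R).Normal := Subgroup.normalizer_eq_top_iff.1 e
  have hB : B₀ ≤ conjBy g⁻¹ R := le_trans (by rw [conjBy_inv_conjBy]) (conjBy_mono (g := g⁻¹) hg)
  refine ho.not_normal _ (hR.map _) hB ?_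
  have e1 : ∀ y : G, conjBy y (closureIn m N R) = closureIn m N R := fun y =>
    conjBy_eq_iff.2 (e ▸ mem_top y)
  have h1 := conjBy_closureIn_le (m := m) ho.normal g⁻¹ R
  have h2 := conjBy_closureIn_le (m := m) ho.normal g (conjBy g⁻¹ R)
  rw [conjBy_conjBy_inv] at h2
  rw [e1] at h1
  have h3 : closureIn m N (conjBy g⁻¹ R) ≤ closureIn m N R := by
    have := conjBy_mono (g := g⁻¹) h2
    rwa [conjBy_inv_conjBy, e1] at this
  rw [le_antisymm h3 h1]
  exact hn

/-- A proper constrained subgroup normalizes the closure of its Sylow subgroup. -/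
theorem Outer.le_normalizer_closureIn' {K R : Subgroup G} (hK : K ≠ ⊤) (hRK : R ≤ K)
    (hcon : centralizer (Cfsg.pCore 2 K : Set K) ≤ Cfsg.pCore 2 K) (hR : IsPGroup 2 R)
    (hi : ¬ 2 ∣ R.relIndex K) : K ≤ normalizer (closureIn m N R : Set G) := by
  haveI : Fact (Nat.Prime 2) := ⟨Nat.prime_two⟩
  have hm : IsMember ↥K (Subgroup.inclusion hRK) := by
    refine ⟨Subgroup.inclusion_injective hRK,
      ⟨(hR.of_equiv (Subgroup.subgroupOfEquivOfLe hRK).symm).toSylow hi, ?_⟩,
      fun h => ho.member.free (CfsgLib.Fusion.involves_of_injective K.subtype K.subtype_injective h),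
      hcon⟩
    show R.subgroupOf K = _
    rw [Subgroup.inclusion_range]
  have hlt : Nat.card K < Nat.card G :=
    (CfsgLib.Fusion.card_lt_card_of_lt (lt_top_iff_ne_top.2 hK)).trans_eq Subgroup.card_top
  obtain ⟨hsafe, hVN⟩ := sSup_safeIn (m := m) (N := N) R
  set V := sSup (safeIn m N R)
  haveI := ho.normal
  have hle : spanOf (Subgroup.inclusion hRK) V ≤ V := by
    refine le_sSup ⟨ho.span R K _ hm hlt V hsafe, ?_⟩
    rintro _ ⟨r, hr, rfl⟩
    have h1 : normalClosure ((V.map (Subgroup.inclusion hRK) : Subgroup K) : Set K) ≤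
        N.subgroupOf K := normalClosure_le_normal fun x hx => by
      obtain ⟨v, hv, rfl⟩ := hx
      exact hVN ⟨v, hv, rfl⟩
    exact h1 hr
  have hn := normal_of_span_le hm (hsafe.le_core_self hm (hlt.trans ho.card_lt)) hle
  intro x hx
  have h1 := le_normalizer_map (H := V.map (Subgroup.inclusion hRK))
    K.subtype (mem_map_of_mem _ ((Subgroup.normalizer_eq_top_iff.2 hn).ge (mem_top ⟨x, hx⟩)))
  rw [map_map] at h1
  exact h1

/-- Every proper constrained subgroup containing a conjugate of `B₀` lies in the conjugate of `M`. -/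
theorem Outer.le_conj_of_constrained {K : Subgroup G} (hK : K ≠ ⊤)
    (hcon : centralizer (Cfsg.pCore 2 K : Set K) ≤ Cfsg.pCore 2 K) {y : G}
    (hy : conjBy y B₀ ≤ K) : K ≤ conjBy y (normalizer (closureIn m N σ.range : Set G)) := by
  haveI : Fact (Nat.Prime 2) := ⟨Nat.prime_two⟩
  have hPp := ho.range_isPGroup
  obtain ⟨P₀, hP₀⟩ := ho.member.sylow
  have hPi : ¬ 2 ∣ σ.range.relIndex ⊤ := by rw [relIndex_top_right, ← hP₀]; exact P₀.not_dvd_index
  -- descending induction on the Sylow subgroup
  suffices key : ∀ (n : ℕ) (K R : Subgroup G), K ≠ ⊤ →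
      centralizer (Cfsg.pCore 2 K : Set K) ≤ Cfsg.pCore 2 K → conjBy y B₀ ≤ R → R ≤ K →
      IsPGroup 2 R → ¬ 2 ∣ R.relIndex K → Nat.card σ.range - Nat.card R = n →
      K ≤ conjBy y (normalizer (closureIn m N σ.range : Set G)) by
    obtain ⟨R, hBR, hRK, hRp, hRi⟩ := CfsgLib.Fusion.exists_le_not_dvd_relIndex
      ((hPp.to_le ho.le_range).map (MulAut.conj y).toMonoidHom) hy
    exact key _ K R hK hcon hBR hRK hRp hRi rfl
  intro n
  induction n using Nat.strong_induction_on with
  | _ n ih =>
  intro K R hK hcon hBR hRK hRp hRi hn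
  set K1 := normalizer (closureIn m N R : Set G) with hK1
  have hKK1 : K ≤ K1 := ho.le_normalizer_closureIn' hK hRK hcon hRp hRi
  obtain ⟨x, -, hx⟩ := CfsgLib.Fusion.exists_conj_le_of_not_dvd_relIndex hPp le_top hPi hRp le_top
  rcases eq_or_lt_of_le hx with e | hlt
  · have e' : R = conjBy x⁻¹ σ.range := by rw [← e, conjBy_inv_conjBy]
    have h1 : K ≤ conjBy x⁻¹ (normalizer (closureIn m N σ.range : Set G)) := by
      refine hKK1.trans (le_of_eq ?_)
      have ha := conjBy_closureIn_le (m := m) ho.normal x⁻¹ σ.range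
      have hb := conjBy_closureIn_le (m := m) ho.normal x R
      rw [← e'] at ha
      rw [e] at hb
      have : conjBy x⁻¹ (closureIn m N σ.range) = closureIn m N R := by
        refine le_antisymm ha ?_
        have := conjBy_mono (g := x⁻¹) hb
        rwa [conjBy_inv_conjBy] at this
      rw [hK1, ← this, CfsgLib.Fusion.conjBy_normalizer]
    have hxy : x * y ∈ normalizer (closureIn m N σ.range : Set G) := ho.closed (by
      rw [← conjBy_conjBy]
      refine (conjBy_mono (g := x) (hBR.trans (hRK.trans h1))).trans ?_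
      rw [conjBy_conjBy_inv])
    refine h1.trans (le_of_eq ?_)
    have h2 : conjBy (x * y) (normalizer (closureIn m N σ.range : Set G)) =
        normalizer (closureIn m N σ.range : Set G) := conjBy_eq_iff.2 (le_normalizer hxy)
    conv_lhs => rw [← h2, conjBy_conjBy, inv_mul_cancel_left]
  · have hlt' : R < (conjBy x⁻¹ σ.range) ⊓ normalizer (R : Set G) := by
      refine CfsgLib.Subnormalizer.lt_inf_normalizer (hPp.map _) (lt_of_le_of_ne ?_ ?_)
      · have := conjBy_mono (g := x⁻¹) hx
        rwa [conjBy_inv_conjBy] at this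
      · intro e
        exact hlt.ne (by rw [e, conjBy_conjBy_inv])
    set R1 := (conjBy x⁻¹ σ.range) ⊓ normalizer (R : Set G)
    have hR1K1 : R1 ≤ K1 :=
      inf_le_right.trans (normalizer_le_normalizer_closureIn ho.normal R)
    have hR1p : IsPGroup 2 R1 := (hPp.map _).to_le inf_le_left
    obtain ⟨R2, h12, h2K, h2p, h2i⟩ := CfsgLib.Fusion.exists_le_not_dvd_relIndex hR1p hR1K1
    have hC : IsPGroup 2 (closureIn m N R) := hRp.to_le (closureIn_le R)
    have hcard : Nat.card R < Nat.card R2 :=
      (CfsgLib.Fusion.card_lt_card_of_lt hlt').trans_le (card_le_of_le h12)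
    have hle2 : Nat.card R2 ≤ Nat.card σ.range := by
      obtain ⟨z, -, hz⟩ :=
        CfsgLib.Fusion.exists_conj_le_of_not_dvd_relIndex hPp le_top hPi h2p le_top
      rw [← card_conjBy z R2]
      exact card_le_of_le hz
    exact hKK1.trans (ih _ (by omega) K1 R2 (ho.closureIn_ne_top' hRp hBR)
      (constrained_normalizer ho.member.constrained hC) (hBR.trans (hlt'.le.trans h12))
      h2K h2p h2i rfl)

end outer

section config

variable {S T G G' : Type u} [Group S] [Group T] [Group G] [Group G'] [Finite S] [Finite T]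
  [Finite G] [Finite G'] {f : T →* S} {τ : T →* G} {τ' : S →* G'} {U : Subgroup S}
  (hc : HConfig S T G G' f τ τ' U)

include hc

/-- The frame of the outer member, with the proper constrained overgroups of conjugates of `B₀`. -/
theorem HConfig.exists_outer_local : ∃ M C : Subgroup G', τ'.range ≤ M ∧ M ≠ ⊤ ∧
    (∀ K : Subgroup G', K ≠ ⊤ → Cfsg.pCore 2 G' ⊔ f.range.map τ' ≤ K → K ≤ M) ∧
    (∀ g, conjBy g (f.range.map τ') ≤ M → g ∈ M) ∧
    M ≤ normalizer (C : Set G') ∧ U.map τ' ≤ C ∧
    (∀ x ∈ C, ∃ t ∈ (spanOf τ' U).comap f, τ' (f t) = x ∧ τ t ∈ center G) ∧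
    ∀ K : Subgroup G', K ≠ ⊤ → centralizer (Cfsg.pCore 2 K : Set K) ≤ Cfsg.pCore 2 K →
      ∀ y, conjBy y (f.range.map τ') ≤ K → K ≤ conjBy y M := by
  haveI : Fact (Nat.Prime 2) := ⟨Nat.prime_two⟩
  obtain ⟨m, hGm, hG'm, hUm, hspan⟩ := hc.least'
  set N := normalClosure (U.map τ' : Set G') with hN
  haveI hNn : N.Normal := normalClosure_normal
  have hUN : U.map τ' ≤ N := subset_normalClosure
  have hNB := hc.normalClosure_le
  have hBr : f.range.map τ' ≤ τ'.range := map_le_range τ' _
  have hUC : ∀ R : Subgroup G', R ≤ τ'.range → U.map τ' ≤ R → U.map τ' ≤ closureIn m N R :=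
    fun R h1 h2 => le_closureIn hc.member'.inj hUm hUN h1 h2
  -- the part in `T`
  have hpull : ∀ R : Subgroup G', f.range.map τ' ≤ R →
      ∃ V : Subgroup T, HSafe m V ∧ ∀ t, t ∈ V ↔ τ' (f t) ∈ closureIn m N R := by
    intro R hBR
    let j : T →* R := (τ'.comp f).codRestrict R fun t => hBR (mem_map_of_mem τ' ⟨t, rfl⟩)
    have hj : Function.Injective j := fun a b h =>
      hc.inj (hc.member'.inj (congrArg Subtype.val h))
    refine ⟨(sSup (safeIn m N R)).comap j, (sSup_safeIn R).1.comap hj ?_, fun t => ?_⟩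
    · intro r hr
      obtain ⟨_, ⟨t, rfl⟩, ht⟩ := hNB ((sSup_safeIn R).2 ⟨r, hr, rfl⟩)
      exact ⟨t, Subtype.ext ht⟩
    · constructor
      · exact fun h => ⟨j t, h, rfl⟩
      · rintro ⟨r, hr, hre⟩
        show j t ∈ sSup (safeIn m N R)
        rwa [show j t = r from Subtype.ext hre.symm]
  have ho : Outer τ' m N (f.range.map τ') := by
    refine ⟨hc.member', hNn, hBr, hG'm, hspan, fun R hR hBR hn => ?_⟩
    obtain ⟨P₀, hP₀⟩ := hc.member'.sylow
    obtain ⟨x, -, hx⟩ := CfsgLib.Fusion.exists_conj_le_of_not_dvd_relIndex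
      (hP₀ ▸ P₀.2 : IsPGroup 2 τ'.range) le_top
      (by rw [relIndex_top_right, ← hP₀]; exact P₀.not_dvd_index) hR le_top
    haveI := hn
    have h1 : U.map τ' ≤ closureIn m N R := by
      have hUx : U.map τ' ≤ conjBy x R := by
        refine hUN.trans (le_trans (le_of_eq ?_) (conjBy_mono (g := x) (hNB.trans hBR)))
        exact (conjBy_eq_iff.2 (by rw [normalizer_eq_top]; exact mem_top x)).symm
      have h2 := conjBy_closureIn_le (m := m) hNn x⁻¹ (conjBy x R)
      rw [conjBy_inv_conjBy] at h2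
      have h3 := (conjBy_mono (g := x) ((conjBy_mono (hUC _ hx hUx)).trans h2))
      rwa [conjBy_conjBy_inv, conjBy_eq_iff.2 (by rw [normalizer_eq_top]; exact mem_top x)] at h3
    obtain ⟨V, hV, hVe⟩ := hpull R hBR
    refine hc.not_le ((map_mono fun t ht => (hVe t).2 ?_).trans (hV.le_core_self hc.member hGm))
    exact (normalClosure_le_normal (N := closureIn m N R) fun y hy => h1 hy) ht
  refine ⟨_, closureIn m N τ'.range, ho.range_le, ho.ne_top, fun K hK hle => ho.le_of_ne_top hK hle,
    fun g hg => ho.closed hg, le_rfl, hUC _ le_rfl (map_le_range τ' U), fun x hx => ?_,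
    fun K hK hcon y hy => ho.le_conj_of_constrained hK hcon hy⟩
  obtain ⟨_, ⟨t, rfl⟩, rfl⟩ := hNB (closureIn_le_right _ hx)
  obtain ⟨V, hV, hVe⟩ := hpull τ'.range hBr
  have htW : t ∈ (spanOf τ' U).comap f := closureIn_le_right (m := m) (N := N) τ'.range hx
  refine ⟨t, htW, rfl, hc.mem_center_of ?_ (mem_centralizer_iff.2 fun w hw => ?_)⟩
  · have h := (hc.member.normal_of_good hc.isMinimal (hc.span_good.comap hc.inj hc.span_range)
      hc.not_le hV.good (hV.le_core_self hc.member hGm)).2
    exact mem_centralizer_iff.2 fun d hd =>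
      (mem_centralizer_iff.1 (h hd) _ (mem_map_of_mem τ ((hVe t).2 hx))).symm
  · exact (commute_of_sq' (sq_map (hc.span_good.comap hc.inj hc.span_range).sq) hw
      (mem_map_of_mem τ htW)).eq


/-- A constrained subgroup containing `B₀` and a conjugate by an element outside `M` is everything. -/
theorem eq_top_of_two_conj {G : Type u} [Group G] {M B₀ : Subgroup G}
    (hclosed : ∀ g, conjBy g B₀ ≤ M → g ∈ M)
    (hloc : ∀ K : Subgroup G, K ≠ ⊤ → centralizer (Cfsg.pCore 2 K : Set K) ≤ Cfsg.pCore 2 K →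
      ∀ y, conjBy y B₀ ≤ K → K ≤ conjBy y M)
    {K : Subgroup G} (hcon : centralizer (Cfsg.pCore 2 K : Set K) ≤ Cfsg.pCore 2 K)
    {g : G} (hg : g ∉ M) (h1 : B₀ ≤ K) (h2 : conjBy g B₀ ≤ K) : K = ⊤ := by
  by_contra hK
  have h : K ≤ M := by
    have := hloc K hK hcon 1 (conjBy_le_iff.2 fun b hb => by simpa using h1 hb)
    intro k hk
    simpa using mem_conjBy.1 (this hk)
  exact hg (hclosed g (h2.trans h))

end config

end CfsgLib.FourFree.Stellmacher
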