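import Cfsg.Agent.Lib.FourFree.Config.Points
import Cfsg.Agent.Lib.Coprime.Core
import Cfsg.Agent.Lib.Coprime.Subnormal

/-!
# Minimal pairs of conjugates of a `2`-subgroup

Among the joins of `A` with its conjugates which are not `2`-groups take a minimal one: there `A`
lies in a unique maximal subgroup `M`, in `O₂(M)`, and generates with each conjugate from outside
`M` (Wielandt).
-/

set_option autoImplicit false
set_option linter.style.haveILetI false

open Subgroup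
open CfsgLib.Fusion (conjBy mem_conjBy conjBy_le_iff conj_mem_conjBy)
open CfsgLib.CFun (delt fixOf mem_fixOf)

namespace CfsgLib.FourFree

universe u v

variable {G : Type u} [Group G] [Finite G]

theorem isSubnormal_subgroupOf_of_isPGroup {A X : Subgroup G} (hX : IsPGroup 2 X) :
    (A.subgroupOf X).IsSubnormal := by
  haveI : Fact (Nat.Prime 2) := ⟨Nat.prime_two⟩
  haveI := hX.isNilpotent
  exact CfsgLib.PGroup.isSubnormal_of_isNilpotent _

/-- A `2`-subgroup outside `O₂` generates a non-`2`-group with some conjugate. -/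
theorem exists_join_not_isPGroup {A : Subgroup G} (hA : IsPGroup 2 A)
    (hAP : ¬ A ≤ Cfsg.pCore 2 G) : ∃ g : G, ¬ IsPGroup 2 (A ⊔ conjBy g A : Subgroup G) := by
  haveI : Fact (Nat.Prime 2) := ⟨Nat.prime_two⟩
  by_contra h
  push Not at h
  exact hAP (CfsgLib.Coprime.le_pCore_of_isSubnormal
    (CfsgLib.Coprime.isSubnormal_of_subnormal_in_join_conj fun g =>
      isSubnormal_subgroupOf_of_isPGroup (h g)) hA)

/-- A minimal non-`2`-group among the joins with a conjugate. -/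
theorem exists_minimal_join {A : Subgroup G} (hA : IsPGroup 2 A) (hAP : ¬ A ≤ Cfsg.pCore 2 G) :
    ∃ g : G, ¬ IsPGroup 2 (A ⊔ conjBy g A : Subgroup G) ∧ ∀ l ∈ A ⊔ conjBy g A,
      A ⊔ conjBy l A = A ⊔ conjBy g A ∨ IsPGroup 2 (A ⊔ conjBy l A : Subgroup G) := by
  obtain ⟨g, hg, hmin⟩ := (Set.toFinite {g : G | ¬ IsPGroup 2 (A ⊔ conjBy g A : Subgroup G)}
    ).exists_minimalFor (fun g => Nat.card (A ⊔ conjBy g A : Subgroup G)) _
    (exists_join_not_isPGroup hA hAP)
  refine ⟨g, hg, fun l hl => or_iff_not_imp_right.2 fun h => ?_⟩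
  have hle : A ⊔ conjBy l A ≤ A ⊔ conjBy g A := sup_le le_sup_left
    (conjBy_le_iff.2 fun x hx =>
      mul_mem (mul_mem hl (mem_sup_left hx)) (inv_mem hl))
  exact eq_of_le_of_card_ge hle (hmin h (card_le_of_le hle))

/-- In a group generated by `A` and each conjugate with which it makes no `2`-group, `A` lies in a
unique maximal subgroup and in its `O₂`. -/
theorem exists_max {A : Subgroup G} (hA : IsPGroup 2 A) (hAP : ¬ A ≤ Cfsg.pCore 2 G)
    (hmin : ∀ g : G, A ⊔ conjBy g A = ⊤ ∨ IsPGroup 2 (A ⊔ conjBy g A : Subgroup G)) :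
    ∃ M : Subgroup G, M ≠ ⊤ ∧ A ≤ (Cfsg.pCore 2 M).map M.subtype ∧
      (∀ K : Subgroup G, A ≤ K → K ≠ ⊤ → K ≤ M) ∧ ∀ h, h ∉ M → A ⊔ conjBy h A = ⊤ := by
  haveI : Fact (Nat.Prime 2) := ⟨Nat.prime_two⟩
  have hsub : ∀ X : Subgroup G, A ≤ X → X ≠ ⊤ → (A.subgroupOf X).IsSubnormal := by
    intro X hAX hX
    refine CfsgLib.Coprime.isSubnormal_of_subnormal_in_join_conj fun x => ?_
    have hle : A ⊔ conjBy (x : G) A ≤ X := sup_le hAX (conjBy_le_iff.2 fun y hy =>
      mul_mem (mul_mem x.2 (hAX hy)) (inv_mem x.2))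
    have hp : IsPGroup 2 (A ⊔ conjBy (x : G) A : Subgroup G) :=
      (hmin x).resolve_left fun e => hX (top_le_iff.1 (e ▸ hle))
    refine isSubnormal_subgroupOf_of_isPGroup ((hp.of_equiv (subgroupOfEquivOfLe hle).symm).to_le ?_)
    refine sup_le (fun y hy => mem_sup_left (show (y : G) ∈ A from hy)) (conjBy_le_iff.2 fun y hy => ?_)
    exact mem_sup_right (show (x : G) * y * (x : G)⁻¹ ∈ conjBy (x : G) A from conj_mem_conjBy hy)
  have hns : ¬ A.IsSubnormal := fun h => hAP (CfsgLib.Coprime.le_pCore_of_isSubnormal h hA)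
  obtain ⟨M, hM, hAM, huniq⟩ := CfsgLib.Coprime.zipper hns hsub
  refine ⟨M, hM.1, ?_, huniq, fun h hh => ?_⟩
  · have := CfsgLib.Coprime.le_pCore_of_isSubnormal (hsub M hAM hM.1)
      (hA.of_equiv (subgroupOfEquivOfLe hAM).symm)
    exact fun a ha => ⟨⟨a, hAM ha⟩, this ha, rfl⟩
  by_contra hne
  have hle : conjBy h A ≤ M := (le_sup_right : conjBy h A ≤ A ⊔ conjBy h A).trans
    (huniq _ le_sup_left hne)
  have hAh : A ≤ conjBy h⁻¹ M := fun a ha => mem_conjBy.2 (by
    rw [inv_inv]; exact hle (conj_mem_conjBy ha))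
  have hh' : conjBy h⁻¹ M ≤ M := huniq _ hAh fun e => hM.1 (eq_top_of_card_eq M (by
    rw [← CfsgLib.Fusion.card_conjBy h⁻¹ M, e, card_top]))
  have hn : h⁻¹ ∈ normalizer (M : Set G) := CfsgLib.Fusion.conjBy_eq_iff.1
    (CfsgLib.Fusion.conjBy_eq_of_le hh')
  rcases hM.le_iff.1 (le_normalizer (H := M)) with e | e
  · exact hns (Subgroup.IsSubnormal.trans hAM (hsub M hAM hM.1)
      (Subgroup.Normal.isSubnormal (normalizer_eq_top_iff.1 e)))
  · exact hh (by simpa using inv_mem (show h⁻¹ ∈ M from e ▸ hn))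

variable {V : Type v} [CommGroup V] [Finite V] {ρ : G →* MulAut V}

/-- The hypotheses of the coset bound from a minimal pair. -/
theorem Halves.of_gen {A M : Subgroup G} (two : ∀ x : V, x * x = 1) (hg : HG G)
    (sq : ∀ a ∈ A, a * a = 1) (quad : ∀ a ∈ A, ∀ x : V, delt ρ a x ∈ fixOf ρ A)
    (fix : ∀ a ∈ A, a ≠ 1 → ∀ x : V, ρ a x = x → x ∈ fixOf ρ A)
    (hM : A ≤ (Cfsg.pCore 2 M).map M.subtype) (hne : fixOf ρ A ≠ ⊥)
    (gen : ∀ h, h ∉ M → A ⊔ conjBy h A = ⊤) (htriv : ∀ x : V, (∀ g, ρ g x = x) → x = 1)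
    (hcard : Nat.card V = Nat.card (fixOf ρ A) * Nat.card (fixOf ρ A)) :
    Halves ρ A M (fixOf ρ ((Cfsg.pCore 2 M).map M.subtype)) := by
  haveI : Fact (Nat.Prime 2) := ⟨Nat.prime_two⟩
  set R := (Cfsg.pCore 2 M).map M.subtype
  refine ⟨two, hg, sq, quad, fix, hM.trans (map_subtype_le _), fun g hgM x hx hgx => ?_, hcard,
    fun x hx => mem_fixOf.2 fun a ha => mem_fixOf.1 hx a (hM ha), ?_, fun m hm x hx => ?_⟩
  · have key : ρ g x = 1 := by
      refine htriv _ fun k => ?_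
      have : (⊤ : Subgroup G) ≤ ptFix ρ (zpowers (ρ g x)) := by
        refine (gen g hgM).ge.trans (sup_le (le_ptFix_iff.2 (zpowers_le.2 hgx))
          (le_ptFix_iff.2 (zpowers_le.2 ?_)))
        rw [fixOf_conjBy]
        exact ⟨x, hx, rfl⟩
      exact this (mem_top k) _ (mem_zpowers _)
    simpa using congrArg (ρ g⁻¹) key
  · intro e
    have hV : (⊤ : Subgroup V) ≠ ⊥ := fun h => hne (le_bot_iff.1 (h ▸ le_top))
    obtain ⟨x, -, hx1, hx⟩ := exists_fixed (ρ := ρ) two (X := R)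
      ((CfsgLib.PGroup.isPGroup_pCore 2 M).map _) hV (le_setFix fun _ _ _ _ => mem_top _)
    exact hx1 (mem_bot.1 (e ▸ hx))
  · refine mem_fixOf.2 fun r hr => ?_
    haveI : (Cfsg.pCore 2 M).Normal := Subgroup.sSup_normal _ fun N hN => hN.1
    obtain ⟨r', hr', rfl⟩ := hr
    have := mem_fixOf.1 hx _ (mem_map_of_mem M.subtype
      (Subgroup.Normal.conj_mem inferInstance r' hr' (⟨m, hm⟩⁻¹ : M)))
    have h := congrArg (ρ m) this
    simp only [coe_subtype, Subgroup.coe_mul, Subgroup.coe_inv, inv_inv, map_mul, MulAut.mul_apply,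
      apply_apply_inv] at h
    exact h

end CfsgLib.FourFree
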