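import Cfsg.Agent.Lib.FourFree.Config.Points

/-!
# The coset bound with commutators: `|B| ^ 2 |[P, d]| ≤ h`

Here `V` is a central quotient of `D` in which the half of `B` and all its translates lift to
involutions.
-/

set_option autoImplicit false

open Subgroup
open scoped commutatorElement
open CfsgLib.CFun (delt fixOf mem_fixOf)

namespace CfsgLib.FourFree

universe u v w

variable {G : Type u} [Group G] [Finite G] {V : Type v} [CommGroup V] [Finite V]
  {ρ : G →* MulAut V} {B M : Subgroup G} {C₁ : Subgroup V} {D : Type w} [Group D] [Finite D]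

/-- `|B| ^ 2 |ker q|` is at most the centralizer in the lift `P` of the half. -/
theorem Halves.sq_card_mul_le (hs : Halves ρ B M C₁) {g₀ : G} (hg₀ : g₀ ∉ M) (q : D →* V)
    (hker : q.ker ≤ Subgroup.center D) (P : Subgroup D) (hP2 : ∀ p ∈ P, p * p = 1)
    (hkP : q.ker ≤ P) (hPC : P.map q = fixOf ρ B)
    (hsing : ∀ g, ∀ x ∈ fixOf ρ B, ∃ d : D, q d = ρ g x ∧ d * d = 1)
    {x₀ : V} (hx₀ : x₀ ∈ fixOf ρ B) (hx₁ : x₀ ≠ 1) {d₀ : D} (hd₀ : q d₀ = ρ g₀ x₀)
    (hd₀2 : d₀ * d₀ = 1) :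
    Nat.card B * Nat.card B * Nat.card q.ker ≤
      Nat.card (P ⊓ Subgroup.centralizer ({d₀} : Set D) : Subgroup D) := by
  set K := P ⊓ Subgroup.centralizer ({d₀} : Set D)
  have hle := hs.sq_card_le hg₀ hx₀ hx₁ {v | ∃ d : D, q d = v ∧ d * d = 1}
    (fun g x hx => hsing g x hx)
  have hkK : q.ker ≤ K := le_inf hkP fun z hz => mem_centralizer_singleton_iff.2
    (Subgroup.mem_center_iff.1 (hker hz) d₀).symm
  have h2 : Nat.card {c // c ∈ fixOf ρ B ∧ c * ρ g₀ x₀ ∈ {v | ∃ d : D, q d = v ∧ d * d = 1}} ≤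
      Nat.card (K.map q) := by
    refine Nat.card_le_card_of_injective (fun c => ⟨c.1, ?_⟩)
      fun a b e => Subtype.ext (congrArg Subtype.val e :)
    obtain ⟨hc, d, hd, hdd⟩ := c.2
    obtain ⟨p, hp, hpc⟩ := hPC.ge hc
    refine ⟨p, ⟨hp, mem_centralizer_singleton_iff.2 ?_⟩, hpc⟩
    set z := (p * d₀)⁻¹ * d with hz
    have hzk : z ∈ q.ker := by
      rw [MonoidHom.mem_ker, hz, map_mul, map_inv, map_mul, hpc, hd₀, hd, inv_mul_cancel]
    have hzc : z * (p * d₀) = p * d₀ * z := (Subgroup.mem_center_iff.1 (hker hzk) _).symm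
    have hzd : d = p * d₀ * z := by rw [hz, mul_inv_cancel_left]
    have e : p * d₀ * (p * d₀) = 1 := by
      have h1 : p * d₀ * z * (p * d₀ * z) = 1 := hzd ▸ hdd
      rwa [mul_assoc _ z, ← mul_assoc z, hzc, mul_assoc _ z z, hP2 z (hkP hzk), mul_one] at h1
    calc p * d₀ = (p * d₀)⁻¹ := eq_inv_of_mul_eq_one_left e
      _ = d₀ * p := by
        rw [mul_inv_rev, inv_eq_of_mul_eq_one_right hd₀2, inv_eq_of_mul_eq_one_right (hP2 p hp)]
  have h3 : Nat.card (K.map q) * Nat.card q.ker = Nat.card K := by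
    rw [← relIndex_ker, mul_comm, CfsgLib.CFun.card_mul_relIndex' hkK]
  calc Nat.card B * Nat.card B * Nat.card q.ker
      ≤ Nat.card (K.map q) * Nat.card q.ker := Nat.mul_le_mul (hle.trans h2) le_rfl
    _ = Nat.card K := h3

/-- If `d₀` has all of `Z` as commutators with `P`, its centralizer has index at least `|Z|`. -/
theorem card_inf_centralizer_mul_le (P Z : Subgroup D) (d₀ : D)
    (hsurj : ∀ z ∈ Z, ∃ p ∈ P, ⁅p, d₀⁆ = z) :
    Nat.card (P ⊓ Subgroup.centralizer ({d₀} : Set D) : Subgroup D) * Nat.card Z ≤ Nat.card P := by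
  choose f hf hfz using fun z : Z => hsurj z z.2
  rw [← Nat.card_prod]
  refine Nat.card_le_card_of_injective (fun kz => ⟨f kz.2 * kz.1.1, mul_mem (hf _) kz.1.2.1⟩)
    fun a b e => ?_
  have e' : f a.2 * (a.1.1 : D) = f b.2 * b.1.1 := congrArg Subtype.val e
  have key : ∀ (z : Z) (k : (P ⊓ Subgroup.centralizer ({d₀} : Set D) : Subgroup D)),
      ⁅f z * (k : D), d₀⁆ = z := by
    intro z k
    have hk : (k : D) * d₀ = d₀ * k := mem_centralizer_singleton_iff.1 k.2.2
    rw [commutatorElement_def, mul_inv_rev, mul_assoc (f z), hk]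
    simp only [mul_assoc, mul_inv_cancel_left]
    conv_rhs => rw [← hfz z, commutatorElement_def]
    simp only [mul_assoc]
  have h2 : a.2 = b.2 := Subtype.ext (by rw [← key a.2 a.1, ← key b.2 b.1, e'])
  rw [h2] at e'
  exact Prod.ext (Subtype.ext (mul_left_cancel e')) h2

end CfsgLib.FourFree
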